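import Cfsg.Agent.Lib.MonsterType.Three.Perm
import Cfsg.Agent.Lib.MonsterType.Orbit

/-! The centraliser of the permutation in the automorphism group of the lattice: its action on the fixed
classes, six explicit elements, and a bound for its order. -/

set_option autoImplicit false
set_option maxRecDepth 20000

namespace CfsgLib.MonsterType.Three

open Cfsg CfsgLib.Golay CfsgLib.LeechEight CfsgLib.Sporadic

theorem co0_ext {γ δ : Co0} (h : ∀ v : leechLattice, γ • v = δ • v) : γ = δ := ext_latE fun j => h _

theorem permW_mul (σ τ : M24) : permW (σ * τ) = permW σ * permW τ := map_mul permHom σ τ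

/-- The centraliser. -/
abbrev centK : Subgroup Co0 := Subgroup.centralizer ({triW} : Set Co0)

theorem mem_centK {γ : Co0} : γ ∈ centK ↔ γ * triW = triW * γ := Subgroup.mem_centralizer_singleton_iff

theorem fixed_smul_cent {γ : Co0} (hγ : γ ∈ centK) {v : leechLattice} (hv : Fixed v) : Fixed (γ • v) := by
  have h := hv.smul' γ
  rwa [← mul_smul, mem_centK.mp hγ, mul_smul] at h

/-! ### The action on coordinates -/

/-- The action on coordinates. -/
def act (x : centK) (c : Fin 12 → ZMod 2) : Fin 12 → ZMod 2 := kap ((x : Co0) • ofKap c)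

theorem kap_smul (x : centK) {v : leechLattice} (hv : Fixed v) : kap ((x : Co0) • v) = act x (kap v) :=
  kap_cong ((cong_ofKap hv).smul' _)

theorem act_mul (x y : centK) (c : Fin 12 → ZMod 2) : act (x * y) c = act x (act y c) := by
  show kap (((x : Co0) * (y : Co0)) • ofKap c) = _
  rw [mul_smul, kap_smul x (fixed_smul_cent y.2 (fixed_ofKap c))]
  rfl

theorem act_one (c : Fin 12 → ZMod 2) : act 1 c = c := by
  show kap ((1 : Co0) • ofKap c) = c
  rw [one_smul, kap_ofKap]

theorem act_add (x : centK) (a b : Fin 12 → ZMod 2) : act x (a + b) = act x a + act x b := by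
  have h : Cong (ofKap (a + b)) (ofKap a + ofKap b) :=
    fixed_ext (fixed_ofKap _)
      (fixed_of_smul (by rw [smul_add']; exact congrArg₂ (· + ·) (tri_comb _) (tri_comb _)))
      (by rw [map_add, kap_ofKap, kap_ofKap, kap_ofKap])
  show kap ((x : Co0) • ofKap (a + b)) = _
  rw [kap_cong (h.smul' _), smul_add', map_add]
  rfl

/-- The action as additive maps. -/
def actHomAdd (x : centK) : (Fin 12 → ZMod 2) →+ (Fin 12 → ZMod 2) :=
  AddMonoidHom.mk' (act x) (act_add x)

theorem decC_pow : ∀ j : Fin 12, decC (2 ^ j.val) = fun k => if j = k then 1 else 0 := by decide +kernel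

theorem act_decC_pow (x : centK) (j : Fin 12) : act x (decC (2 ^ j.val)) = kap ((x : Co0) • bas j) := by
  rw [decC_pow, ← kap_bas j, ← kap_smul x (fixed_of_smul (tri_bas j))]

/-- The image of a code under a linear map given by the codes of the images of the basis. -/
def xorImg (cols : List ℕ) (n : ℕ) : ℕ → ℕ
  | 0 => 0
  | j + 1 => bif n.testBit j then Nat.xor (xorImg cols n j) (cols.getD j 0) else xorImg cols n j

theorem act_decC {x : centK} {cols : List ℕ} (h : ∀ j : Fin 12, kap ((x : Co0) • bas j) = decC (cols.getD j.val 0))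
    {n : ℕ} (hn : n < 4096) : act x (decC n) = decC (xorImg cols n 12) := by
  have hz : act x (decC 0) = decC 0 := by rw [decC_zero]; exact map_zero (actHomAdd x)
  have key : ∀ j ≤ 12, act x (decC (n % 2 ^ j)) = decC (xorImg cols n j) := by
    intro j
    induction j with
    | zero => intro _; rw [pow_zero, Nat.mod_one, xorImg]; exact hz
    | succ j ih =>
      intro hj
      have e : n % 2 ^ (j + 1) = (bif n.testBit j then n % 2 ^ j ^^^ 2 ^ j else n % 2 ^ j) := by
        refine Nat.eq_of_testBit_eq fun i => ?_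
        rw [Nat.testBit_mod_two_pow]
        cases hb : n.testBit j
        · rw [cond_false, Nat.testBit_mod_two_pow]
          rcases lt_trichotomy i j with h1 | h1 | h1
          · simp [h1, Nat.lt_succ_of_lt h1]
          · subst h1; simp [hb]
          · simp [show ¬ i < j + 1 by omega, show ¬ i < j by omega]
        · rw [cond_true, Nat.testBit_xor, Nat.testBit_mod_two_pow, Nat.testBit_two_pow]
          rcases lt_trichotomy i j with h1 | h1 | h1
          · simp [h1, Nat.lt_succ_of_lt h1, show ¬ j = i by omega]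
          · subst h1; simp [hb]
          · simp [show ¬ i < j + 1 by omega, show ¬ i < j by omega, show ¬ j = i by omega]
      rw [e, xorImg]
      cases hb : n.testBit j
      · exact ih (by omega)
      · simp only [cond_true]
        show act x (decC (n % 2 ^ j ^^^ 2 ^ j)) = decC (xorImg cols n j ^^^ cols.getD j 0)
        rw [decC_xor, act_add, ih (by omega), act_decC_pow x ⟨j, by omega⟩, h, decC_xor]
  have := key 12 le_rfl
  rwa [Nat.mod_eq_of_lt (show n < 2 ^ 12 by norm_num; omega)] at this

/-! ### Six elements -/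

/-- The rows of the six elements. -/
def rowsI (i : Fin 6) : List (List ℤ) := rowsL.getD i.val []

theorem testI0 : frameTest (rowsI 0) = true := by decide +kernel
theorem testI1 : frameTest (rowsI 1) = true := by decide +kernel
theorem testI2 : frameTest (rowsI 2) = true := by decide +kernel
theorem testI3 : frameTest (rowsI 3) = true := by decide +kernel
theorem testI4 : frameTest (rowsI 4) = true := by decide +kernel
theorem testI5 : frameTest (rowsI 5) = true := by decide +kernel

theorem testI : ∀ i : Fin 6, frameTest (rowsI i) = true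
  | ⟨0, _⟩ => testI0
  | ⟨1, _⟩ => testI1
  | ⟨2, _⟩ => testI2
  | ⟨3, _⟩ => testI3
  | ⟨4, _⟩ => testI4
  | ⟨5, _⟩ => testI5

theorem rows_comm : ∀ i : Fin 6, ∀ p k : GolayPt,
    rowsFrame (rowsI i) p (triP k) = rowsFrame (rowsI i) (triP.symm p) k := by decide +kernel

theorem rowsAut_mem (i : Fin 6) : rowsAut (testI i) ∈ centK := by
  refine mem_centK.mpr (co0_ext fun v => Subtype.ext (funext fun p => ?_))
  rw [mul_smul, mul_smul, triW_apply, coe_rowsAut, coe_rowsAut]
  congr 1
  simp only [dotInt, triW_apply]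
  rw [← Equiv.sum_comp triP]
  simp only [Equiv.symm_apply_apply, rows_comm]

/-- The six elements. -/
noncomputable def gEl (i : Fin 6) : centK := ⟨rowsAut (testI i), rowsAut_mem i⟩

/-- The image of a vector under rows. -/
def rowsAct (R : List (List ℤ)) (x : GolayPt → ℤ) : GolayPt → ℤ := fun p => dotInt x (rowsFrame R p) / 8

theorem cols_spec : ∀ i : Fin 6, ∀ j : Fin 12,
    kapOf (rowsAct (rowsI i) (basV j)) = decC ((colsL.getD i.val []).getD j.val 0) := by decide +kernel

/-- The image of a code under one of the six elements. -/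
def img (i : Fin 6) (n : ℕ) : ℕ := xorImg (colsL.getD i.val []) n 12

theorem act_gEl (i : Fin 6) {n : ℕ} (hn : n < 4096) : act (gEl i) (decC n) = decC (img i n) := by
  refine act_decC (fun j => ?_) hn
  rw [kap_eq, gEl, coe_rowsAut]
  exact cols_spec i j

theorem img_lt : ∀ i : Fin 6, ∀ n < 4096, img i n < 4096 := by
  have h : ∀ i : Fin 6, allFrom 0 4096 (fun n => Nat.blt (img i n) 4096) = true := by decide +kernel
  exact fun i n hn => Nat.le_of_ble_eq_true (of_allFrom_zero (h i) hn)

/-! ### Monomial elements and the bound -/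

theorem sgnW_injective {c d : golayCode} (h : sgnW c = sgnW d) : c = d := by
  refine Subtype.ext (funext fun j => ?_)
  have hj := congrArg (fun γ : Co0 => ((γ • LeechEight.latE j : leechLattice) : GolayPt → ℤ) j) h
  simp only [sgnW_apply, latE_apply, if_true] at hj
  rcases zmod2_cases (c.1 j) with e | e <;> rcases zmod2_cases (d.1 j) with e' | e' <;> simp_all

theorem tri_sgn (c : golayCode) :
    triW * sgnW c = sgnW ⟨_, act_code tri.2 c⟩ * triW := mul_inv_eq_iff_eq_mul.mp (perm_sgn tri c)

theorem mono_cent {c : golayCode} {π : M24} (h : sgnW c * permW π ∈ centK) :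
    (π : Equiv.Perm GolayPt) ∈ centPerm ∧ ∃ k ∈ fixK, enc c.1 = codeWord k := by
  have h1 := mem_centK.mp h
  have h2 : sgnW c * permW (π * tri) = sgnW ⟨_, act_code tri.2 c⟩ * permW (tri * π) := by
    rw [permW_mul, permW_mul, ← mul_assoc, ← mul_assoc]
    show sgnW c * permW π * triW = sgnW _ * triW * permW π
    rw [h1, ← tri_sgn, mul_assoc]
  have h3 : π * tri = tri * π := mono_unique h2
  have h4 : (⟨_, act_code tri.2 c⟩ : golayCode) = c := by
    apply sgnW_injective
    rw [h3] at h2
    exact (mul_right_cancel h2).symm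
  constructor
  · exact mem_centPerm.mpr ⟨π.2, congrArg Subtype.val h3⟩
  · obtain ⟨k, hk, hkc⟩ := exists_codeWord (mem_golayCode.mp c.2)
    refine ⟨k, ?_, hkc.symm⟩
    have h5 := List.all_eq_true.mp fixK_spec k (List.mem_range.mpr hk)
    simp only [Bool.or_eq_true, Bool.not_eq_true', List.contains_iff_mem] at h5
    refine h5.resolve_left ?_
    rw [Bool.not_eq_false, List.all_eq_true]
    intro i hi
    obtain ⟨p, rfl⟩ : ∃ p, (idx p).val = i := ⟨pt ⟨i, List.mem_range.mp hi⟩, by rw [idx_pt]⟩
    rw [beq_iff_eq, ← toList_triP, toList_getD, hkc, testBit_enc, testBit_enc]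
    have h6 := congrFun (congrArg Subtype.val h4) (triP p)
    simp only [GolayModule.act_apply] at h6
    rw [show (tri : Equiv.Perm GolayPt).symm (triP p) = p from Equiv.symm_apply_apply _ _] at h6
    rw [h6]

theorem fixed_latE : Fixed (LeechEight.latE none) :=
  cong_latE_iff.mpr ⟨0, tri, by rw [show sgnW (0 : golayCode) = 1 from map_one sgnHom, one_mul]; rfl⟩

/-- The stabiliser of the class of the standard frame. -/
def stK : Subgroup centK where
  carrier := {γ | Cong ((γ : Co0) • LeechEight.latE none) (LeechEight.latE none)}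
  one_mem' := by
    show Cong ((1 : Co0) • _) _
    rw [one_smul]
    exact Cong.refl' _
  mul_mem' {a b} ha hb := by
    show Cong (((a : Co0) * (b : Co0)) • _) _
    rw [mul_smul]
    have ha' : Cong ((a : Co0) • LeechEight.latE none) (LeechEight.latE none) := ha
    have hb' : Cong ((b : Co0) • LeechEight.latE none) (LeechEight.latE none) := hb
    exact (hb'.smul' (a : Co0)).trans' ha'
  inv_mem' {a} ha := by
    show Cong ((a : Co0)⁻¹ • _) _
    have ha' : Cong ((a : Co0) • LeechEight.latE none) (LeechEight.latE none) := ha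
    have := (ha'.smul' (a : Co0)⁻¹).symm'
    rwa [inv_smul_smul] at this

theorem mem_stK {γ : centK} : γ ∈ stK ↔ Cong ((γ : Co0) • LeechEight.latE none) (LeechEight.latE none) := Iff.rfl

theorem card_stK_le : Nat.card stK ≤ 69120 := by
  classical
  have hrep : ∀ γ : stK, ∃ cπ : golayCode × M24, ((γ : centK) : Co0) = sgnW cπ.1 * permW cπ.2 := fun γ => by
    obtain ⟨c, π, h⟩ := cong_latE_iff.mp γ.2
    exact ⟨(c, π), h⟩
  choose r hr using hrep
  have hm : ∀ γ, ((r γ).2 : Equiv.Perm GolayPt) ∈ centPerm ∧ enc (r γ).1.1 ∈ (fixK.map codeWord).toFinset := by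
    intro γ
    obtain ⟨h1, k, hk, hke⟩ := mono_cent (hr γ ▸ (γ : centK).2)
    exact ⟨h1, List.mem_toFinset.mpr (List.mem_map.mpr ⟨k, hk, hke.symm⟩)⟩
  refine le_trans (Nat.card_le_card_of_injective (β := centPerm × (fixK.map codeWord).toFinset)
    (fun γ => (⟨_, (hm γ).1⟩, ⟨_, (hm γ).2⟩)) fun a b h => ?_) ?_
  · have h1 : (r a).2 = (r b).2 := Subtype.ext (congrArg (fun t => (t.1 : Equiv.Perm GolayPt)) h)
    have h2 : (r a).1 = (r b).1 := by
      refine Subtype.ext ?_
      rw [← dec_enc (r a).1.1, ← dec_enc (r b).1.1]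
      exact congrArg (fun t => dec t.2.val) h
    exact Subtype.ext (Subtype.ext (by rw [hr a, hr b, h1, h2]))
  · rw [Nat.card_prod, Nat.card_eq_finsetCard]
    refine (Nat.mul_le_mul card_centPerm_le (List.toFinset_card_le _)).trans ?_
    rw [List.length_map, fixK_length]

theorem card_centK_le : Nat.card centK ≤ 117573120 := by
  classical
  have := CfsgLib.Golay.co0_finite
  rw [← stK.card_mul_index]
  refine (Nat.mul_le_mul card_stK_le (?_ : stK.index ≤ 1701)).trans (by norm_num)
  rw [Subgroup.index, ← length_bigL]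
  refine le_trans ?_ (List.toFinset_card_le _)
  rw [← Nat.card_eq_finsetCard]
  have hbig : ∀ γ : centK, codeC (kap ((γ : Co0) • LeechEight.latE none)) ∈ bigL.toFinset := fun γ =>
    List.mem_toFinset.mpr (code_mem_bigL (fixed_smul_cent γ.2 fixed_latE) (Cong.refl' _) (sqNorm_image_latE _ none))
  refine Nat.card_le_card_of_injective (fun q => ⟨_, hbig q.out⟩) fun a b h => ?_
  have h1 : kap (((a.out : centK) : Co0) • LeechEight.latE none) =
      kap (((b.out : centK) : Co0) • LeechEight.latE none) := by
    have := congrArg decC (congrArg Subtype.val h)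
    simpa only [decC_codeC] using this
  have h2 : Cong _ _ := fixed_ext (fixed_smul_cent a.out.2 fixed_latE) (fixed_smul_cent b.out.2 fixed_latE) h1
  rw [← QuotientGroup.out_eq' a, ← QuotientGroup.out_eq' b, QuotientGroup.eq, mem_stK]
  have h3 := (h2.smul' ((a.out : centK) : Co0)⁻¹).symm'
  rwa [inv_smul_smul, ← mul_smul] at h3

/-! ### The kernel of the action -/

/-- The negative of the permutation. -/
def zz : Co0 := sgnW ⟨1, one_mem_golay⟩ * triW

theorem neg_comm : sgnW ⟨1, one_mem_golay⟩ * triW = triW * sgnW ⟨1, one_mem_golay⟩ :=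
  ((Subgroup.mem_center_iff.mp neg_mem_center) triW).symm

theorem zz_mem : zz ∈ centK := mem_centK.mpr (by rw [zz, mul_assoc]; conv_rhs => rw [← mul_assoc, ← neg_comm, mul_assoc])

theorem neg_sq : sgnW ⟨1, one_mem_golay⟩ ^ 2 = 1 :=
  co0_ext fun v => Subtype.ext (funext fun p => by simp [pow_two, mul_smul, sgnW_apply])

theorem zz_pow (n : ℕ) : zz ^ n = sgnW ⟨1, one_mem_golay⟩ ^ n * triW ^ n :=
  (show Commute (sgnW ⟨1, one_mem_golay⟩) triW from neg_comm).mul_pow n

theorem zz_pow_three : zz ^ 3 = sgnW ⟨1, one_mem_golay⟩ := by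
  rw [zz_pow, triW_pow_three, mul_one, pow_succ, neg_sq, one_mul]

theorem zz_pow_four : zz ^ 4 = triW := by
  rw [zz_pow, pow_succ triW 3, triW_pow_three, one_mul, show 4 = 2 * 2 from rfl, pow_mul, neg_sq, one_pow, one_mul]

theorem neg_ne_one : sgnW ⟨1, one_mem_golay⟩ ≠ (1 : Co0) := fun h => by
  have := congrArg (fun δ : Co0 => ((δ • LeechEight.latE none : leechLattice) : GolayPt → ℤ) none) h
  simp [sgnW_apply, latE_apply] at this

theorem triW_ne_one : triW ≠ 1 := fun h => by
  have := congrArg (fun δ : Co0 => δ • LeechEight.latE none) h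
  rw [triW, permW_latE, one_smul] at this
  have h2 := latE_inj (Or.inl this)
  revert h2
  decide +kernel

/-- The kernel. -/
def kerK : Subgroup centK := Subgroup.zpowers ⟨zz, zz_mem⟩

instance kerK_normal : kerK.Normal := by
  refine ⟨fun a ha g => ?_⟩
  obtain ⟨n, rfl⟩ := Subgroup.mem_zpowers_iff.mp ha
  have hc : Commute g (⟨zz, zz_mem⟩ : centK) := by
    refine Subtype.ext ?_
    show (g : Co0) * zz = zz * g
    rw [zz, ← mul_assoc, (Subgroup.mem_center_iff.mp neg_mem_center) g, mul_assoc, mem_centK.mp g.2, mul_assoc]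
  rw [(hc.zpow_right n).eq, mul_inv_cancel_right]
  exact Subgroup.zpow_mem_zpowers _ n

theorem card_kerK : Nat.card kerK = 6 := by
  rw [kerK, Nat.card_zpowers, Subgroup.orderOf_mk, orderOf_eq_iff (by norm_num)]
  refine ⟨by rw [show 6 = 3 * 2 from rfl, pow_mul, zz_pow_three, neg_sq], fun m hm hm0 h => ?_⟩
  interval_cases m
  · have h2 : zz ^ 3 = 1 := by rw [show zz = 1 by simpa using h, one_pow]
    exact neg_ne_one (zz_pow_three ▸ h2)
  · have h2 : zz ^ 4 = 1 := by rw [show 4 = 2 * 2 from rfl, pow_mul, h, one_pow]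
    exact triW_ne_one (zz_pow_four ▸ h2)
  · exact neg_ne_one (zz_pow_three ▸ h)
  · exact triW_ne_one (zz_pow_four ▸ h)
  · have h2 : zz ^ 3 = 1 := by
      have h15 : zz ^ 15 = 1 := by rw [show 15 = 5 * 3 from rfl, pow_mul, h, one_pow]
      have h6 : zz ^ 6 = 1 := by rw [show 6 = 3 * 2 from rfl, pow_mul, zz_pow_three, neg_sq]
      rw [show 15 = 6 * 2 + 3 from rfl, pow_add, pow_mul, h6, one_pow, one_mul] at h15
      exact h15
    exact neg_ne_one (zz_pow_three ▸ h2)

theorem triW_mem : (⟨triW, mem_centK.mpr rfl⟩ : centK) ∈ kerK :=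
  Subgroup.mem_zpowers_iff.mpr ⟨4, Subtype.ext (by rw [show (4 : ℤ) = ((4 : ℕ) : ℤ) from rfl, zpow_natCast]; exact zz_pow_four)⟩

theorem neg_mem_centK : sgnW ⟨1, one_mem_golay⟩ ∈ centK := mem_centK.mpr neg_comm

theorem neg_mem : (⟨sgnW ⟨1, one_mem_golay⟩, neg_mem_centK⟩ : centK) ∈ kerK :=
  Subgroup.mem_zpowers_iff.mpr ⟨3, Subtype.ext (by rw [show (3 : ℤ) = ((3 : ℕ) : ℤ) from rfl, zpow_natCast]; exact zz_pow_three)⟩

/-- The subgroup acting trivially on coordinates. -/
def actKer : Subgroup centK where
  carrier := {x | ∀ c, act x c = c}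
  one_mem' := act_one
  mul_mem' {a b} ha hb c := by rw [act_mul, hb, ha]
  inv_mem' {a} ha c := by
    conv_lhs => rw [← ha c]
    rw [← act_mul, inv_mul_cancel, act_one]

instance actKer_normal : actKer.Normal := ⟨fun a ha g c => by
  rw [act_mul, act_mul, ha, ← act_mul, mul_inv_cancel, act_one]⟩

theorem kerK_le_actKer : kerK ≤ actKer := by
  rw [kerK, Subgroup.zpowers_le]
  intro c
  show kap (zz • ofKap c) = c
  rw [zz, mul_smul, show triW • ofKap c = ofKap c from tri_comb _]
  have hneg : sgnW ⟨1, one_mem_golay⟩ • ofKap c = -ofKap c :=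
    Subtype.ext (funext fun p => by rw [sgnW_apply]; simp)
  rw [hneg, map_neg, kap_ofKap]
  funext k
  exact ZMod.neg_eq_self_mod_two _

end CfsgLib.MonsterType.Three
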