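import Mathlib.Logic.Basic
import Cfsg.Agent.Lib.Sporadic.Chain

/-! Data for the centraliser of a permutation of cycle type `1^6 3^6` in the automorphism group of the
lattice. Found by a search; checked in the files importing this one. -/

set_option autoImplicit false
set_option maxRecDepth 100000

namespace CfsgLib.MonsterType.Three

open CfsgLib.Sporadic

/-- The permutation. -/
def triL : List ℕ :=
  [1,23,3,5,12,2,4,11,8,9,7,10,6,15,14,18,21,17,13,19,16,20,22,0]

/-- Its inverse. -/
def triInvL : List ℕ :=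
  [23,0,5,2,6,3,12,10,8,9,11,7,4,18,14,13,20,17,15,19,21,16,22,1]

/-- Orbit number of each position. -/
def clsL : List ℕ :=
  [0,0,1,1,2,1,2,3,4,5,3,3,2,6,7,6,8,9,6,10,8,8,11,0]

/-- A representative of each orbit. -/
def repL : List ℕ :=
  [0,2,4,7,8,9,13,14,16,17,19,22]

/-- Orbit values of a basis of the fixed sublattice. -/
def basL : List (List ℤ) :=
  [
    [0,0,0,0,-2,0,-2,0,-2,0,-2,0],
    [1,1,1,1,1,1,1,1,1,5,1,1],
    [1,1,1,1,-1,1,-1,1,-1,1,3,1],
    [1,1,1,1,-3,1,1,1,1,1,1,1],
    [0,0,-2,0,-2,0,0,-2,0,-2,-2,-2],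
    [0,0,0,0,0,0,0,4,0,-4,0,0],
    [0,0,0,0,0,-2,0,2,2,-2,2,2],
    [0,2,0,0,-2,0,0,2,-2,0,0,0],
    [0,0,0,0,-2,2,-2,2,0,2,0,2],
    [1,1,1,1,1,1,1,1,1,1,-3,1],
    [-1,-1,-1,-1,1,-1,1,-1,1,-1,1,3],
    [0,0,0,-2,-2,-2,0,-2,0,-2,-2,0]]

/-- Lattice vectors dual to the basis. -/
def dualL : List (List ℤ) :=
  [
    [-3,9,-19,21,5,-7,1,5,-1,-3,1,-3,-7,-1,1,3,-5,1,-1,-1,3,-1,1,-3],
    [2,6,-6,8,0,-6,-4,-4,0,-2,2,0,0,-2,2,2,0,2,2,0,-4,2,0,0],
    [3,3,-1,3,1,-1,1,-3,1,1,1,1,-3,1,-1,-3,1,-1,1,1,-3,1,1,-1],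
    [-2,-2,-4,6,0,-4,-2,0,-2,0,2,0,4,2,0,0,-4,0,0,0,0,4,0,2],
    [2,6,-8,12,0,-4,-2,0,0,0,2,-2,-2,0,0,0,0,0,0,0,-2,2,0,-4],
    [4,-4,4,-12,-2,4,-2,0,0,0,0,-2,2,0,2,0,0,0,2,0,2,-4,0,6],
    [-2,8,-12,18,2,-4,4,2,0,-2,2,-2,-6,-2,0,2,-2,0,-2,0,4,0,0,-8],
    [-2,-2,2,-2,4,4,0,0,0,0,0,0,-4,-2,0,0,0,0,2,0,2,-2,0,0],
    [4,-8,12,-12,-4,2,0,-2,0,2,-2,2,4,0,0,-2,2,0,0,0,0,0,0,2],
    [1,1,1,1,1,1,1,-1,1,1,1,1,-1,1,-1,-1,1,-1,-1,-1,-1,1,1,-3],
    [0,2,-2,4,-2,-4,-2,-2,0,0,2,0,2,2,0,2,-2,0,-2,0,-4,4,2,0],
    [4,-4,8,-14,-2,6,2,-2,0,0,-2,0,0,2,0,-2,0,0,0,0,4,-4,0,4]]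

/-- The stages of the search for the centraliser fixing one moved point. -/
def stages : List (List ℕ × List ℕ × List ℕ) :=
  [
    ([13,15,18], [], [13]),
    ([4,12,6], [], [0,1,2,3,4,5,6,7,10,11,12,13,15,16,18,20,21,23]),
    ([7,11,10], [], [0,1,2,3,4,5,6,7,10,11,12,13,15,16,18,20,21,23]),
    ([16,21,20], [3421328,1161408], [0,1,2,3,4,5,6,7,10,11,12,13,15,16,18,20,21,23]),
    ([0,1,23], [1413139,10825794], [0,1,2,3,4,5,6,7,10,11,12,13,15,16,18,20,21,23]),
    ([2,3,5], [3416079,10846245], [0,1,2,3,4,5,6,7,10,11,12,13,15,16,18,20,21,23]),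
    ([14], [9465987], [8,9,14,17,19,22]),
    ([22], [13938692], [8,9,14,17,19,22]),
    ([17], [13062145], [8,9,14,17,19,22]),
    ([19], [4845570], [8,9,14,17,19,22]),
    ([9], [8077824], [8,9,14,17,19,22]),
    ([8], [4038912], [8,9,14,17,19,22])]

/-- A subgroup of order 27 with centre generated by the permutation. -/
def sylL : List (List ℕ) :=
  [
    [0,1,2,3,4,5,6,7,8,9,10,11,12,13,14,15,16,17,18,19,20,21,22,23],
    [0,1,4,12,10,6,11,3,8,22,2,5,7,18,9,13,21,17,15,19,16,20,14,23],
    [0,1,10,7,2,11,5,12,8,14,4,6,3,15,22,18,20,17,13,19,21,16,9,23],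
    [1,23,3,5,12,2,4,11,8,9,7,10,6,15,14,18,21,17,13,19,16,20,22,0],
    [1,23,7,11,3,10,2,6,8,14,12,4,5,18,22,13,16,17,15,19,20,21,9,0],
    [1,23,12,6,7,4,10,5,8,22,3,2,11,13,9,15,20,17,18,19,21,16,14,0],
    [13,15,3,5,6,2,12,7,17,9,10,11,4,16,14,21,0,19,20,8,23,1,22,18],
    [13,15,6,4,10,12,11,5,17,22,3,2,7,20,9,16,1,19,21,8,0,23,14,18],
    [13,15,10,7,3,11,2,4,17,14,6,12,5,21,22,20,23,19,16,8,1,0,9,18],
    [15,18,4,12,7,6,10,2,17,22,5,3,11,16,9,21,23,19,20,8,1,0,14,13],
    [15,18,5,2,4,3,6,11,17,9,7,10,12,21,14,20,1,19,16,8,0,23,22,13],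
    [15,18,7,11,5,10,3,12,17,14,4,6,2,20,22,16,0,19,21,8,23,1,9,13],
    [16,21,5,2,12,3,4,7,19,9,10,11,6,0,14,1,13,8,23,17,18,15,22,20],
    [16,21,10,7,5,11,3,6,19,14,12,4,2,1,22,23,18,8,0,17,15,13,9,20],
    [16,21,12,6,10,4,11,2,19,22,5,3,7,23,9,0,15,8,1,17,13,18,14,20],
    [18,13,2,3,12,5,4,10,17,9,11,7,6,20,14,16,23,19,21,8,1,0,22,15],
    [18,13,11,10,2,7,5,6,17,14,12,4,3,16,22,21,1,19,20,8,0,23,9,15],
    [18,13,12,6,11,4,7,3,17,22,2,5,10,21,9,20,0,19,16,8,23,1,14,15],
    [20,16,3,5,4,2,6,10,19,9,11,7,12,23,14,0,18,8,1,17,15,13,22,21],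
    [20,16,4,12,11,6,7,5,19,22,3,2,10,1,9,23,13,8,0,17,18,15,14,21],
    [20,16,11,10,3,7,2,12,19,14,4,6,5,0,22,1,15,8,23,17,13,18,9,21],
    [21,20,2,3,6,5,12,11,19,9,7,10,4,1,14,23,15,8,0,17,13,18,22,16],
    [21,20,6,4,7,12,10,3,19,22,2,5,11,0,9,1,18,8,23,17,15,13,14,16],
    [21,20,7,11,2,10,5,4,19,14,6,12,3,23,22,0,13,8,1,17,18,15,9,16],
    [23,0,5,2,6,3,12,10,8,9,11,7,4,18,14,13,20,17,15,19,21,16,22,1],
    [23,0,6,4,11,12,7,2,8,22,5,3,10,15,9,18,16,17,13,19,20,21,14,1],
    [23,0,11,10,5,7,3,4,8,14,6,12,2,13,22,15,21,17,18,19,16,20,9,1]]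

/-- Indices of the code words fixed by the permutation. -/
def fixK : List ℕ :=
  [0,3,44,47,80,83,124,127,256,259,300,303,336,339,380,383,512,515,556,559,592,595,636,639,768,771,812,815,848,851,892,895,3200,3203,3244,3247,3280,3283,3324,3327,3456,3459,3500,3503,3536,3539,3580,3583,3712,3715,3756,3759,3792,3795,3836,3839,3968,3971,4012,4015,4048,4051,4092,4095]

/-- Part of `blkT`. -/
def blkT0 : Tr :=
  (.node (.node (.node (.node (.node (.node (.node (.node (.leaf 0) (.leaf 0)) (.node (.leaf 0) (.leaf 3))) (.node (.node (.leaf 0) (.leaf 90)) (.node (.leaf 100) (.leaf 3)))) (.node (.node (.node (.leaf 0) (.leaf 67)) (.node (.leaf 55) (.leaf 55))) (.node (.node (.leaf 0) (.leaf 0)) (.node (.leaf 0) (.leaf 104))))) (.node (.node (.node (.node (.leaf 0) (.leaf 0)) (.node (.leaf 0) (.leaf 33))) (.node (.node (.leaf 0) (.leaf 44)) (.node (.leaf 51) (.leaf 33)))) (.node (.node (.node (.leaf 31) (.leaf 0)) (.node (.leaf 0) (.leaf 0))) (.node (.node (.leaf 110) (.leaf 104)) (.node (.leaf 37) (.leaf 0))))))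 (.node (.node (.node (.node (.node (.leaf 0) (.leaf 0)) (.node (.leaf 0) (.leaf 51))) (.node (.node (.leaf 0) (.leaf 40)) (.node (.leaf 60) (.leaf 51)))) (.node (.node (.node (.leaf 0) (.leaf 41)) (.node (.leaf 92) (.leaf 92))) (.node (.node (.leaf 0) (.leaf 0)) (.node (.leaf 0) (.leaf 69))))) (.node (.node (.node (.node (.leaf 90) (.leaf 51)) (.node (.leaf 26) (.leaf 0))) (.node (.node (.leaf 60) (.leaf 0)) (.node (.leaf 0) (.leaf 0)))) (.node (.node (.node (.leaf 0) (.leaf 73)) (.node (.leaf 31) (.leaf 34))) (.node (.node (.leaf 0) (.leaf 0)) (.node (.leaf 0) (.leaf 87))))))) (.node (.node (.node (.node (.node (.node (.leaf 0) (.leaf 0)) (.node (.leaf 0) (.leaf 37))) (.node (.node (.leaf 0) (.leaf 109)) (.node (.leaf 35) (.leaf 67)))) (.node (.node (.node (.leaf 0) (.leaf 46)) (.node (.leaf 5) (.leaf 101))) (.node (.node (.leaf 0) (.leaf 0)) (.node (.leaf 0) (.leaf 45))))) (.node (.node (.node (.node (.leaf 36) (.leaf 10)) (.node (.leaf 38) (.leaf 0))) (.node (.node (.leaf 4) (.leaf 0)) (.node (.leaf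 0) (.leaf 0)))) (.node (.node (.node (.leaf 0) (.leaf 105)) (.node (.leaf 48) (.leaf 39))) (.node (.node (.leaf 0) (.leaf 0)) (.node (.leaf 0) (.leaf 54)))))) (.node (.node (.node (.node (.node (.leaf 0) (.leaf 0)) (.node (.leaf 0) (.leaf 52))) (.node (.node (.leaf 0) (.leaf 47)) (.node (.leaf 1) (.leaf 52)))) (.node (.node (.node (.leaf 0) (.leaf 24)) (.node (.leaf 19) (.leaf 19))) (.node (.node (.leaf 0) (.leaf 0)) (.node (.leaf 0) (.leaf 89))))) (.node (.node (.node (.node (.leaf 0) (.leaf 0)) (.node (.leaf 0) (.leaf 74))) (.node (.node (.leaf 0) (.leaf 20)) (.node (.leaf 92) (.leaf 70)))) (.node (.node (.node (.leaf 48) (.leaf 0)) (.node (.leaf 0) (.leaf 0))) (.node (.node (.leaf 29) (.leaf 89)) (.node (.leaf 101) (.leaf 0)))))))) (.node (.node (.node (.node (.node (.node (.node (.leaf 0) (.leaf 0)) (.node (.leaf 0) (.leaf 61))) (.node (.node (.leaf 97) (.leaf 0)) (.node (.leaf 0) (.leaf 0)))) (.node (.node (.node (.leaf 38) (.leaf 0)) (.node (.leaf 0) (.leaf 0))) (.node (.node (.leaf 0) (.leaf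 0)) (.node (.leaf 0) (.leaf 109))))) (.node (.node (.node (.node (.leaf 0) (.leaf 0)) (.node (.leaf 0) (.leaf 89))) (.node (.node (.leaf 44) (.leaf 0)) (.node (.leaf 0) (.leaf 0)))) (.node (.node (.node (.leaf 0) (.leaf 75)) (.node (.leaf 79) (.leaf 10))) (.node (.node (.leaf 35) (.leaf 1)) (.node (.leaf 49) (.leaf 0)))))) (.node (.node (.node (.node (.node (.leaf 111) (.leaf 65)) (.node (.leaf 48) (.leaf 0))) (.node (.node (.leaf 0) (.leaf 105)) (.node (.leaf 48) (.leaf 39)))) (.node (.node (.node (.leaf 0) (.leaf 91)) (.node (.leaf 92) (.leaf 95))) (.node (.node (.leaf 14) (.leaf 52)) (.node (.leaf 69) (.leaf 0))))) (.node (.node (.node (.node (.leaf 0) (.leaf 0)) (.node (.leaf 0) (.leaf 89))) (.node (.node (.leaf 19) (.leaf 0)) (.node (.leaf 0) (.leaf 0)))) (.node (.node (.node (.leaf 0) (.leaf 29)) (.node (.leaf 42) (.leaf 81))) (.node (.node (.leaf 67) (.leaf 52)) (.node (.leaf 53) (.leaf 0))))))) (.node (.node (.node (.node (.node (.node (.leaf 0) (.leaf 0)) (.node (.leaf 0) (.leaf 49))) (.node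 (.node (.leaf 79) (.leaf 0)) (.node (.leaf 0) (.leaf 0)))) (.node (.node (.node (.leaf 46) (.leaf 0)) (.node (.leaf 0) (.leaf 0))) (.node (.node (.leaf 0) (.leaf 0)) (.node (.leaf 0) (.leaf 62))))) (.node (.node (.node (.node (.leaf 58) (.leaf 80)) (.node (.leaf 58) (.leaf 0))) (.node (.node (.leaf 0) (.leaf 86)) (.node (.leaf 85) (.leaf 85)))) (.node (.node (.node (.leaf 15) (.leaf 0)) (.node (.leaf 0) (.leaf 0))) (.node (.node (.leaf 0) (.leaf 0)) (.node (.leaf 0) (.leaf 19)))))) (.node (.node (.node (.node (.node (.leaf 107) (.leaf 4)) (.node (.leaf 112) (.leaf 0))) (.node (.node (.leaf 0) (.leaf 108)) (.node (.leaf 112) (.leaf 102)))) (.node (.node (.node (.leaf 0) (.leaf 91)) (.node (.leaf 19) (.leaf 95))) (.node (.node (.leaf 32) (.leaf 51)) (.node (.leaf 89) (.leaf 0))))) (.node (.node (.node (.node (.leaf 58) (.leaf 80)) (.node (.leaf 13) (.leaf 0))) (.node (.node (.leaf 0) (.leaf 2)) (.node (.leaf 59) (.leaf 26)))) (.node (.node (.node (.leaf 48) (.leaf 0)) (.node (.leaf 0) (.leaf 0))) (.node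 (.node (.leaf 0) (.leaf 0)) (.node (.leaf 0) (.leaf 65)))))))))

/-- Part of `blkT`. -/
def blkT1 : Tr :=
  (.node (.node (.node (.node (.node (.node (.node (.node (.leaf 0) (.leaf 3)) (.node (.leaf 0) (.leaf 0))) (.node (.node (.leaf 27) (.leaf 90)) (.node (.leaf 0) (.leaf 90)))) (.node (.node (.node (.leaf 0) (.leaf 0)) (.node (.leaf 67) (.leaf 0))) (.node (.node (.leaf 110) (.leaf 0)) (.node (.leaf 37) (.leaf 63))))) (.node (.node (.node (.node (.leaf 0) (.leaf 33)) (.node (.leaf 0) (.leaf 0))) (.node (.node (.leaf 60) (.leaf 90)) (.node (.leaf 0) (.leaf 94)))) (.node (.node (.node (.leaf 69) (.leaf 18)) (.node (.leaf 0) (.leaf 34))) (.node (.node (.leaf 0) (.leaf 63)) (.node (.leaf 0) (.leaf 0)))))) (.node (.node (.node (.node (.node (.leaf 0) (.leaf 51)) (.node (.leaf 0) (.leaf 0))) (.node (.node (.leaf 33) (.leaf 90)) (.node (.leaf 0) (.leaf 13)))) (.node (.node (.node (.leaf 0) (.leaf 0)) (.node (.leaf 43) (.leaf 0))) (.node (.node (.leaf 18) (.leaf 0)) (.node (.leaf 43) (.leaf 41))))) (.node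 (.node (.node (.node (.leaf 59) (.leaf 0)) (.node (.leaf 60) (.leaf 33))) (.node (.node (.leaf 0) (.leaf 0)) (.node (.leaf 60) (.leaf 0)))) (.node (.node (.node (.leaf 0) (.leaf 0)) (.node (.leaf 96) (.leaf 0))) (.node (.node (.leaf 87) (.leaf 0)) (.node (.leaf 96) (.leaf 73))))))) (.node (.node (.node (.node (.node (.node (.leaf 0) (.leaf 63)) (.node (.leaf 0) (.leaf 0))) (.node (.node (.leaf 45) (.leaf 76)) (.node (.leaf 0) (.leaf 6)))) (.node (.node (.node (.leaf 0) (.leaf 0)) (.node (.leaf 97) (.leaf 0))) (.node (.node (.leaf 45) (.leaf 0)) (.node (.leaf 97) (.leaf 46))))) (.node (.node (.node (.node (.leaf 8) (.leaf 0)) (.node (.leaf 98) (.leaf 78))) (.node (.node (.leaf 0) (.leaf 0)) (.node (.leaf 107) (.leaf 0)))) (.node (.node (.node (.leaf 0) (.leaf 0)) (.node (.leaf 74) (.leaf 0))) (.node (.node (.leaf 54) (.leaf 0)) (.node (.leaf 70) (.leaf 70)))))) (.node (.node (.node (.node (.node (.leaf 0) (.leaf 52)) (.node (.leaf 0) (.leaf 0))) (.node (.node (.leaf 71) (.leaf 90)) (.node (.leaf 0)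 (.leaf 11)))) (.node (.node (.node (.leaf 0) (.leaf 0)) (.node (.leaf 83) (.leaf 0))) (.node (.node (.leaf 29) (.leaf 0)) (.node (.leaf 83) (.leaf 24))))) (.node (.node (.node (.node (.leaf 0) (.leaf 105)) (.node (.leaf 0) (.leaf 0))) (.node (.node (.leaf 42) (.leaf 22)) (.node (.leaf 0) (.leaf 84)))) (.node (.node (.node (.leaf 74) (.leaf 105)) (.node (.leaf 0) (.leaf 39))) (.node (.node (.leaf 0) (.leaf 5)) (.node (.leaf 0) (.leaf 0)))))))) (.node (.node (.node (.node (.node (.node (.node (.leaf 91) (.leaf 0)) (.node (.leaf 95) (.leaf 95))) (.node (.node (.leaf 97) (.leaf 46)) (.node (.leaf 0) (.leaf 46)))) (.node (.node (.node (.leaf 0) (.leaf 0)) (.node (.leaf 8) (.leaf 0))) (.node (.node (.leaf 0) (.leaf 6)) (.node (.leaf 0) (.leaf 0))))) (.node (.node (.node (.node (.leaf 29) (.leaf 0)) (.node (.leaf 13) (.leaf 40))) (.node (.node (.leaf 97) (.leaf 46)) (.node (.leaf 0) (.leaf 94)))) (.node (.node (.node (.leaf 71) (.leaf 54)) (.node (.leaf 0) (.leaf 106))) (.node (.node (.leaf 2) (.leaf 0))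 (.node (.leaf 82) (.leaf 99)))))) (.node (.node (.node (.node (.node (.leaf 0) (.leaf 39)) (.node (.leaf 0) (.leaf 0))) (.node (.node (.leaf 0) (.leaf 0)) (.node (.leaf 74) (.leaf 0)))) (.node (.node (.node (.leaf 1) (.leaf 28)) (.node (.leaf 0) (.leaf 61))) (.node (.node (.leaf 18) (.leaf 0)) (.node (.leaf 98) (.leaf 62))))) (.node (.node (.node (.node (.leaf 29) (.leaf 0)) (.node (.leaf 29) (.leaf 89))) (.node (.node (.leaf 83) (.leaf 24)) (.node (.leaf 0) (.leaf 19)))) (.node (.node (.node (.leaf 71) (.leaf 32)) (.node (.leaf 0) (.leaf 89))) (.node (.node (.leaf 86) (.leaf 0)) (.node (.leaf 85) (.leaf 19))))))) (.node (.node (.node (.node (.node (.node (.leaf 2) (.leaf 0)) (.node (.leaf 2) (.leaf 49))) (.node (.node (.leaf 57) (.leaf 66)) (.node (.leaf 0) (.leaf 79)))) (.node (.node (.node (.leaf 0) (.leaf 0)) (.node (.leaf 97) (.leaf 0))) (.node (.node (.leaf 0) (.leaf 62)) (.node (.leaf 0) (.leaf 0))))) (.node (.node (.node (.node (.leaf 0) (.leaf 80)) (.node (.leaf 0) (.leaf 0))) (.node (.node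 (.leaf 0) (.leaf 0)) (.node (.leaf 53) (.leaf 0)))) (.node (.node (.node (.leaf 0) (.leaf 0)) (.node (.leaf 16) (.leaf 0))) (.node (.node (.leaf 0) (.leaf 19)) (.node (.leaf 0) (.leaf 0)))))) (.node (.node (.node (.node (.node (.leaf 0) (.leaf 102)) (.node (.leaf 0) (.leaf 0))) (.node (.node (.leaf 0) (.leaf 0)) (.node (.leaf 12) (.leaf 0)))) (.node (.node (.node (.leaf 60) (.leaf 54)) (.node (.leaf 0) (.leaf 61))) (.node (.node (.leaf 29) (.leaf 0)) (.node (.leaf 82) (.leaf 62))))) (.node (.node (.node (.node (.leaf 0) (.leaf 40)) (.node (.leaf 0) (.leaf 0))) (.node (.node (.leaf 0) (.leaf 0)) (.node (.leaf 49) (.leaf 0)))) (.node (.node (.node (.leaf 0) (.leaf 0)) (.node (.leaf 39) (.leaf 0))) (.node (.node (.leaf 0) (.leaf 111)) (.node (.leaf 0) (.leaf 0)))))))))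

/-- Part of `blkT`. -/
def blkT2 : Tr :=
  (.node (.node (.node (.node (.node (.node (.node (.node (.leaf 1) (.leaf 0)) (.node (.leaf 0) (.leaf 0))) (.node (.node (.leaf 0) (.leaf 0)) (.node (.leaf 0) (.leaf 23)))) (.node (.node (.node (.leaf 0) (.leaf 0)) (.node (.leaf 0) (.leaf 78))) (.node (.node (.leaf 89) (.leaf 0)) (.node (.leaf 0) (.leaf 0))))) (.node (.node (.node (.node (.leaf 69) (.leaf 0)) (.node (.leaf 0) (.leaf 0))) (.node (.node (.leaf 0) (.leaf 0)) (.node (.leaf 0) (.leaf 38)))) (.node (.node (.node (.leaf 45) (.leaf 78)) (.node (.leaf 97) (.leaf 0))) (.node (.node (.leaf 0) (.leaf 24)) (.node (.leaf 60) (.leaf 19)))))) (.node (.node (.node (.node (.node (.leaf 7) (.leaf 0)) (.node (.leaf 0) (.leaf 0))) (.node (.node (.leaf 0) (.leaf 0)) (.node (.leaf 0) (.leaf 84)))) (.node (.node (.node (.leaf 0) (.leaf 0)) (.node (.leaf 0) (.leaf 95))) (.node (.node (.leaf 5) (.leaf 0)) (.node (.leaf 0) (.leaf 0))))) (.node (.node (.node (.node (.leaf 0) (.leaf 109)) (.node (.leaf 96) (.leaf 73)))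 (.node (.node (.leaf 20) (.leaf 84)) (.node (.leaf 83) (.leaf 0)))) (.node (.node (.node (.leaf 0) (.leaf 0)) (.node (.leaf 0) (.leaf 105))) (.node (.node (.leaf 48) (.leaf 0)) (.node (.leaf 0) (.leaf 0))))))) (.node (.node (.node (.node (.node (.node (.leaf 60) (.leaf 0)) (.node (.leaf 0) (.leaf 0))) (.node (.node (.leaf 0) (.leaf 0)) (.node (.leaf 0) (.leaf 94)))) (.node (.node (.node (.leaf 0) (.leaf 0)) (.node (.leaf 0) (.leaf 21))) (.node (.node (.leaf 69) (.leaf 0)) (.node (.leaf 0) (.leaf 0))))) (.node (.node (.node (.node (.leaf 0) (.leaf 40)) (.node (.leaf 51) (.leaf 51))) (.node (.node (.leaf 44) (.leaf 94)) (.node (.leaf 33) (.leaf 0)))) (.node (.node (.node (.leaf 0) (.leaf 0)) (.node (.leaf 0) (.leaf 10))) (.node (.node (.leaf 31) (.leaf 0)) (.node (.leaf 0) (.leaf 0)))))) (.node (.node (.node (.node (.node (.leaf 100) (.leaf 0)) (.node (.leaf 0) (.leaf 0))) (.node (.node (.leaf 0) (.leaf 0)) (.node (.leaf 0) (.leaf 90)))) (.node (.node (.node (.leaf 0) (.leaf 0)) (.node (.leaf 0) (.leaf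 37))) (.node (.node (.leaf 104) (.leaf 0)) (.node (.leaf 0) (.leaf 0))))) (.node (.node (.node (.node (.leaf 51) (.leaf 0)) (.node (.leaf 0) (.leaf 0))) (.node (.node (.leaf 0) (.leaf 0)) (.node (.leaf 0) (.leaf 26)))) (.node (.node (.node (.leaf 67) (.leaf 10)) (.node (.leaf 43) (.leaf 0))) (.node (.node (.leaf 0) (.leaf 73)) (.node (.leaf 60) (.leaf 55)))))))) (.node (.node (.node (.node (.node (.node (.node (.leaf 0) (.leaf 28)) (.node (.leaf 98) (.leaf 3))) (.node (.node (.leaf 0) (.leaf 0)) (.node (.leaf 0) (.leaf 112)))) (.node (.node (.node (.leaf 0) (.leaf 0)) (.node (.leaf 0) (.leaf 65))) (.node (.node (.leaf 0) (.leaf 46)) (.node (.leaf 16) (.leaf 15))))) (.node (.node (.node (.node (.leaf 0) (.leaf 44)) (.node (.leaf 85) (.leaf 33))) (.node (.node (.leaf 0) (.leaf 0)) (.node (.leaf 0) (.leaf 112)))) (.node (.node (.node (.leaf 111) (.leaf 65)) (.node (.leaf 48) (.leaf 0))) (.node (.node (.leaf 82) (.leaf 0)) (.node (.leaf 0) (.leaf 0)))))) (.node (.node (.node (.node (.node (.leaf 7) (.leaf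 0)) (.node (.leaf 0) (.leaf 0))) (.node (.node (.leaf 35) (.leaf 79)) (.node (.leaf 49) (.leaf 0)))) (.node (.node (.node (.leaf 91) (.leaf 61)) (.node (.leaf 95) (.leaf 0))) (.node (.node (.leaf 91) (.leaf 0)) (.node (.leaf 0) (.leaf 0))))) (.node (.node (.node (.node (.leaf 0) (.leaf 58)) (.node (.leaf 85) (.leaf 27))) (.node (.node (.leaf 0) (.leaf 0)) (.node (.leaf 0) (.leaf 30)))) (.node (.node (.node (.leaf 29) (.leaf 89)) (.node (.leaf 15) (.leaf 0))) (.node (.node (.leaf 29) (.leaf 0)) (.node (.leaf 0) (.leaf 0))))))) (.node (.node (.node (.node (.node (.node (.leaf 0) (.leaf 54)) (.node (.leaf 82) (.leaf 3))) (.node (.node (.leaf 0) (.leaf 0)) (.node (.leaf 0) (.leaf 48)))) (.node (.node (.node (.leaf 0) (.leaf 0)) (.node (.leaf 0) (.leaf 4))) (.node (.node (.leaf 0) (.leaf 46)) (.node (.leaf 17) (.leaf 68))))) (.node (.node (.node (.node (.leaf 16) (.leaf 0)) (.node (.leaf 0) (.leaf 0))) (.node (.node (.leaf 32) (.leaf 19)) (.node (.leaf 89) (.leaf 0)))) (.node (.node (.node (.leaf 0) (.leaf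 0)) (.node (.leaf 0) (.leaf 80))) (.node (.node (.leaf 0) (.leaf 77)) (.node (.leaf 37) (.leaf 63)))))) (.node (.node (.node (.node (.node (.leaf 101) (.leaf 0)) (.node (.leaf 0) (.leaf 0))) (.node (.node (.leaf 45) (.leaf 62)) (.node (.leaf 97) (.leaf 0)))) (.node (.node (.node (.leaf 20) (.leaf 84)) (.node (.leaf 20) (.leaf 0))) (.node (.node (.leaf 38) (.leaf 0)) (.node (.leaf 0) (.leaf 0))))) (.node (.node (.node (.node (.leaf 39) (.leaf 0)) (.node (.leaf 0) (.leaf 0))) (.node (.node (.leaf 54) (.leaf 19)) (.node (.leaf 26) (.leaf 0)))) (.node (.node (.node (.leaf 0) (.leaf 0)) (.node (.leaf 0) (.leaf 65))) (.node (.node (.leaf 0) (.leaf 73)) (.node (.leaf 7) (.leaf 56)))))))))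

/-- Part of `blkT`. -/
def blkT3 : Tr :=
  (.node (.node (.node (.node (.node (.node (.node (.node (.leaf 103) (.leaf 64)) (.node (.leaf 0) (.leaf 1))) (.node (.node (.leaf 25) (.leaf 0)) (.node (.leaf 71) (.leaf 71)))) (.node (.node (.node (.leaf 0) (.leaf 78)) (.node (.leaf 0) (.leaf 0))) (.node (.node (.leaf 0) (.leaf 0)) (.node (.leaf 29) (.leaf 0))))) (.node (.node (.node (.node (.leaf 6) (.leaf 109)) (.node (.leaf 0) (.leaf 18))) (.node (.node (.leaf 8) (.leaf 0)) (.node (.leaf 53) (.leaf 86)))) (.node (.node (.node (.leaf 46) (.leaf 0)) (.node (.leaf 70) (.leaf 33))) (.node (.node (.leaf 95) (.leaf 54)) (.node (.leaf 0) (.leaf 83)))))) (.node (.node (.node (.node (.node (.leaf 38) (.leaf 8)) (.node (.leaf 0) (.leaf 56))) (.node (.node (.leaf 20) (.leaf 0)) (.node (.leaf 101) (.leaf 5)))) (.node (.node (.node (.leaf 0) (.leaf 95)) (.node (.leaf 0) (.leaf 0))) (.node (.node (.leaf 0) (.leaf 0)) (.node (.leaf 101) (.leaf 0))))) (.node (.node (.node (.node (.leaf 0) (.leaf 0)) (.node (.leaf 6)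 (.leaf 0))) (.node (.node (.leaf 0) (.leaf 24)) (.node (.leaf 0) (.leaf 0)))) (.node (.node (.node (.leaf 0) (.leaf 74)) (.node (.leaf 0) (.leaf 0))) (.node (.node (.leaf 0) (.leaf 0)) (.node (.leaf 39) (.leaf 0))))))) (.node (.node (.node (.node (.node (.node (.leaf 26) (.leaf 59)) (.node (.leaf 0) (.leaf 60))) (.node (.node (.leaf 44) (.leaf 0)) (.node (.leaf 33) (.leaf 33)))) (.node (.node (.node (.leaf 0) (.leaf 21)) (.node (.leaf 0) (.leaf 0))) (.node (.node (.leaf 0) (.leaf 0)) (.node (.leaf 18) (.leaf 0))))) (.node (.node (.node (.node (.leaf 0) (.leaf 0)) (.node (.leaf 13) (.leaf 0))) (.node (.node (.leaf 0) (.leaf 33)) (.node (.leaf 0) (.leaf 0)))) (.node (.node (.node (.leaf 0) (.leaf 10)) (.node (.leaf 0) (.leaf 0))) (.node (.node (.leaf 0) (.leaf 0)) (.node (.leaf 34) (.leaf 0)))))) (.node (.node (.node (.node (.node (.leaf 90) (.leaf 90)) (.node (.leaf 0) (.leaf 100))) (.node (.node (.leaf 90) (.leaf 0)) (.node (.leaf 27) (.leaf 27)))) (.node (.node (.node (.leaf 0) (.leaf 63)) (.node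 (.leaf 0) (.leaf 0))) (.node (.node (.leaf 0) (.leaf 0)) (.node (.leaf 110) (.leaf 0))))) (.node (.node (.node (.node (.leaf 13) (.leaf 40)) (.node (.leaf 0) (.leaf 51))) (.node (.node (.leaf 59) (.leaf 0)) (.node (.leaf 60) (.leaf 60)))) (.node (.node (.node (.leaf 41) (.leaf 0)) (.node (.leaf 92) (.leaf 51))) (.node (.node (.leaf 21) (.leaf 87)) (.node (.leaf 0) (.leaf 96)))))))) (.node (.node (.node (.node (.node (.node (.node (.leaf 88) (.leaf 28)) (.node (.leaf 0) (.leaf 28))) (.node (.node (.leaf 0) (.leaf 102)) (.node (.leaf 0) (.leaf 0)))) (.node (.node (.node (.leaf 111) (.leaf 0)) (.node (.leaf 48) (.leaf 39))) (.node (.node (.leaf 0) (.leaf 0)) (.node (.leaf 97) (.leaf 0))))) (.node (.node (.node (.node (.leaf 79) (.leaf 28)) (.node (.leaf 0) (.leaf 94))) (.node (.node (.leaf 0) (.leaf 102)) (.node (.leaf 0) (.leaf 0)))) (.node (.node (.node (.leaf 0) (.leaf 39)) (.node (.leaf 0) (.leaf 0))) (.node (.node (.leaf 54) (.leaf 54)) (.node (.leaf 0) (.leaf 82)))))) (.node (.node (.node (.node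 (.node (.leaf 0) (.leaf 0)) (.node (.leaf 56) (.leaf 0))) (.node (.node (.leaf 2) (.leaf 0)) (.node (.leaf 100) (.leaf 9)))) (.node (.node (.node (.leaf 0) (.leaf 95)) (.node (.leaf 0) (.leaf 0))) (.node (.node (.leaf 97) (.leaf 46)) (.node (.leaf 0) (.leaf 61))))) (.node (.node (.node (.node (.leaf 42) (.leaf 72)) (.node (.leaf 0) (.leaf 80))) (.node (.node (.leaf 0) (.leaf 93)) (.node (.leaf 0) (.leaf 0)))) (.node (.node (.node (.leaf 0) (.leaf 16)) (.node (.leaf 0) (.leaf 0))) (.node (.node (.leaf 32) (.leaf 32)) (.node (.leaf 0) (.leaf 89))))))) (.node (.node (.node (.node (.node (.node (.leaf 70) (.leaf 54)) (.node (.leaf 0) (.leaf 54))) (.node (.node (.leaf 0) (.leaf 39)) (.node (.leaf 0) (.leaf 0)))) (.node (.node (.node (.leaf 107) (.leaf 0)) (.node (.leaf 112) (.leaf 102))) (.node (.node (.leaf 0) (.leaf 0)) (.node (.leaf 97) (.leaf 0))))) (.node (.node (.node (.node (.leaf 0) (.leaf 0)) (.node (.leaf 15) (.leaf 0))) (.node (.node (.leaf 29) (.leaf 0)) (.node (.leaf 100) (.leaf 78)))) (.node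 (.node (.node (.leaf 58) (.leaf 0)) (.node (.leaf 15) (.leaf 16))) (.node (.node (.leaf 0) (.leaf 0)) (.node (.leaf 50) (.leaf 0)))))) (.node (.node (.node (.node (.node (.leaf 0) (.leaf 0)) (.node (.leaf 5) (.leaf 0))) (.node (.node (.leaf 46) (.leaf 0)) (.node (.leaf 27) (.leaf 95)))) (.node (.node (.node (.leaf 0) (.leaf 84)) (.node (.leaf 0) (.leaf 0))) (.node (.node (.leaf 6) (.leaf 109)) (.node (.leaf 0) (.leaf 8))))) (.node (.node (.node (.node (.leaf 0) (.leaf 0)) (.node (.leaf 48) (.leaf 0))) (.node (.node (.leaf 59) (.leaf 0)) (.node (.leaf 60) (.leaf 95)))) (.node (.node (.node (.leaf 111) (.leaf 0)) (.node (.leaf 48) (.leaf 39))) (.node (.node (.leaf 0) (.leaf 0)) (.node (.leaf 96) (.leaf 0)))))))))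

/-- Part of `blkT`. -/
def blkT4 : Tr :=
  (.node (.node (.node (.node (.node (.node (.node (.node (.leaf 0) (.leaf 0)) (.node (.leaf 0) (.leaf 81))) (.node (.node (.leaf 0) (.leaf 63)) (.node (.leaf 50) (.leaf 77)))) (.node (.node (.node (.leaf 0) (.leaf 67)) (.node (.leaf 55) (.leaf 67))) (.node (.node (.leaf 0) (.leaf 0)) (.node (.leaf 0) (.leaf 37))))) (.node (.node (.node (.node (.leaf 0) (.leaf 0)) (.node (.leaf 0) (.leaf 18))) (.node (.node (.leaf 0) (.leaf 68)) (.node (.leaf 69) (.leaf 18)))) (.node (.node (.node (.leaf 31) (.leaf 0)) (.node (.leaf 0) (.leaf 0))) (.node (.node (.leaf 27) (.leaf 10)) (.node (.leaf 73) (.leaf 0)))))) (.node (.node (.node (.node (.node (.leaf 0) (.leaf 0)) (.node (.leaf 0) (.leaf 10))) (.node (.node (.leaf 0) (.leaf 106)) (.node (.leaf 96) (.leaf 73)))) (.node (.node (.node (.leaf 0) (.leaf 13)) (.node (.leaf 92) (.leaf 67))) (.node (.node (.leaf 0) (.leaf 0)) (.node (.leaf 0) (.leaf 37))))) (.node (.node (.node (.node (.leaf 63) (.leaf 37)) (.node (.leaf 77)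 (.leaf 0))) (.node (.node (.leaf 96) (.leaf 0)) (.node (.leaf 0) (.leaf 0)))) (.node (.node (.node (.leaf 0) (.leaf 69)) (.node (.leaf 92) (.leaf 14))) (.node (.node (.leaf 0) (.leaf 0)) (.node (.leaf 0) (.leaf 17))))))) (.node (.node (.node (.node (.node (.node (.leaf 0) (.leaf 0)) (.node (.leaf 0) (.leaf 7))) (.node (.node (.leaf 0) (.leaf 49)) (.node (.leaf 35) (.leaf 35)))) (.node (.node (.node (.leaf 0) (.leaf 6)) (.node (.leaf 22) (.leaf 76))) (.node (.node (.leaf 0) (.leaf 0)) (.node (.leaf 0) (.leaf 76))))) (.node (.node (.node (.node (.leaf 56) (.leaf 7)) (.node (.leaf 58) (.leaf 0))) (.node (.node (.leaf 4) (.leaf 0)) (.node (.leaf 0) (.leaf 0)))) (.node (.node (.node (.leaf 0) (.leaf 103)) (.node (.leaf 92) (.leaf 28))) (.node (.node (.leaf 0) (.leaf 0)) (.node (.leaf 0) (.leaf 102)))))) (.node (.node (.node (.node (.node (.leaf 0) (.leaf 0)) (.node (.leaf 0) (.leaf 85))) (.node (.node (.leaf 0) (.leaf 53)) (.node (.leaf 80) (.leaf 58)))) (.node (.node (.node (.leaf 0) (.leaf 11)) (.node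 (.leaf 19) (.leaf 67))) (.node (.node (.leaf 0) (.leaf 0)) (.node (.leaf 0) (.leaf 37))))) (.node (.node (.node (.node (.leaf 0) (.leaf 0)) (.node (.leaf 0) (.leaf 98))) (.node (.node (.leaf 0) (.leaf 112)) (.node (.leaf 4) (.leaf 107)))) (.node (.node (.node (.leaf 48) (.leaf 0)) (.node (.leaf 0) (.leaf 0))) (.node (.node (.leaf 71) (.leaf 10)) (.node (.leaf 25) (.leaf 0)))))))) (.node (.node (.node (.node (.node (.node (.node (.leaf 0) (.leaf 0)) (.node (.leaf 0) (.leaf 9))) (.node (.node (.leaf 2) (.leaf 0)) (.node (.leaf 0) (.leaf 0)))) (.node (.node (.node (.leaf 38) (.leaf 0)) (.node (.leaf 0) (.leaf 0))) (.node (.node (.leaf 0) (.leaf 0)) (.node (.leaf 0) (.leaf 49))))) (.node (.node (.node (.node (.leaf 0) (.leaf 0)) (.node (.leaf 0) (.leaf 112))) (.node (.node (.leaf 108) (.leaf 0)) (.node (.leaf 0) (.leaf 0)))) (.node (.node (.node (.leaf 0) (.leaf 43)) (.node (.leaf 84) (.leaf 20))) (.node (.node (.leaf 58) (.leaf 80)) (.node (.leaf 109) (.leaf 0)))))) (.node (.node (.node (.node (.node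 (.leaf 88) (.leaf 51)) (.node (.leaf 58) (.leaf 0))) (.node (.node (.leaf 0) (.leaf 57)) (.node (.leaf 85) (.leaf 28)))) (.node (.node (.node (.leaf 0) (.leaf 15)) (.node (.leaf 38) (.leaf 8))) (.node (.node (.leaf 34) (.leaf 31)) (.node (.leaf 20) (.leaf 0))))) (.node (.node (.node (.node (.leaf 0) (.leaf 0)) (.node (.leaf 0) (.leaf 30))) (.node (.node (.leaf 85) (.leaf 0)) (.node (.leaf 0) (.leaf 0)))) (.node (.node (.node (.leaf 0) (.leaf 71)) (.node (.leaf 23) (.leaf 25))) (.node (.node (.leaf 52) (.leaf 52)) (.node (.leaf 47) (.leaf 0))))))) (.node (.node (.node (.node (.node (.node (.leaf 0) (.leaf 0)) (.node (.leaf 0) (.leaf 109))) (.node (.node (.leaf 84) (.leaf 0)) (.node (.leaf 0) (.leaf 0)))) (.node (.node (.node (.leaf 6) (.leaf 0)) (.node (.leaf 0) (.leaf 0))) (.node (.node (.leaf 0) (.leaf 0)) (.node (.leaf 0) (.leaf 66))))) (.node (.node (.node (.node (.leaf 55) (.leaf 1)) (.node (.leaf 58) (.leaf 0))) (.node (.node (.leaf 0) (.leaf 83)) (.node (.leaf 85) (.leaf 67)))) (.node (.node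 (.node (.leaf 103) (.leaf 0)) (.node (.leaf 0) (.leaf 0))) (.node (.node (.leaf 0) (.leaf 0)) (.node (.leaf 0) (.leaf 52)))))) (.node (.node (.node (.node (.node (.leaf 70) (.leaf 52)) (.node (.leaf 73) (.leaf 0))) (.node (.node (.leaf 0) (.leaf 57)) (.node (.leaf 10) (.leaf 54)))) (.node (.node (.node (.leaf 0) (.leaf 68)) (.node (.leaf 38) (.leaf 8))) (.node (.node (.leaf 93) (.leaf 30)) (.node (.leaf 20) (.leaf 0))))) (.node (.node (.node (.node (.leaf 92) (.leaf 1)) (.node (.leaf 41) (.leaf 0))) (.node (.node (.leaf 0) (.leaf 97)) (.node (.leaf 21) (.leaf 45)))) (.node (.node (.node (.leaf 38) (.leaf 0)) (.node (.leaf 0) (.leaf 0))) (.node (.node (.leaf 0) (.leaf 0)) (.node (.leaf 0) (.leaf 89)))))))))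

/-- Part of `blkT`. -/
def blkT5 : Tr :=
  (.node (.node (.node (.node (.node (.node (.node (.node (.leaf 81) (.leaf 0)) (.node (.leaf 67) (.leaf 67))) (.node (.node (.leaf 0) (.leaf 0)) (.node (.leaf 37) (.leaf 0)))) (.node (.node (.node (.leaf 81) (.leaf 3)) (.node (.leaf 0) (.leaf 67))) (.node (.node (.leaf 0) (.leaf 63)) (.node (.leaf 0) (.leaf 0))))) (.node (.node (.node (.node (.leaf 69) (.leaf 0)) (.node (.leaf 14) (.leaf 14))) (.node (.node (.leaf 0) (.leaf 0)) (.node (.leaf 17) (.leaf 0)))) (.node (.node (.node (.leaf 0) (.leaf 0)) (.node (.leaf 34) (.leaf 0))) (.node (.node (.leaf 96) (.leaf 0)) (.node (.leaf 87) (.leaf 99)))))) (.node (.node (.node (.node (.node (.leaf 10) (.leaf 0)) (.node (.leaf 75) (.leaf 106))) (.node (.node (.leaf 0) (.leaf 0)) (.node (.leaf 75) (.leaf 0)))) (.node (.node (.node (.leaf 10) (.leaf 51)) (.node (.leaf 0) (.leaf 40))) (.node (.node (.leaf 0) (.leaf 63)) (.node (.leaf 0) (.leaf 0))))) (.node (.node (.node (.node (.leaf 0) (.leaf 50)) (.node (.leaf 0) (.leaf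 0))) (.node (.node (.leaf 17) (.leaf 68)) (.node (.leaf 0) (.leaf 73)))) (.node (.node (.node (.leaf 21) (.leaf 100)) (.node (.leaf 0) (.leaf 18))) (.node (.node (.leaf 0) (.leaf 68)) (.node (.leaf 0) (.leaf 0))))))) (.node (.node (.node (.node (.node (.node (.leaf 56) (.leaf 0)) (.node (.leaf 2) (.leaf 49))) (.node (.node (.leaf 0) (.leaf 0)) (.node (.leaf 2) (.leaf 0)))) (.node (.node (.node (.leaf 36) (.leaf 90)) (.node (.leaf 0) (.leaf 109))) (.node (.node (.leaf 0) (.leaf 76)) (.node (.leaf 0) (.leaf 0))))) (.node (.node (.node (.node (.leaf 0) (.leaf 80)) (.node (.leaf 0) (.leaf 0))) (.node (.node (.leaf 102) (.leaf 112)) (.node (.leaf 0) (.leaf 107)))) (.node (.node (.node (.leaf 95) (.leaf 1)) (.node (.leaf 0) (.leaf 64))) (.node (.node (.leaf 0) (.leaf 112)) (.node (.leaf 0) (.leaf 0)))))) (.node (.node (.node (.node (.node (.leaf 85) (.leaf 0)) (.node (.leaf 86) (.leaf 53))) (.node (.node (.leaf 0) (.leaf 0)) (.node (.leaf 86) (.leaf 0)))) (.node (.node (.node (.leaf 85) (.leaf 52)) (.node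 (.leaf 0) (.leaf 47))) (.node (.node (.leaf 0) (.leaf 63)) (.node (.leaf 0) (.leaf 0))))) (.node (.node (.node (.node (.leaf 98) (.leaf 0)) (.node (.leaf 28) (.leaf 28))) (.node (.node (.leaf 0) (.leaf 0)) (.node (.leaf 102) (.leaf 0)))) (.node (.node (.node (.leaf 0) (.leaf 0)) (.node (.leaf 39) (.leaf 0))) (.node (.node (.leaf 23) (.leaf 0)) (.node (.leaf 54) (.leaf 79)))))))) (.node (.node (.node (.node (.node (.node (.node (.leaf 0) (.leaf 9)) (.node (.leaf 0) (.leaf 0))) (.node (.node (.leaf 0) (.leaf 0)) (.node (.leaf 49) (.leaf 0)))) (.node (.node (.node (.leaf 91) (.leaf 61)) (.node (.leaf 0) (.leaf 8))) (.node (.node (.leaf 2) (.leaf 0)) (.node (.leaf 109) (.leaf 6))))) (.node (.node (.node (.node (.leaf 0) (.leaf 102)) (.node (.leaf 0) (.leaf 0))) (.node (.node (.leaf 0) (.leaf 0)) (.node (.leaf 12) (.leaf 0)))) (.node (.node (.node (.leaf 0) (.leaf 0)) (.node (.leaf 41) (.leaf 0))) (.node (.node (.leaf 0) (.leaf 6)) (.node (.leaf 0) (.leaf 0)))))) (.node (.node (.node (.node (.node (.leaf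 80) (.leaf 0)) (.node (.leaf 72) (.leaf 9))) (.node (.node (.leaf 33) (.leaf 79)) (.node (.leaf 0) (.leaf 66)))) (.node (.node (.node (.leaf 0) (.leaf 0)) (.node (.leaf 16) (.leaf 0))) (.node (.node (.leaf 0) (.leaf 84)) (.node (.leaf 0) (.leaf 0))))) (.node (.node (.node (.node (.leaf 0) (.leaf 93)) (.node (.leaf 0) (.leaf 0))) (.node (.node (.leaf 0) (.leaf 0)) (.node (.leaf 85) (.leaf 0)))) (.node (.node (.node (.leaf 0) (.leaf 0)) (.node (.leaf 71) (.leaf 0))) (.node (.node (.leaf 0) (.leaf 11)) (.node (.leaf 0) (.leaf 0))))))) (.node (.node (.node (.node (.node (.node (.leaf 0) (.leaf 6)) (.node (.leaf 0) (.leaf 0))) (.node (.node (.leaf 0) (.leaf 0)) (.node (.leaf 20) (.leaf 0)))) (.node (.node (.node (.leaf 97) (.leaf 46)) (.node (.leaf 0) (.leaf 109))) (.node (.node (.leaf 57) (.leaf 0)) (.node (.leaf 20) (.leaf 84))))) (.node (.node (.node (.node (.leaf 80) (.leaf 0)) (.node (.leaf 72) (.leaf 78))) (.node (.node (.leaf 52) (.leaf 19)) (.node (.leaf 0) (.leaf 24)))) (.node (.node (.node (.leaf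 1) (.leaf 1)) (.node (.leaf 0) (.leaf 64))) (.node (.node (.leaf 52) (.leaf 0)) (.node (.leaf 47) (.leaf 11)))))) (.node (.node (.node (.node (.node (.leaf 96) (.leaf 0)) (.node (.leaf 87) (.leaf 9))) (.node (.node (.leaf 71) (.leaf 79)) (.node (.leaf 0) (.leaf 66)))) (.node (.node (.node (.leaf 0) (.leaf 0)) (.node (.leaf 17) (.leaf 0))) (.node (.node (.leaf 0) (.leaf 84)) (.node (.leaf 0) (.leaf 0))))) (.node (.node (.node (.node (.leaf 43) (.leaf 0)) (.node (.leaf 28) (.leaf 95))) (.node (.node (.leaf 71) (.leaf 88)) (.node (.leaf 0) (.leaf 46)))) (.node (.node (.node (.leaf 75) (.leaf 106)) (.node (.leaf 0) (.leaf 8))) (.node (.node (.leaf 29) (.leaf 0)) (.node (.leaf 109) (.leaf 6)))))))))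

/-- Part of `blkT`. -/
def blkT6 : Tr :=
  (.node (.node (.node (.node (.node (.node (.node (.node (.leaf 80) (.leaf 0)) (.node (.leaf 0) (.leaf 0))) (.node (.node (.leaf 0) (.leaf 0)) (.node (.leaf 0) (.leaf 42)))) (.node (.node (.node (.leaf 0) (.leaf 0)) (.node (.leaf 0) (.leaf 64))) (.node (.node (.leaf 89) (.leaf 0)) (.node (.leaf 0) (.leaf 0))))) (.node (.node (.node (.node (.leaf 4) (.leaf 0)) (.node (.leaf 0) (.leaf 0))) (.node (.node (.leaf 0) (.leaf 0)) (.node (.leaf 0) (.leaf 112)))) (.node (.node (.node (.leaf 103) (.leaf 64)) (.node (.leaf 2) (.leaf 0))) (.node (.node (.leaf 0) (.leaf 11)) (.node (.leaf 96) (.leaf 73)))))) (.node (.node (.node (.node (.node (.leaf 7) (.leaf 0)) (.node (.leaf 0) (.leaf 0))) (.node (.node (.leaf 0) (.leaf 0)) (.node (.leaf 0) (.leaf 79)))) (.node (.node (.node (.leaf 0) (.leaf 0)) (.node (.leaf 0) (.leaf 8))) (.node (.node (.leaf 22) (.leaf 0)) (.node (.leaf 0) (.leaf 0))))) (.node (.node (.node (.node (.leaf 0) (.leaf 49)) (.node (.leaf 60) (.leaf 35)))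 (.node (.node (.leaf 85) (.leaf 79)) (.node (.leaf 86) (.leaf 0)))) (.node (.node (.node (.leaf 0) (.leaf 0)) (.node (.leaf 0) (.leaf 25))) (.node (.node (.leaf 69) (.leaf 0)) (.node (.leaf 0) (.leaf 0))))))) (.node (.node (.node (.node (.node (.node (.leaf 96) (.leaf 0)) (.node (.leaf 0) (.leaf 0))) (.node (.node (.leaf 0) (.leaf 0)) (.node (.leaf 0) (.leaf 99)))) (.node (.node (.node (.leaf 0) (.leaf 0)) (.node (.leaf 0) (.leaf 59))) (.node (.node (.leaf 69) (.leaf 0)) (.node (.leaf 0) (.leaf 0))))) (.node (.node (.node (.node (.leaf 0) (.leaf 106)) (.node (.leaf 51) (.leaf 67))) (.node (.node (.leaf 81) (.leaf 99)) (.node (.leaf 18) (.leaf 0)))) (.node (.node (.node (.leaf 0) (.leaf 0)) (.node (.leaf 0) (.leaf 92))) (.node (.node (.leaf 69) (.leaf 0)) (.node (.leaf 0) (.leaf 0)))))) (.node (.node (.node (.node (.node (.leaf 50) (.leaf 0)) (.node (.leaf 0) (.leaf 0))) (.node (.node (.leaf 0) (.leaf 0)) (.node (.leaf 0) (.leaf 63)))) (.node (.node (.node (.leaf 0) (.leaf 0)) (.node (.leaf 0) (.leaf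 37))) (.node (.node (.leaf 104) (.leaf 0)) (.node (.leaf 0) (.leaf 0))))) (.node (.node (.node (.node (.leaf 92) (.leaf 0)) (.node (.leaf 0) (.leaf 0))) (.node (.node (.leaf 0) (.leaf 0)) (.node (.leaf 0) (.leaf 68)))) (.node (.node (.node (.leaf 10) (.leaf 10)) (.node (.leaf 75) (.leaf 0))) (.node (.node (.leaf 0) (.leaf 73)) (.node (.leaf 96) (.leaf 73)))))))) (.node (.node (.node (.node (.node (.node (.node (.leaf 0) (.leaf 39)) (.node (.leaf 74) (.leaf 105))) (.node (.node (.leaf 0) (.leaf 0)) (.node (.leaf 0) (.leaf 31)))) (.node (.node (.node (.leaf 0) (.leaf 0)) (.node (.leaf 0) (.leaf 48))) (.node (.node (.leaf 0) (.leaf 6)) (.node (.leaf 72) (.leaf 76))))) (.node (.node (.node (.node (.leaf 0) (.leaf 101)) (.node (.leaf 69) (.leaf 18))) (.node (.node (.leaf 0) (.leaf 0)) (.node (.leaf 0) (.leaf 112)))) (.node (.node (.node (.leaf 88) (.leaf 19)) (.node (.leaf 20) (.leaf 0))) (.node (.node (.leaf 12) (.leaf 0)) (.node (.leaf 0) (.leaf 0)))))) (.node (.node (.node (.node (.node (.leaf 38) (.leaf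 0)) (.node (.leaf 0) (.leaf 0))) (.node (.node (.leaf 20) (.leaf 84)) (.node (.leaf 109) (.leaf 0)))) (.node (.node (.node (.leaf 81) (.leaf 9)) (.node (.leaf 8) (.leaf 0))) (.node (.node (.leaf 77) (.leaf 0)) (.node (.leaf 0) (.leaf 0))))) (.node (.node (.node (.node (.leaf 0) (.leaf 37)) (.node (.leaf 104) (.leaf 110))) (.node (.node (.leaf 0) (.leaf 0)) (.node (.leaf 0) (.leaf 30)))) (.node (.node (.node (.leaf 71) (.leaf 52)) (.node (.leaf 25) (.leaf 0))) (.node (.node (.leaf 71) (.leaf 0)) (.node (.leaf 0) (.leaf 0))))))) (.node (.node (.node (.node (.node (.node (.leaf 0) (.leaf 102)) (.node (.leaf 12) (.leaf 108))) (.node (.node (.leaf 0) (.leaf 0)) (.node (.leaf 0) (.leaf 30)))) (.node (.node (.node (.leaf 0) (.leaf 0)) (.node (.leaf 0) (.leaf 112))) (.node (.node (.leaf 0) (.leaf 6)) (.node (.leaf 87) (.leaf 76))))) (.node (.node (.node (.node (.leaf 72) (.leaf 0)) (.node (.leaf 0) (.leaf 0))) (.node (.node (.leaf 93) (.leaf 30)) (.node (.leaf 58) (.leaf 0)))) (.node (.node (.node (.leaf 0)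 (.leaf 0)) (.node (.leaf 0) (.leaf 1))) (.node (.node (.leaf 0) (.leaf 103)) (.node (.leaf 52) (.leaf 90)))))) (.node (.node (.node (.node (.node (.leaf 57) (.leaf 0)) (.node (.leaf 0) (.leaf 0))) (.node (.node (.leaf 57) (.leaf 66)) (.node (.leaf 2) (.leaf 0)))) (.node (.node (.node (.leaf 55) (.leaf 79)) (.node (.leaf 20) (.leaf 0))) (.node (.node (.leaf 104) (.leaf 0)) (.node (.leaf 0) (.leaf 0))))) (.node (.node (.node (.node (.leaf 28) (.leaf 0)) (.node (.leaf 0) (.leaf 0))) (.node (.node (.leaf 102) (.leaf 112)) (.node (.leaf 108) (.leaf 0)))) (.node (.node (.node (.leaf 0) (.leaf 0)) (.node (.leaf 0) (.leaf 65))) (.node (.node (.leaf 0) (.leaf 38)) (.node (.leaf 85) (.leaf 36)))))))))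

/-- Part of `blkT`. -/
def blkT7 : Tr :=
  (.node (.node (.node (.node (.node (.node (.node (.node (.leaf 0) (.leaf 0)) (.node (.leaf 58) (.leaf 0))) (.node (.node (.leaf 0) (.leaf 42)) (.node (.leaf 0) (.leaf 0)))) (.node (.node (.node (.leaf 103) (.leaf 0)) (.node (.leaf 58) (.leaf 80))) (.node (.node (.leaf 25) (.leaf 23)) (.node (.leaf 0) (.leaf 29))))) (.node (.node (.node (.node (.leaf 0) (.leaf 0)) (.node (.leaf 107) (.leaf 0))) (.node (.node (.leaf 0) (.leaf 102)) (.node (.leaf 0) (.leaf 0)))) (.node (.node (.node (.leaf 0) (.leaf 49)) (.node (.leaf 0) (.leaf 0))) (.node (.node (.leaf 0) (.leaf 0)) (.node (.leaf 47) (.leaf 0)))))) (.node (.node (.node (.node (.node (.leaf 0) (.leaf 0)) (.node (.leaf 56) (.leaf 0))) (.node (.node (.leaf 0) (.leaf 79)) (.node (.leaf 0) (.leaf 0)))) (.node (.node (.node (.leaf 38) (.leaf 0)) (.node (.leaf 36) (.leaf 36))) (.node (.node (.leaf 20) (.leaf 84)) (.node (.leaf 0) (.leaf 22))))) (.node (.node (.node (.node (.leaf 42) (.leaf 98)) (.node (.leaf 0) (.leaf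 2))) (.node (.node (.leaf 53) (.leaf 0)) (.node (.leaf 28) (.leaf 33)))) (.node (.node (.node (.leaf 23) (.leaf 0)) (.node (.leaf 46) (.leaf 97))) (.node (.node (.leaf 47) (.leaf 11)) (.node (.leaf 0) (.leaf 18))))))) (.node (.node (.node (.node (.node (.node (.leaf 0) (.leaf 0)) (.node (.leaf 73) (.leaf 0))) (.node (.node (.leaf 0) (.leaf 99)) (.node (.leaf 0) (.leaf 0)))) (.node (.node (.node (.leaf 26) (.leaf 0)) (.node (.leaf 73) (.leaf 96))) (.node (.node (.leaf 44) (.leaf 94)) (.node (.leaf 0) (.leaf 18))))) (.node (.node (.node (.node (.leaf 92) (.leaf 10)) (.node (.leaf 0) (.leaf 75))) (.node (.node (.leaf 69) (.leaf 0)) (.node (.leaf 14) (.leaf 33)))) (.node (.node (.node (.leaf 92) (.leaf 0)) (.node (.leaf 41) (.leaf 43))) (.node (.node (.leaf 69) (.leaf 18)) (.node (.leaf 0) (.leaf 18)))))) (.node (.node (.node (.node (.node (.leaf 0) (.leaf 0)) (.node (.leaf 77) (.leaf 0))) (.node (.node (.leaf 0) (.leaf 37)) (.node (.leaf 0) (.leaf 0)))) (.node (.node (.node (.leaf 63) (.leaf 0)) (.node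 (.leaf 77) (.leaf 50))) (.node (.node (.leaf 63) (.leaf 37)) (.node (.leaf 0) (.leaf 110))))) (.node (.node (.node (.node (.leaf 0) (.leaf 0)) (.node (.leaf 92) (.leaf 0))) (.node (.node (.leaf 0) (.leaf 17)) (.node (.leaf 0) (.leaf 0)))) (.node (.node (.node (.leaf 0) (.leaf 106)) (.node (.leaf 0) (.leaf 0))) (.node (.node (.leaf 0) (.leaf 0)) (.node (.leaf 96) (.leaf 0)))))))) (.node (.node (.node (.node (.node (.node (.node (.leaf 0) (.leaf 0)) (.node (.leaf 48) (.leaf 0))) (.node (.node (.leaf 34) (.leaf 0)) (.node (.leaf 2) (.leaf 49)))) (.node (.node (.node (.leaf 0) (.leaf 39)) (.node (.leaf 0) (.leaf 0))) (.node (.node (.leaf 14) (.leaf 54)) (.node (.leaf 0) (.leaf 109))))) (.node (.node (.node (.node (.leaf 0) (.leaf 0)) (.node (.leaf 5) (.leaf 0))) (.node (.node (.leaf 102) (.leaf 0)) (.node (.leaf 108) (.leaf 12)))) (.node (.node (.node (.leaf 84) (.leaf 0)) (.node (.leaf 22) (.leaf 99))) (.node (.node (.leaf 0) (.leaf 0)) (.node (.leaf 108) (.leaf 0)))))) (.node (.node (.node (.node (.node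 (.leaf 38) (.leaf 8)) (.node (.leaf 0) (.leaf 8))) (.node (.node (.leaf 0) (.leaf 6)) (.node (.leaf 0) (.leaf 0)))) (.node (.node (.node (.leaf 38) (.leaf 0)) (.node (.leaf 36) (.leaf 95))) (.node (.node (.leaf 0) (.leaf 0)) (.node (.leaf 50) (.leaf 0))))) (.node (.node (.node (.node (.leaf 0) (.leaf 0)) (.node (.leaf 63) (.leaf 0))) (.node (.node (.leaf 93) (.leaf 0)) (.node (.leaf 29) (.leaf 89)))) (.node (.node (.node (.leaf 23) (.leaf 0)) (.node (.leaf 90) (.leaf 1))) (.node (.node (.leaf 0) (.leaf 0)) (.node (.leaf 71) (.leaf 0))))))) (.node (.node (.node (.node (.node (.node (.leaf 0) (.leaf 0)) (.node (.leaf 112) (.leaf 0))) (.node (.node (.leaf 93) (.leaf 0)) (.node (.leaf 2) (.leaf 49)))) (.node (.node (.node (.leaf 0) (.leaf 102)) (.node (.leaf 0) (.leaf 0))) (.node (.node (.leaf 32) (.leaf 28)) (.node (.leaf 0) (.leaf 109))))) (.node (.node (.node (.node (.leaf 58) (.leaf 80)) (.node (.leaf 0) (.leaf 72))) (.node (.node (.leaf 0) (.leaf 80)) (.node (.leaf 0) (.leaf 0)))) (.node (.node (.node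 (.leaf 0) (.leaf 1)) (.node (.leaf 0) (.leaf 0))) (.node (.node (.leaf 71) (.leaf 1)) (.node (.leaf 0) (.leaf 64)))))) (.node (.node (.node (.node (.node (.leaf 79) (.leaf 79)) (.node (.leaf 0) (.leaf 66))) (.node (.node (.leaf 0) (.leaf 49)) (.node (.leaf 0) (.leaf 0)))) (.node (.node (.node (.leaf 84) (.leaf 0)) (.node (.leaf 22) (.leaf 62))) (.node (.node (.leaf 0) (.leaf 0)) (.node (.leaf 110) (.leaf 0))))) (.node (.node (.node (.node (.leaf 88) (.leaf 88)) (.node (.leaf 0) (.leaf 28))) (.node (.node (.leaf 0) (.leaf 12)) (.node (.leaf 0) (.leaf 0)))) (.node (.node (.node (.leaf 0) (.leaf 111)) (.node (.leaf 0) (.leaf 0))) (.node (.node (.leaf 21) (.leaf 82)) (.node (.leaf 0) (.leaf 8)))))))))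

/-- Part of `blkT`. -/
def blkT8 : Tr :=
  (.node (.node (.node (.node (.node (.node (.node (.node (.leaf 0) (.leaf 55)) (.node (.leaf 67) (.leaf 3))) (.node (.node (.leaf 0) (.leaf 0)) (.node (.leaf 0) (.leaf 110)))) (.node (.node (.node (.leaf 81) (.leaf 81)) (.node (.leaf 55) (.leaf 0))) (.node (.node (.leaf 77) (.leaf 0)) (.node (.leaf 0) (.leaf 0))))) (.node (.node (.node (.node (.leaf 69) (.leaf 0)) (.node (.leaf 0) (.leaf 0))) (.node (.node (.leaf 92) (.leaf 21)) (.node (.leaf 41) (.leaf 0)))) (.node (.node (.node (.leaf 31) (.leaf 34)) (.node (.leaf 99) (.leaf 0))) (.node (.node (.leaf 31) (.leaf 0)) (.node (.leaf 0) (.leaf 0)))))) (.node (.node (.node (.node (.node (.leaf 106) (.leaf 0)) (.node (.leaf 0) (.leaf 0))) (.node (.node (.leaf 99) (.leaf 10)) (.node (.leaf 31) (.leaf 0)))) (.node (.node (.node (.leaf 0) (.leaf 0)) (.node (.leaf 0) (.leaf 75))) (.node (.node (.leaf 0) (.leaf 104)) (.node (.leaf 77) (.leaf 50))))) (.node (.node (.node (.node (.leaf 104) (.leaf 0)) (.node (.leaf 0)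 (.leaf 0))) (.node (.node (.leaf 55) (.leaf 21)) (.node (.leaf 26) (.leaf 0)))) (.node (.node (.node (.leaf 68) (.leaf 17)) (.node (.leaf 43) (.leaf 0))) (.node (.node (.leaf 68) (.leaf 0)) (.node (.leaf 0) (.leaf 0))))))) (.node (.node (.node (.node (.node (.node (.leaf 0) (.leaf 57)) (.node (.leaf 35) (.leaf 100))) (.node (.node (.leaf 0) (.leaf 0)) (.node (.leaf 0) (.leaf 2)))) (.node (.node (.node (.leaf 8) (.leaf 38)) (.node (.leaf 20) (.leaf 0))) (.node (.node (.leaf 6) (.leaf 0)) (.node (.leaf 0) (.leaf 0))))) (.node (.node (.node (.node (.leaf 0) (.leaf 40)) (.node (.leaf 72) (.leaf 51))) (.node (.node (.leaf 0) (.leaf 0)) (.node (.leaf 0) (.leaf 108)))) (.node (.node (.node (.leaf 0) (.leaf 0)) (.node (.leaf 0) (.leaf 91))) (.node (.node (.leaf 0) (.leaf 12)) (.node (.leaf 107) (.leaf 4)))))) (.node (.node (.node (.node (.node (.leaf 53) (.leaf 0)) (.node (.leaf 0) (.leaf 0))) (.node (.node (.leaf 42) (.leaf 85)) (.node (.leaf 30) (.leaf 0)))) (.node (.node (.node (.leaf 0) (.leaf 0)) (.node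 (.leaf 0) (.leaf 86))) (.node (.node (.leaf 0) (.leaf 104)) (.node (.leaf 77) (.leaf 50))))) (.node (.node (.node (.node (.leaf 0) (.leaf 88)) (.node (.leaf 28) (.leaf 3))) (.node (.node (.leaf 0) (.leaf 0)) (.node (.leaf 0) (.leaf 108)))) (.node (.node (.node (.leaf 0) (.leaf 0)) (.node (.leaf 0) (.leaf 105))) (.node (.node (.leaf 0) (.leaf 106)) (.node (.leaf 66) (.leaf 57)))))))) (.node (.node (.node (.node (.node (.node (.node (.leaf 7) (.leaf 0)) (.node (.leaf 0) (.leaf 0))) (.node (.node (.leaf 0) (.leaf 0)) (.node (.leaf 0) (.leaf 35)))) (.node (.node (.node (.leaf 81) (.leaf 95)) (.node (.leaf 56) (.leaf 0))) (.node (.node (.leaf 0) (.leaf 46)) (.node (.leaf 76) (.leaf 67))))) (.node (.node (.node (.node (.leaf 0) (.leaf 4)) (.node (.leaf 108) (.leaf 12))) (.node (.node (.leaf 107) (.leaf 4)) (.node (.leaf 112) (.leaf 0)))) (.node (.node (.node (.leaf 42) (.leaf 92)) (.node (.leaf 30) (.leaf 0))) (.node (.node (.leaf 0) (.leaf 69)) (.node (.leaf 76) (.leaf 14)))))) (.node (.node (.node (.node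 (.node (.leaf 7) (.leaf 0)) (.node (.leaf 0) (.leaf 0))) (.node (.node (.leaf 0) (.leaf 0)) (.node (.leaf 0) (.leaf 44)))) (.node (.node (.node (.leaf 10) (.leaf 78)) (.node (.leaf 75) (.leaf 0))) (.node (.node (.leaf 0) (.leaf 24)) (.node (.leaf 22) (.leaf 19))))) (.node (.node (.node (.node (.leaf 93) (.leaf 0)) (.node (.leaf 0) (.leaf 0))) (.node (.node (.leaf 0) (.leaf 0)) (.node (.leaf 0) (.leaf 86)))) (.node (.node (.node (.leaf 0) (.leaf 0)) (.node (.leaf 0) (.leaf 25))) (.node (.node (.leaf 11) (.leaf 0)) (.node (.leaf 0) (.leaf 0))))))) (.node (.node (.node (.node (.node (.node (.leaf 76) (.leaf 0)) (.node (.leaf 0) (.leaf 0))) (.node (.node (.leaf 0) (.leaf 0)) (.node (.leaf 0) (.leaf 20)))) (.node (.node (.node (.leaf 67) (.leaf 45)) (.node (.leaf 2) (.leaf 0))) (.node (.node (.leaf 0) (.leaf 101)) (.node (.leaf 22) (.leaf 55))))) (.node (.node (.node (.node (.leaf 16) (.leaf 0)) (.node (.leaf 0) (.leaf 0))) (.node (.node (.leaf 0) (.leaf 0)) (.node (.leaf 0) (.leaf 47)))) (.node (.node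 (.node (.leaf 0) (.leaf 0)) (.node (.leaf 0) (.leaf 64))) (.node (.node (.leaf 11) (.leaf 0)) (.node (.leaf 0) (.leaf 0)))))) (.node (.node (.node (.node (.node (.leaf 7) (.leaf 0)) (.node (.leaf 0) (.leaf 0))) (.node (.node (.leaf 0) (.leaf 0)) (.node (.leaf 0) (.leaf 25)))) (.node (.node (.node (.leaf 85) (.leaf 21)) (.node (.leaf 86) (.leaf 0))) (.node (.node (.leaf 0) (.leaf 41)) (.node (.leaf 22) (.leaf 92))))) (.node (.node (.node (.node (.leaf 0) (.leaf 103)) (.node (.leaf 91) (.leaf 61))) (.node (.node (.leaf 23) (.leaf 25)) (.node (.leaf 68) (.leaf 0)))) (.node (.node (.node (.leaf 98) (.leaf 10)) (.node (.leaf 15) (.leaf 0))) (.node (.node (.leaf 0) (.leaf 73)) (.node (.leaf 76) (.leaf 28)))))))))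

/-- Part of `blkT`. -/
def blkT9 : Tr :=
  (.node (.node (.node (.node (.node (.node (.node (.node (.leaf 81) (.leaf 55)) (.node (.leaf 0) (.leaf 55))) (.node (.node (.leaf 0) (.leaf 104)) (.node (.leaf 0) (.leaf 0)))) (.node (.node (.node (.leaf 0) (.leaf 55)) (.node (.leaf 0) (.leaf 0))) (.node (.node (.leaf 110) (.leaf 104)) (.node (.leaf 0) (.leaf 50))))) (.node (.node (.node (.node (.leaf 0) (.leaf 0)) (.node (.leaf 18) (.leaf 0))) (.node (.node (.leaf 43) (.leaf 0)) (.node (.leaf 100) (.leaf 14)))) (.node (.node (.node (.leaf 0) (.leaf 99)) (.node (.leaf 0) (.leaf 0))) (.node (.node (.leaf 75) (.leaf 106)) (.node (.leaf 0) (.leaf 34)))))) (.node (.node (.node (.node (.node (.leaf 0) (.leaf 0)) (.node (.leaf 75) (.leaf 0))) (.node (.node (.leaf 34) (.leaf 0)) (.node (.leaf 27) (.leaf 87)))) (.node (.node (.node (.leaf 106) (.leaf 0)) (.node (.leaf 43) (.leaf 41))) (.node (.node (.leaf 0) (.leaf 0)) (.node (.leaf 110) (.leaf 0))))) (.node (.node (.node (.node (.leaf 0) (.leaf 0)) (.node (.leaf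 110) (.leaf 0))) (.node (.node (.leaf 59) (.leaf 0)) (.node (.leaf 60) (.leaf 87)))) (.node (.node (.node (.leaf 0) (.leaf 41)) (.node (.leaf 0) (.leaf 0))) (.node (.node (.leaf 21) (.leaf 21)) (.node (.leaf 0) (.leaf 17))))))) (.node (.node (.node (.node (.node (.node (.leaf 9) (.leaf 79)) (.node (.leaf 0) (.leaf 66))) (.node (.node (.leaf 0) (.leaf 49)) (.node (.leaf 0) (.leaf 0)))) (.node (.node (.node (.leaf 0) (.leaf 84)) (.node (.leaf 0) (.leaf 0))) (.node (.node (.leaf 6) (.leaf 109)) (.node (.leaf 0) (.leaf 109))))) (.node (.node (.node (.node (.leaf 9) (.leaf 88)) (.node (.leaf 0) (.leaf 13))) (.node (.node (.leaf 0) (.leaf 12)) (.node (.leaf 0) (.leaf 0)))) (.node (.node (.node (.leaf 61) (.leaf 0)) (.node (.leaf 43) (.leaf 41))) (.node (.node (.leaf 0) (.leaf 0)) (.node (.leaf 108) (.leaf 0)))))) (.node (.node (.node (.node (.node (.leaf 0) (.leaf 0)) (.node (.leaf 86) (.leaf 0))) (.node (.node (.leaf 93) (.leaf 0)) (.node (.leaf 27) (.leaf 72)))) (.node (.node (.node (.leaf 53) (.leaf 0))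 (.node (.leaf 83) (.leaf 24))) (.node (.node (.leaf 0) (.leaf 0)) (.node (.leaf 110) (.leaf 0))))) (.node (.node (.node (.node (.leaf 98) (.leaf 88)) (.node (.leaf 0) (.leaf 88))) (.node (.node (.leaf 0) (.leaf 12)) (.node (.leaf 0) (.leaf 0)))) (.node (.node (.node (.leaf 74) (.leaf 0)) (.node (.leaf 65) (.leaf 111))) (.node (.node (.leaf 0) (.leaf 0)) (.node (.leaf 75) (.leaf 0)))))))) (.node (.node (.node (.node (.node (.node (.node (.leaf 7) (.leaf 56)) (.node (.leaf 0) (.leaf 56))) (.node (.node (.leaf 35) (.leaf 0)) (.node (.leaf 49) (.leaf 2)))) (.node (.node (.node (.leaf 7) (.leaf 0)) (.node (.leaf 9) (.leaf 36))) (.node (.node (.leaf 35) (.leaf 45)) (.node (.leaf 0) (.leaf 97))))) (.node (.node (.node (.node (.leaf 0) (.leaf 0)) (.node (.leaf 107) (.leaf 0))) (.node (.node (.leaf 0) (.leaf 102)) (.node (.leaf 0) (.leaf 0)))) (.node (.node (.node (.leaf 93) (.leaf 0)) (.node (.leaf 70) (.leaf 22))) (.node (.node (.leaf 72) (.leaf 54)) (.node (.leaf 0) (.leaf 18)))))) (.node (.node (.node (.node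 (.node (.leaf 40) (.leaf 13)) (.node (.leaf 0) (.leaf 56))) (.node (.node (.leaf 94) (.leaf 0)) (.node (.leaf 53) (.leaf 86)))) (.node (.node (.node (.leaf 106) (.leaf 0)) (.node (.leaf 98) (.leaf 36))) (.node (.node (.leaf 99) (.leaf 88)) (.node (.leaf 0) (.leaf 83))))) (.node (.node (.node (.node (.leaf 42) (.leaf 42)) (.node (.leaf 0) (.leaf 30))) (.node (.node (.leaf 53) (.leaf 0)) (.node (.leaf 53) (.leaf 86)))) (.node (.node (.node (.leaf 0) (.leaf 23)) (.node (.leaf 0) (.leaf 0))) (.node (.node (.leaf 0) (.leaf 0)) (.node (.leaf 47) (.leaf 0))))))) (.node (.node (.node (.node (.node (.node (.leaf 109) (.leaf 6)) (.node (.leaf 0) (.leaf 76))) (.node (.node (.leaf 84) (.leaf 0)) (.node (.leaf 22) (.leaf 22)))) (.node (.node (.node (.leaf 49) (.leaf 0)) (.node (.leaf 35) (.leaf 76))) (.node (.node (.leaf 79) (.leaf 62)) (.node (.leaf 0) (.leaf 5))))) (.node (.node (.node (.node (.leaf 64) (.leaf 103)) (.node (.leaf 0) (.leaf 15))) (.node (.node (.leaf 11) (.leaf 0)) (.node (.leaf 53) (.leaf 86))))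 (.node (.node (.node (.leaf 0) (.leaf 103)) (.node (.leaf 0) (.leaf 0))) (.node (.node (.leaf 0) (.leaf 0)) (.node (.leaf 47) (.leaf 0)))))) (.node (.node (.node (.node (.node (.leaf 47) (.leaf 11)) (.node (.leaf 0) (.leaf 56))) (.node (.node (.leaf 23) (.leaf 0)) (.node (.leaf 106) (.leaf 75)))) (.node (.node (.node (.leaf 53) (.leaf 0)) (.node (.leaf 82) (.leaf 36))) (.node (.node (.leaf 42) (.leaf 70)) (.node (.leaf 0) (.leaf 43))))) (.node (.node (.node (.node (.leaf 0) (.leaf 0)) (.node (.leaf 64) (.leaf 0))) (.node (.node (.leaf 0) (.leaf 17)) (.node (.leaf 0) (.leaf 0)))) (.node (.node (.node (.leaf 16) (.leaf 0)) (.node (.leaf 78) (.leaf 36))) (.node (.node (.leaf 32) (.leaf 87)) (.node (.leaf 0) (.leaf 96)))))))))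

/-- Part of `blkT`. -/
def blkT10 : Tr :=
  (.node (.node (.node (.node (.node (.node (.node (.node (.leaf 0) (.leaf 0)) (.node (.leaf 0) (.leaf 58))) (.node (.node (.leaf 30) (.leaf 0)) (.node (.leaf 0) (.leaf 0)))) (.node (.node (.node (.leaf 0) (.leaf 15)) (.node (.leaf 72) (.leaf 55))) (.node (.node (.leaf 81) (.leaf 71)) (.node (.leaf 93) (.leaf 0))))) (.node (.node (.node (.node (.leaf 102) (.leaf 112)) (.node (.leaf 108) (.leaf 0))) (.node (.node (.leaf 0) (.leaf 4)) (.node (.leaf 108) (.leaf 12)))) (.node (.node (.node (.leaf 0) (.leaf 31)) (.node (.leaf 35) (.leaf 99))) (.node (.node (.leaf 9) (.leaf 52)) (.node (.leaf 7) (.leaf 0)))))) (.node (.node (.node (.node (.node (.leaf 7) (.leaf 56)) (.node (.leaf 9) (.leaf 0))) (.node (.node (.leaf 0) (.leaf 57)) (.node (.leaf 66) (.leaf 57)))) (.node (.node (.node (.leaf 38) (.leaf 0)) (.node (.leaf 0) (.leaf 0))) (.node (.node (.leaf 0) (.leaf 0)) (.node (.leaf 0) (.leaf 20))))) (.node (.node (.node (.node (.leaf 93) (.leaf 30)) (.node (.leaf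 26) (.leaf 0))) (.node (.node (.leaf 0) (.leaf 57)) (.node (.leaf 44) (.leaf 94)))) (.node (.node (.node (.leaf 0) (.leaf 68)) (.node (.leaf 45) (.leaf 88))) (.node (.node (.leaf 98) (.leaf 52)) (.node (.leaf 101) (.leaf 0))))))) (.node (.node (.node (.node (.node (.node (.leaf 0) (.leaf 0)) (.node (.leaf 0) (.leaf 73))) (.node (.node (.leaf 31) (.leaf 0)) (.node (.leaf 0) (.leaf 0)))) (.node (.node (.node (.leaf 0) (.leaf 68)) (.node (.leaf 87) (.leaf 55))) (.node (.node (.leaf 81) (.leaf 33)) (.node (.leaf 34) (.leaf 0))))) (.node (.node (.node (.node (.leaf 0) (.leaf 0)) (.node (.leaf 0) (.leaf 41))) (.node (.node (.leaf 44) (.leaf 0)) (.node (.leaf 0) (.leaf 0)))) (.node (.node (.node (.leaf 43) (.leaf 0)) (.node (.leaf 0) (.leaf 0))) (.node (.node (.leaf 0) (.leaf 0)) (.node (.leaf 0) (.leaf 14)))))) (.node (.node (.node (.node (.node (.leaf 37) (.leaf 63)) (.node (.leaf 110) (.leaf 0))) (.node (.node (.leaf 0) (.leaf 50)) (.node (.leaf 110) (.leaf 104)))) (.node (.node (.node (.leaf 104) (.leaf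 0)) (.node (.leaf 0) (.leaf 0))) (.node (.node (.leaf 0) (.leaf 0)) (.node (.leaf 0) (.leaf 77))))) (.node (.node (.node (.node (.leaf 0) (.leaf 0)) (.node (.leaf 0) (.leaf 41))) (.node (.node (.leaf 21) (.leaf 0)) (.node (.leaf 0) (.leaf 0)))) (.node (.node (.node (.leaf 106) (.leaf 0)) (.node (.leaf 0) (.leaf 0))) (.node (.node (.leaf 0) (.leaf 0)) (.node (.leaf 0) (.leaf 87)))))))) (.node (.node (.node (.node (.node (.node (.node (.leaf 0) (.leaf 0)) (.node (.leaf 0) (.leaf 111))) (.node (.node (.leaf 0) (.leaf 103)) (.node (.leaf 35) (.leaf 82)))) (.node (.node (.node (.leaf 105) (.leaf 0)) (.node (.leaf 0) (.leaf 0))) (.node (.node (.leaf 18) (.leaf 69)) (.node (.leaf 58) (.leaf 0))))) (.node (.node (.node (.node (.leaf 52) (.leaf 62)) (.node (.leaf 47) (.leaf 0))) (.node (.node (.leaf 4) (.leaf 0)) (.node (.leaf 0) (.leaf 0)))) (.node (.node (.node (.leaf 31) (.leaf 0)) (.node (.leaf 0) (.leaf 0))) (.node (.node (.leaf 112) (.leaf 102)) (.node (.leaf 107) (.leaf 0)))))) (.node (.node (.node (.node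 (.node (.leaf 0) (.leaf 0)) (.node (.leaf 0) (.leaf 36))) (.node (.node (.leaf 0) (.leaf 38)) (.node (.leaf 76) (.leaf 36)))) (.node (.node (.node (.leaf 91) (.leaf 0)) (.node (.leaf 0) (.leaf 0))) (.node (.node (.leaf 110) (.leaf 104)) (.node (.leaf 37) (.leaf 0))))) (.node (.node (.node (.node (.leaf 0) (.leaf 0)) (.node (.leaf 0) (.leaf 77))) (.node (.node (.leaf 0) (.leaf 23)) (.node (.leaf 32) (.leaf 81)))) (.node (.node (.node (.leaf 0) (.leaf 11)) (.node (.leaf 64) (.leaf 103))) (.node (.node (.leaf 0) (.leaf 0)) (.node (.leaf 0) (.leaf 25))))))) (.node (.node (.node (.node (.node (.node (.leaf 0) (.leaf 0)) (.node (.leaf 0) (.leaf 107))) (.node (.node (.leaf 0) (.leaf 26)) (.node (.leaf 35) (.leaf 98)))) (.node (.node (.node (.leaf 108) (.leaf 0)) (.node (.leaf 0) (.leaf 0))) (.node (.node (.leaf 29) (.leaf 89)) (.node (.leaf 73) (.leaf 0))))) (.node (.node (.node (.node (.leaf 0) (.leaf 0)) (.node (.leaf 0) (.leaf 58))) (.node (.node (.leaf 0) (.leaf 86)) (.node (.leaf 72) (.leaf 85)))) (.node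 (.node (.node (.leaf 0) (.leaf 103)) (.node (.leaf 64) (.leaf 103))) (.node (.node (.leaf 0) (.leaf 0)) (.node (.leaf 0) (.leaf 25)))))) (.node (.node (.node (.node (.node (.leaf 0) (.leaf 0)) (.node (.leaf 0) (.leaf 66))) (.node (.node (.leaf 0) (.leaf 7)) (.node (.leaf 35) (.leaf 9)))) (.node (.node (.node (.leaf 5) (.leaf 0)) (.node (.leaf 0) (.leaf 0))) (.node (.node (.leaf 63) (.leaf 37)) (.node (.leaf 77) (.leaf 0))))) (.node (.node (.node (.node (.leaf 3) (.leaf 88)) (.node (.leaf 98) (.leaf 0))) (.node (.node (.leaf 4) (.leaf 0)) (.node (.leaf 0) (.leaf 0)))) (.node (.node (.node (.leaf 48) (.leaf 0)) (.node (.leaf 0) (.leaf 0))) (.node (.node (.leaf 68) (.leaf 17)) (.node (.leaf 53) (.leaf 0)))))))))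

/-- Part of `blkT`. -/
def blkT11 : Tr :=
  (.node (.node (.node (.node (.node (.node (.node (.node (.leaf 80) (.leaf 0)) (.node (.leaf 72) (.leaf 72))) (.node (.node (.leaf 30) (.leaf 93)) (.node (.leaf 0) (.leaf 93)))) (.node (.node (.node (.leaf 1) (.leaf 78)) (.node (.leaf 0) (.leaf 16))) (.node (.node (.leaf 30) (.leaf 0)) (.node (.leaf 42) (.leaf 32))))) (.node (.node (.node (.node (.leaf 0) (.leaf 12)) (.node (.leaf 0) (.leaf 0))) (.node (.node (.leaf 0) (.leaf 0)) (.node (.leaf 107) (.leaf 0)))) (.node (.node (.node (.leaf 1) (.leaf 82)) (.node (.leaf 0) (.leaf 34))) (.node (.node (.leaf 56) (.leaf 0)) (.node (.leaf 70) (.leaf 87)))))) (.node (.node (.node (.node (.node (.leaf 0) (.leaf 9)) (.node (.leaf 0) (.leaf 0))) (.node (.node (.leaf 0) (.leaf 0)) (.node (.leaf 66) (.leaf 0)))) (.node (.node (.node (.leaf 0) (.leaf 0)) (.node (.leaf 8) (.leaf 0))) (.node (.node (.leaf 0) (.leaf 84)) (.node (.leaf 0) (.leaf 0))))) (.node (.node (.node (.node (.leaf 0) (.leaf 59)) (.node (.leaf 0) (.leaf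 0))) (.node (.node (.leaf 0) (.leaf 0)) (.node (.leaf 66) (.leaf 0)))) (.node (.node (.node (.leaf 71) (.leaf 21)) (.node (.leaf 0) (.leaf 17))) (.node (.node (.leaf 5) (.leaf 0)) (.node (.leaf 62) (.leaf 14))))))) (.node (.node (.node (.node (.node (.node (.leaf 96) (.leaf 0)) (.node (.leaf 87) (.leaf 87))) (.node (.node (.leaf 31) (.leaf 34)) (.node (.leaf 0) (.leaf 34)))) (.node (.node (.node (.leaf 60) (.leaf 21)) (.node (.leaf 0) (.leaf 17))) (.node (.node (.leaf 31) (.leaf 0)) (.node (.leaf 99) (.leaf 14))))) (.node (.node (.node (.node (.leaf 43) (.leaf 0)) (.node (.leaf 13) (.leaf 40))) (.node (.node (.leaf 31) (.leaf 34)) (.node (.leaf 0) (.leaf 94)))) (.node (.node (.node (.leaf 0) (.leaf 0)) (.node (.leaf 41) (.leaf 0))) (.node (.node (.leaf 0) (.leaf 14)) (.node (.leaf 0) (.leaf 0)))))) (.node (.node (.node (.node (.node (.leaf 0) (.leaf 104)) (.node (.leaf 0) (.leaf 0))) (.node (.node (.leaf 0) (.leaf 0)) (.node (.leaf 77) (.leaf 0)))) (.node (.node (.node (.leaf 0) (.leaf 0)) (.node (.leaf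 110) (.leaf 0))) (.node (.node (.leaf 0) (.leaf 50)) (.node (.leaf 0) (.leaf 0))))) (.node (.node (.node (.node (.leaf 43) (.leaf 0)) (.node (.leaf 43) (.leaf 41))) (.node (.node (.leaf 68) (.leaf 17)) (.node (.leaf 0) (.leaf 21)))) (.node (.node (.node (.leaf 0) (.leaf 0)) (.node (.leaf 75) (.leaf 0))) (.node (.node (.leaf 0) (.leaf 87)) (.node (.leaf 0) (.leaf 0)))))))) (.node (.node (.node (.node (.node (.node (.node (.leaf 0) (.leaf 65)) (.node (.leaf 0) (.leaf 0))) (.node (.node (.leaf 99) (.leaf 1)) (.node (.leaf 0) (.leaf 64)))) (.node (.node (.node (.leaf 111) (.leaf 65)) (.node (.leaf 0) (.leaf 74))) (.node (.node (.leaf 0) (.leaf 80)) (.node (.leaf 0) (.leaf 0))))) (.node (.node (.node (.node (.leaf 11) (.leaf 0)) (.node (.leaf 98) (.leaf 14))) (.node (.node (.leaf 0) (.leaf 0)) (.node (.leaf 107) (.leaf 0)))) (.node (.node (.node (.leaf 24) (.leaf 83)) (.node (.leaf 0) (.leaf 34))) (.node (.node (.leaf 0) (.leaf 4)) (.node (.leaf 0) (.leaf 0)))))) (.node (.node (.node (.node (.node (.leaf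 0) (.leaf 36)) (.node (.leaf 0) (.leaf 0))) (.node (.node (.leaf 22) (.leaf 90)) (.node (.leaf 0) (.leaf 8)))) (.node (.node (.node (.leaf 7) (.leaf 56)) (.node (.leaf 0) (.leaf 61))) (.node (.node (.leaf 0) (.leaf 63)) (.node (.leaf 0) (.leaf 0))))) (.node (.node (.node (.node (.leaf 0) (.leaf 50)) (.node (.leaf 0) (.leaf 0))) (.node (.node (.leaf 42) (.leaf 71)) (.node (.leaf 0) (.leaf 25)))) (.node (.node (.node (.leaf 0) (.leaf 0)) (.node (.leaf 47) (.leaf 0))) (.node (.node (.leaf 23) (.leaf 0)) (.node (.leaf 23) (.leaf 25))))))) (.node (.node (.node (.node (.node (.node (.leaf 0) (.leaf 4)) (.node (.leaf 0) (.leaf 0))) (.node (.node (.leaf 42) (.leaf 60)) (.node (.leaf 0) (.leaf 59)))) (.node (.node (.node (.leaf 107) (.leaf 4)) (.node (.leaf 0) (.leaf 12))) (.node (.node (.leaf 0) (.leaf 96)) (.node (.leaf 0) (.leaf 0))))) (.node (.node (.node (.node (.leaf 0) (.leaf 80)) (.node (.leaf 0) (.leaf 0))) (.node (.node (.leaf 42) (.leaf 27)) (.node (.leaf 0) (.leaf 53)))) (.node (.node (.node (.leaf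 0) (.leaf 0)) (.node (.leaf 64) (.leaf 0))) (.node (.node (.leaf 23) (.leaf 0)) (.node (.leaf 11) (.leaf 47)))))) (.node (.node (.node (.node (.node (.leaf 0) (.leaf 57)) (.node (.leaf 0) (.leaf 0))) (.node (.node (.leaf 79) (.leaf 100)) (.node (.leaf 0) (.leaf 56)))) (.node (.node (.node (.leaf 66) (.leaf 57)) (.node (.leaf 0) (.leaf 101))) (.node (.node (.leaf 0) (.leaf 50)) (.node (.leaf 0) (.leaf 0))))) (.node (.node (.node (.node (.leaf 98) (.leaf 0)) (.node (.leaf 98) (.leaf 28))) (.node (.node (.leaf 0) (.leaf 0)) (.node (.leaf 107) (.leaf 0)))) (.node (.node (.node (.leaf 74) (.leaf 105)) (.node (.leaf 0) (.leaf 39))) (.node (.node (.leaf 0) (.leaf 86)) (.node (.leaf 0) (.leaf 0)))))))))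

/-- Part of `blkT`. -/
def blkT12 : Tr :=
  (.node (.node (.node (.node (.node (.node (.node (.node (.leaf 0) (.leaf 3)) (.node (.leaf 3) (.leaf 3))) (.node (.node (.leaf 0) (.leaf 0)) (.node (.leaf 0) (.leaf 27)))) (.node (.node (.node (.leaf 81) (.leaf 67)) (.node (.leaf 81) (.leaf 0))) (.node (.node (.leaf 77) (.leaf 0)) (.node (.leaf 0) (.leaf 0))))) (.node (.node (.node (.node (.leaf 44) (.leaf 0)) (.node (.leaf 0) (.leaf 0))) (.node (.node (.leaf 26) (.leaf 59)) (.node (.leaf 13) (.leaf 0)))) (.node (.node (.node (.leaf 81) (.leaf 14)) (.node (.leaf 94) (.leaf 0))) (.node (.node (.leaf 77) (.leaf 0)) (.node (.leaf 0) (.leaf 0)))))) (.node (.node (.node (.node (.node (.leaf 40) (.leaf 0)) (.node (.leaf 0) (.leaf 0))) (.node (.node (.leaf 94) (.leaf 44)) (.node (.leaf 26) (.leaf 0)))) (.node (.node (.node (.leaf 0) (.leaf 0)) (.node (.leaf 0) (.leaf 43))) (.node (.node (.leaf 0) (.leaf 68)) (.node (.leaf 92) (.leaf 100))))) (.node (.node (.node (.node (.leaf 44) (.leaf 0)) (.node (.leaf 0) (.leaf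 0))) (.node (.node (.leaf 26) (.leaf 59)) (.node (.leaf 26) (.leaf 0)))) (.node (.node (.node (.leaf 10) (.leaf 87)) (.node (.leaf 75) (.leaf 0))) (.node (.node (.leaf 73) (.leaf 0)) (.node (.leaf 0) (.leaf 0))))))) (.node (.node (.node (.node (.node (.node (.leaf 0) (.leaf 104)) (.node (.leaf 77) (.leaf 50))) (.node (.node (.leaf 0) (.leaf 0)) (.node (.leaf 0) (.leaf 97)))) (.node (.node (.node (.leaf 95) (.leaf 45)) (.node (.leaf 91) (.leaf 0))) (.node (.node (.leaf 46) (.leaf 0)) (.node (.leaf 0) (.leaf 0))))) (.node (.node (.node (.node (.leaf 0) (.leaf 106)) (.node (.leaf 16) (.leaf 15))) (.node (.node (.leaf 0) (.leaf 0)) (.node (.leaf 0) (.leaf 112)))) (.node (.node (.node (.leaf 0) (.leaf 0)) (.node (.leaf 0) (.leaf 65))) (.node (.node (.leaf 0) (.leaf 82)) (.node (.leaf 70) (.leaf 3)))))) (.node (.node (.node (.node (.node (.leaf 47) (.leaf 0)) (.node (.leaf 0) (.leaf 0))) (.node (.node (.leaf 23) (.leaf 25)) (.node (.leaf 103) (.leaf 0)))) (.node (.node (.node (.leaf 0) (.leaf 0)) (.node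 (.leaf 0) (.leaf 83))) (.node (.node (.leaf 0) (.leaf 15)) (.node (.leaf 19) (.leaf 100))))) (.node (.node (.node (.node (.leaf 0) (.leaf 111)) (.node (.leaf 39) (.leaf 48))) (.node (.node (.leaf 0) (.leaf 0)) (.node (.leaf 0) (.leaf 30)))) (.node (.node (.node (.leaf 0) (.leaf 0)) (.node (.leaf 0) (.leaf 65))) (.node (.node (.leaf 0) (.leaf 40)) (.node (.leaf 62) (.leaf 51)))))))) (.node (.node (.node (.node (.node (.node (.node (.leaf 91) (.leaf 0)) (.node (.leaf 0) (.leaf 0))) (.node (.node (.leaf 0) (.leaf 0)) (.node (.leaf 0) (.leaf 45)))) (.node (.node (.node (.leaf 38) (.leaf 8)) (.node (.leaf 36) (.leaf 0))) (.node (.node (.leaf 0) (.leaf 6)) (.node (.leaf 76) (.leaf 76))))) (.node (.node (.node (.node (.leaf 0) (.leaf 101)) (.node (.leaf 51) (.leaf 82))) (.node (.node (.leaf 70) (.leaf 45)) (.node (.leaf 15) (.leaf 0)))) (.node (.node (.node (.leaf 23) (.leaf 25)) (.node (.leaf 57) (.leaf 0))) (.node (.node (.leaf 0) (.leaf 103)) (.node (.leaf 31) (.leaf 34)))))) (.node (.node (.node (.node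 (.node (.leaf 105) (.leaf 0)) (.node (.leaf 0) (.leaf 0))) (.node (.node (.leaf 0) (.leaf 0)) (.node (.leaf 0) (.leaf 65)))) (.node (.node (.node (.leaf 103) (.leaf 64)) (.node (.leaf 43) (.leaf 0))) (.node (.node (.leaf 0) (.leaf 11)) (.node (.leaf 5) (.leaf 101))))) (.node (.node (.node (.node (.leaf 32) (.leaf 0)) (.node (.leaf 0) (.leaf 0))) (.node (.node (.leaf 0) (.leaf 0)) (.node (.leaf 0) (.leaf 83)))) (.node (.node (.node (.leaf 0) (.leaf 0)) (.node (.leaf 0) (.leaf 25))) (.node (.node (.leaf 24) (.leaf 0)) (.node (.leaf 0) (.leaf 0))))))) (.node (.node (.node (.node (.node (.node (.leaf 35) (.leaf 0)) (.node (.leaf 0) (.leaf 0))) (.node (.node (.leaf 0) (.leaf 0)) (.node (.leaf 0) (.leaf 57)))) (.node (.node (.node (.leaf 45) (.leaf 45)) (.node (.leaf 97) (.leaf 0))) (.node (.node (.leaf 0) (.leaf 101)) (.node (.leaf 5) (.leaf 101))))) (.node (.node (.node (.node (.leaf 72) (.leaf 0)) (.node (.leaf 0) (.leaf 0))) (.node (.node (.leaf 0) (.leaf 0)) (.node (.leaf 0) (.leaf 53)))) (.node (.node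 (.node (.leaf 0) (.leaf 0)) (.node (.leaf 0) (.leaf 78))) (.node (.node (.leaf 24) (.leaf 0)) (.node (.leaf 0) (.leaf 0)))))) (.node (.node (.node (.node (.node (.leaf 108) (.leaf 0)) (.node (.leaf 0) (.leaf 0))) (.node (.node (.leaf 0) (.leaf 0)) (.node (.leaf 0) (.leaf 4)))) (.node (.node (.node (.leaf 26) (.leaf 59)) (.node (.leaf 83) (.leaf 0))) (.node (.node (.leaf 0) (.leaf 13)) (.node (.leaf 5) (.leaf 101))))) (.node (.node (.node (.node (.leaf 0) (.leaf 7)) (.node (.leaf 51) (.leaf 9))) (.node (.node (.leaf 42) (.leaf 35)) (.node (.leaf 30) (.leaf 0)))) (.node (.node (.node (.leaf 74) (.leaf 105)) (.node (.leaf 65) (.leaf 0))) (.node (.node (.leaf 0) (.leaf 105)) (.node (.leaf 48) (.leaf 39)))))))))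

/-- Part of `blkT`. -/
def blkT13 : Tr :=
  (.node (.node (.node (.node (.node (.node (.node (.node (.leaf 0) (.leaf 0)) (.node (.leaf 3) (.leaf 0))) (.node (.node (.leaf 27) (.leaf 0)) (.node (.leaf 100) (.leaf 100)))) (.node (.node (.node (.leaf 81) (.leaf 0)) (.node (.leaf 3) (.leaf 55))) (.node (.node (.leaf 0) (.leaf 0)) (.node (.leaf 50) (.leaf 0))))) (.node (.node (.node (.node (.leaf 44) (.leaf 94)) (.node (.leaf 0) (.leaf 94))) (.node (.node (.leaf 0) (.leaf 40)) (.node (.leaf 0) (.leaf 0)))) (.node (.node (.node (.leaf 44) (.leaf 0)) (.node (.leaf 33) (.leaf 99))) (.node (.node (.leaf 0) (.leaf 0)) (.node (.leaf 50) (.leaf 0)))))) (.node (.node (.node (.node (.node (.leaf 40) (.leaf 13)) (.node (.leaf 0) (.leaf 13))) (.node (.node (.leaf 0) (.leaf 59)) (.node (.leaf 0) (.leaf 0)))) (.node (.node (.node (.leaf 0) (.leaf 41)) (.node (.leaf 0) (.leaf 0))) (.node (.node (.leaf 14) (.leaf 21)) (.node (.leaf 0) (.leaf 17))))) (.node (.node (.node (.node (.leaf 40) (.leaf 13)) (.node (.leaf 0)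 (.leaf 94))) (.node (.node (.leaf 0) (.leaf 59)) (.node (.leaf 0) (.leaf 0)))) (.node (.node (.node (.leaf 106) (.leaf 0)) (.node (.leaf 27) (.leaf 99))) (.node (.node (.leaf 0) (.leaf 0)) (.node (.leaf 96) (.leaf 0))))))) (.node (.node (.node (.node (.node (.node (.leaf 0) (.leaf 0)) (.node (.leaf 110) (.leaf 0))) (.node (.node (.leaf 46) (.leaf 0)) (.node (.leaf 2) (.leaf 49)))) (.node (.node (.node (.leaf 61) (.leaf 0)) (.node (.leaf 27) (.leaf 62))) (.node (.node (.leaf 0) (.leaf 0)) (.node (.leaf 97) (.leaf 0))))) (.node (.node (.node (.node (.leaf 0) (.leaf 0)) (.node (.leaf 75) (.leaf 0))) (.node (.node (.leaf 102) (.leaf 0)) (.node (.leaf 108) (.leaf 12)))) (.node (.node (.node (.leaf 0) (.leaf 111)) (.node (.leaf 0) (.leaf 0))) (.node (.node (.leaf 54) (.leaf 82)) (.node (.leaf 0) (.leaf 82)))))) (.node (.node (.node (.node (.node (.leaf 47) (.leaf 11)) (.node (.leaf 0) (.leaf 11))) (.node (.node (.leaf 0) (.leaf 64)) (.node (.leaf 0) (.leaf 0)))) (.node (.node (.node (.leaf 0) (.leaf 24))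 (.node (.leaf 0) (.leaf 0))) (.node (.node (.leaf 32) (.leaf 78)) (.node (.leaf 0) (.leaf 16))))) (.node (.node (.node (.node (.leaf 0) (.leaf 0)) (.node (.leaf 65) (.leaf 0))) (.node (.node (.leaf 93) (.leaf 0)) (.node (.leaf 43) (.leaf 41)))) (.node (.node (.node (.leaf 0) (.leaf 111)) (.node (.leaf 0) (.leaf 0))) (.node (.node (.leaf 32) (.leaf 82)) (.node (.leaf 0) (.leaf 13)))))))) (.node (.node (.node (.node (.node (.node (.node (.leaf 0) (.leaf 0)) (.node (.leaf 61) (.leaf 0))) (.node (.node (.leaf 0) (.leaf 45)) (.node (.leaf 0) (.leaf 0)))) (.node (.node (.node (.leaf 0) (.leaf 36)) (.node (.leaf 0) (.leaf 0))) (.node (.node (.leaf 0) (.leaf 0)) (.node (.leaf 109) (.leaf 0))))) (.node (.node (.node (.node (.leaf 32) (.leaf 62)) (.node (.leaf 0) (.leaf 5))) (.node (.node (.leaf 16) (.leaf 0)) (.node (.leaf 78) (.leaf 33)))) (.node (.node (.node (.leaf 0) (.leaf 66)) (.node (.leaf 0) (.leaf 0))) (.node (.node (.leaf 0) (.leaf 0)) (.node (.leaf 64) (.leaf 0)))))) (.node (.node (.node (.node (.node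 (.leaf 0) (.leaf 0)) (.node (.leaf 74) (.leaf 0))) (.node (.node (.leaf 0) (.leaf 111)) (.node (.leaf 0) (.leaf 0)))) (.node (.node (.node (.leaf 0) (.leaf 41)) (.node (.leaf 0) (.leaf 0))) (.node (.node (.leaf 0) (.leaf 0)) (.node (.leaf 47) (.leaf 0))))) (.node (.node (.node (.node (.leaf 0) (.leaf 0)) (.node (.leaf 32) (.leaf 0))) (.node (.node (.leaf 0) (.leaf 24)) (.node (.leaf 0) (.leaf 0)))) (.node (.node (.node (.leaf 23) (.leaf 0)) (.node (.leaf 93) (.leaf 30))) (.node (.node (.leaf 47) (.leaf 11)) (.node (.leaf 0) (.leaf 83))))))) (.node (.node (.node (.node (.node (.node (.leaf 0) (.leaf 0)) (.node (.leaf 35) (.leaf 0))) (.node (.node (.leaf 0) (.leaf 66)) (.node (.leaf 0) (.leaf 0)))) (.node (.node (.node (.leaf 0) (.leaf 46)) (.node (.leaf 0) (.leaf 0))) (.node (.node (.leaf 0) (.leaf 0)) (.node (.leaf 5) (.leaf 0))))) (.node (.node (.node (.node (.leaf 0) (.leaf 0)) (.node (.leaf 72) (.leaf 0))) (.node (.node (.leaf 0) (.leaf 86)) (.node (.leaf 0) (.leaf 0)))) (.node (.node (.node (.leaf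 78) (.leaf 0)) (.node (.leaf 16) (.leaf 15))) (.node (.node (.leaf 24) (.leaf 83)) (.node (.leaf 0) (.leaf 83)))))) (.node (.node (.node (.node (.node (.leaf 0) (.leaf 0)) (.node (.leaf 12) (.leaf 0))) (.node (.node (.leaf 0) (.leaf 107)) (.node (.leaf 0) (.leaf 0)))) (.node (.node (.node (.leaf 0) (.leaf 24)) (.node (.leaf 0) (.leaf 0))) (.node (.node (.leaf 0) (.leaf 0)) (.node (.leaf 40) (.leaf 0))))) (.node (.node (.node (.node (.leaf 72) (.leaf 88)) (.node (.leaf 0) (.leaf 56))) (.node (.node (.leaf 93) (.leaf 0)) (.node (.leaf 98) (.leaf 60)))) (.node (.node (.node (.leaf 0) (.leaf 111)) (.node (.leaf 0) (.leaf 0))) (.node (.node (.leaf 0) (.leaf 0)) (.node (.leaf 74) (.leaf 0)))))))))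

/-- Part of `blkT`. -/
def blkT14 : Tr :=
  (.node (.node (.node (.node (.node (.node (.node (.node (.leaf 0) (.leaf 0)) (.node (.leaf 0) (.leaf 103))) (.node (.node (.leaf 25) (.leaf 0)) (.node (.leaf 0) (.leaf 0)))) (.node (.node (.node (.leaf 0) (.leaf 15)) (.node (.leaf 16) (.leaf 15))) (.node (.node (.leaf 89) (.leaf 29)) (.node (.leaf 32) (.leaf 0))))) (.node (.node (.node (.node (.leaf 54) (.leaf 76)) (.node (.leaf 58) (.leaf 0))) (.node (.node (.leaf 0) (.leaf 68)) (.node (.leaf 85) (.leaf 82)))) (.node (.node (.node (.leaf 0) (.leaf 15)) (.node (.leaf 44) (.leaf 94))) (.node (.node (.leaf 61) (.leaf 91)) (.node (.leaf 26) (.leaf 0)))))) (.node (.node (.node (.node (.node (.leaf 81) (.leaf 36)) (.node (.leaf 61) (.leaf 0))) (.node (.node (.leaf 0) (.leaf 57)) (.node (.leaf 62) (.leaf 55)))) (.node (.node (.node (.leaf 91) (.leaf 0)) (.node (.leaf 0) (.leaf 0))) (.node (.node (.leaf 0) (.leaf 0)) (.node (.leaf 0) (.leaf 101))))) (.node (.node (.node (.node (.leaf 32) (.leaf 76)) (.node (.leaf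 89) (.leaf 0))) (.node (.node (.leaf 0) (.leaf 31)) (.node (.leaf 19) (.leaf 99)))) (.node (.node (.node (.leaf 0) (.leaf 48)) (.node (.leaf 65) (.leaf 111))) (.node (.node (.leaf 74) (.leaf 105)) (.node (.leaf 65) (.leaf 0))))))) (.node (.node (.node (.node (.node (.node (.leaf 0) (.leaf 0)) (.node (.leaf 0) (.leaf 26))) (.node (.node (.leaf 44) (.leaf 0)) (.node (.leaf 0) (.leaf 0)))) (.node (.node (.node (.leaf 0) (.leaf 68)) (.node (.leaf 17) (.leaf 68))) (.node (.node (.leaf 69) (.leaf 18)) (.node (.leaf 14) (.leaf 0))))) (.node (.node (.node (.node (.leaf 0) (.leaf 0)) (.node (.leaf 0) (.leaf 13))) (.node (.node (.leaf 44) (.leaf 0)) (.node (.leaf 0) (.leaf 0)))) (.node (.node (.node (.leaf 75) (.leaf 0)) (.node (.leaf 0) (.leaf 0))) (.node (.node (.leaf 0) (.leaf 0)) (.node (.leaf 0) (.leaf 34)))))) (.node (.node (.node (.node (.node (.leaf 3) (.leaf 90)) (.node (.leaf 27) (.leaf 0))) (.node (.node (.leaf 0) (.leaf 100)) (.node (.leaf 27) (.leaf 3)))) (.node (.node (.node (.leaf 77) (.leaf 0))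 (.node (.leaf 0) (.leaf 0))) (.node (.node (.leaf 0) (.leaf 0)) (.node (.leaf 0) (.leaf 37))))) (.node (.node (.node (.node (.leaf 0) (.leaf 0)) (.node (.leaf 0) (.leaf 13))) (.node (.node (.leaf 59) (.leaf 0)) (.node (.leaf 0) (.leaf 0)))) (.node (.node (.node (.leaf 40) (.leaf 0)) (.node (.leaf 0) (.leaf 0))) (.node (.node (.leaf 0) (.leaf 0)) (.node (.leaf 0) (.leaf 17)))))))) (.node (.node (.node (.node (.node (.node (.node (.leaf 0) (.leaf 0)) (.node (.leaf 0) (.leaf 88))) (.node (.node (.leaf 0) (.leaf 4)) (.node (.leaf 108) (.leaf 12)))) (.node (.node (.node (.leaf 105) (.leaf 0)) (.node (.leaf 0) (.leaf 0))) (.node (.node (.leaf 33) (.leaf 45)) (.node (.leaf 44) (.leaf 0))))) (.node (.node (.node (.node (.leaf 57) (.leaf 66)) (.node (.leaf 53) (.leaf 0))) (.node (.node (.leaf 108) (.leaf 0)) (.node (.leaf 0) (.leaf 0)))) (.node (.node (.node (.leaf 105) (.leaf 0)) (.node (.leaf 0) (.leaf 0))) (.node (.node (.leaf 3) (.leaf 54)) (.node (.leaf 70) (.leaf 0)))))) (.node (.node (.node (.node (.node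 (.leaf 0) (.leaf 0)) (.node (.leaf 0) (.leaf 56))) (.node (.node (.leaf 0) (.leaf 57)) (.node (.leaf 7) (.leaf 56)))) (.node (.node (.node (.leaf 91) (.leaf 0)) (.node (.leaf 0) (.leaf 0))) (.node (.node (.leaf 27) (.leaf 45)) (.node (.leaf 101) (.leaf 0))))) (.node (.node (.node (.node (.leaf 0) (.leaf 0)) (.node (.leaf 0) (.leaf 30))) (.node (.node (.leaf 0) (.leaf 42)) (.node (.leaf 93) (.leaf 30)))) (.node (.node (.node (.leaf 0) (.leaf 24)) (.node (.leaf 78) (.leaf 19))) (.node (.node (.leaf 0) (.leaf 0)) (.node (.leaf 0) (.leaf 89))))))) (.node (.node (.node (.node (.node (.node (.leaf 0) (.leaf 0)) (.node (.leaf 0) (.leaf 70))) (.node (.node (.leaf 0) (.leaf 65)) (.node (.leaf 105) (.leaf 74)))) (.node (.node (.node (.leaf 108) (.leaf 0)) (.node (.leaf 0) (.leaf 0))) (.node (.node (.leaf 71) (.leaf 45)) (.node (.leaf 25) (.leaf 0))))) (.node (.node (.node (.node (.leaf 0) (.leaf 0)) (.node (.leaf 0) (.leaf 15))) (.node (.node (.leaf 0) (.leaf 83)) (.node (.leaf 16) (.leaf 15)))) (.node (.node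 (.node (.leaf 0) (.leaf 103)) (.node (.leaf 78) (.leaf 55))) (.node (.node (.leaf 0) (.leaf 0)) (.node (.leaf 0) (.leaf 104)))))) (.node (.node (.node (.node (.node (.leaf 0) (.leaf 0)) (.node (.leaf 0) (.leaf 62))) (.node (.node (.leaf 0) (.leaf 101)) (.node (.leaf 91) (.leaf 61)))) (.node (.node (.node (.leaf 22) (.leaf 0)) (.node (.leaf 0) (.leaf 0))) (.node (.node (.leaf 90) (.leaf 76)) (.node (.leaf 20) (.leaf 0))))) (.node (.node (.node (.node (.leaf 65) (.leaf 111)) (.node (.leaf 74) (.leaf 0))) (.node (.node (.leaf 91) (.leaf 0)) (.node (.leaf 0) (.leaf 0)))) (.node (.node (.node (.leaf 105) (.leaf 0)) (.node (.leaf 0) (.leaf 0))) (.node (.node (.leaf 52) (.leaf 87)) (.node (.leaf 47) (.leaf 0)))))))))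

/-- Part of `blkT`. -/
def blkT15 : Tr :=
  (.node (.node (.node (.node (.node (.node (.node (.node (.leaf 0) (.leaf 64)) (.node (.leaf 0) (.leaf 0))) (.node (.node (.leaf 0) (.leaf 0)) (.node (.leaf 23) (.leaf 0)))) (.node (.node (.node (.leaf 0) (.leaf 0)) (.node (.leaf 16) (.leaf 0))) (.node (.node (.leaf 0) (.leaf 32)) (.node (.leaf 0) (.leaf 0))))) (.node (.node (.node (.node (.leaf 80) (.leaf 0)) (.node (.leaf 72) (.leaf 14))) (.node (.node (.leaf 36) (.leaf 21)) (.node (.leaf 0) (.leaf 17)))) (.node (.node (.node (.leaf 0) (.leaf 0)) (.node (.leaf 16) (.leaf 0))) (.node (.node (.leaf 0) (.leaf 59)) (.node (.leaf 0) (.leaf 0)))))) (.node (.node (.node (.node (.node (.leaf 91) (.leaf 0)) (.node (.leaf 95) (.leaf 9))) (.node (.node (.leaf 22) (.leaf 79)) (.node (.leaf 0) (.leaf 66)))) (.node (.node (.node (.leaf 91) (.leaf 61)) (.node (.leaf 0) (.leaf 61))) (.node (.node (.leaf 5) (.leaf 0)) (.node (.leaf 62) (.leaf 62))))) (.node (.node (.node (.node (.leaf 29) (.leaf 0)) (.node (.leaf 28) (.leaf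 87))) (.node (.node (.leaf 22) (.leaf 88)) (.node (.leaf 0) (.leaf 34)))) (.node (.node (.node (.leaf 0) (.leaf 0)) (.node (.leaf 39) (.leaf 0))) (.node (.node (.leaf 0) (.leaf 111)) (.node (.leaf 0) (.leaf 0))))))) (.node (.node (.node (.node (.node (.node (.leaf 0) (.leaf 59)) (.node (.leaf 0) (.leaf 0))) (.node (.node (.leaf 0) (.leaf 0)) (.node (.leaf 94) (.leaf 0)))) (.node (.node (.node (.leaf 0) (.leaf 0)) (.node (.leaf 17) (.leaf 0))) (.node (.node (.leaf 0) (.leaf 14)) (.node (.leaf 0) (.leaf 0))))) (.node (.node (.node (.node (.leaf 0) (.leaf 40)) (.node (.leaf 0) (.leaf 0))) (.node (.node (.leaf 0) (.leaf 0)) (.node (.leaf 94) (.leaf 0)))) (.node (.node (.node (.leaf 75) (.leaf 106)) (.node (.leaf 0) (.leaf 106))) (.node (.node (.leaf 31) (.leaf 0)) (.node (.leaf 99) (.leaf 99)))))) (.node (.node (.node (.node (.node (.leaf 27) (.leaf 0)) (.node (.leaf 27) (.leaf 100))) (.node (.node (.leaf 90) (.leaf 100)) (.node (.leaf 0) (.leaf 100)))) (.node (.node (.node (.leaf 110) (.leaf 104)) (.node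 (.leaf 0) (.leaf 50))) (.node (.node (.leaf 63) (.leaf 0)) (.node (.leaf 77) (.leaf 50))))) (.node (.node (.node (.node (.leaf 0) (.leaf 40)) (.node (.leaf 0) (.leaf 0))) (.node (.node (.leaf 0) (.leaf 0)) (.node (.leaf 26) (.leaf 0)))) (.node (.node (.node (.leaf 75) (.leaf 106)) (.node (.leaf 0) (.leaf 13))) (.node (.node (.leaf 68) (.leaf 0)) (.node (.leaf 26) (.leaf 59)))))))) (.node (.node (.node (.node (.node (.node (.node (.leaf 88) (.leaf 0)) (.node (.leaf 98) (.leaf 98))) (.node (.node (.leaf 0) (.leaf 0)) (.node (.leaf 107) (.leaf 0)))) (.node (.node (.node (.leaf 0) (.leaf 0)) (.node (.leaf 74) (.leaf 0))) (.node (.node (.leaf 94) (.leaf 0)) (.node (.leaf 70) (.leaf 78))))) (.node (.node (.node (.node (.leaf 0) (.leaf 86)) (.node (.leaf 0) (.leaf 0))) (.node (.node (.leaf 107) (.leaf 4)) (.node (.leaf 0) (.leaf 12)))) (.node (.node (.node (.leaf 0) (.leaf 0)) (.node (.leaf 74) (.leaf 0))) (.node (.node (.leaf 70) (.leaf 0)) (.node (.leaf 70) (.leaf 82)))))) (.node (.node (.node (.node (.node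 (.leaf 7) (.leaf 0)) (.node (.leaf 9) (.leaf 9))) (.node (.node (.leaf 0) (.leaf 0)) (.node (.leaf 66) (.leaf 0)))) (.node (.node (.node (.leaf 0) (.leaf 0)) (.node (.leaf 61) (.leaf 0))) (.node (.node (.leaf 5) (.leaf 0)) (.node (.leaf 62) (.leaf 95))))) (.node (.node (.node (.node (.leaf 93) (.leaf 0)) (.node (.leaf 53) (.leaf 86))) (.node (.node (.leaf 0) (.leaf 0)) (.node (.leaf 42) (.leaf 0)))) (.node (.node (.node (.leaf 32) (.leaf 100)) (.node (.leaf 0) (.leaf 83))) (.node (.node (.leaf 0) (.leaf 29)) (.node (.leaf 0) (.leaf 0))))))) (.node (.node (.node (.node (.node (.node (.leaf 70) (.leaf 0)) (.node (.leaf 82) (.leaf 82))) (.node (.node (.leaf 0) (.leaf 0)) (.node (.leaf 111) (.leaf 0)))) (.node (.node (.node (.leaf 0) (.leaf 0)) (.node (.leaf 12) (.leaf 0))) (.node (.node (.leaf 23) (.leaf 0)) (.node (.leaf 88) (.leaf 21))))) (.node (.node (.node (.node (.leaf 16) (.leaf 0)) (.node (.leaf 78) (.leaf 78))) (.node (.node (.leaf 0) (.leaf 0)) (.node (.leaf 24) (.leaf 0)))) (.node (.node (.node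 (.leaf 72) (.leaf 1)) (.node (.leaf 0) (.leaf 64))) (.node (.node (.leaf 0) (.leaf 110)) (.node (.leaf 0) (.leaf 0)))))) (.node (.node (.node (.node (.node (.leaf 62) (.leaf 0)) (.node (.leaf 5) (.leaf 101))) (.node (.node (.leaf 0) (.leaf 0)) (.node (.leaf 5) (.leaf 0)))) (.node (.node (.node (.leaf 0) (.leaf 0)) (.node (.leaf 22) (.leaf 0))) (.node (.node (.leaf 84) (.leaf 0)) (.node (.leaf 22) (.leaf 36))))) (.node (.node (.node (.node (.leaf 0) (.leaf 105)) (.node (.leaf 0) (.leaf 0))) (.node (.node (.leaf 24) (.leaf 83)) (.node (.leaf 0) (.leaf 61)))) (.node (.node (.node (.leaf 0) (.leaf 0)) (.node (.leaf 74) (.leaf 0))) (.node (.node (.leaf 11) (.leaf 0)) (.node (.leaf 70) (.leaf 9)))))))))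

/-- Part of `shortT`. -/
def shortT0 : Tr :=
  (.node (.node (.node (.node (.node (.node (.node (.node (.leaf 150119987579016) (.leaf 167712173623432)) (.node (.leaf 149020475951240) (.leaf 166612661995656))) (.node (.node (.leaf 150051268102280) (.leaf 167780893100168)) (.node (.leaf 148951756474504) (.leaf 131497040840808)))) (.node (.node (.node (.leaf 150115692611720) (.leaf 167716468590728)) (.node (.leaf 151223794174088) (.leaf 166616956962950))) (.node (.node (.leaf 0) (.leaf 0)) (.node (.leaf 0) (.leaf 166548237486214))))) (.node (.node (.node (.node (.leaf 150119719143560) (.leaf 0)) (.node (.leaf 149020207515784) (.leaf 133627581597832))) (.node (.node (.leaf 0) (.leaf 167643154253992)) (.node (.leaf 148951488039048) (.leaf 131497309276264)))) (.node (.node (.node (.leaf 150124014110856) (.leaf 0)) (.node (.leaf 0) (.leaf 0))) (.node (.node (.leaf 150046706796714) (.leaf 167638892841130)) (.node (.leaf 149093756733542) (.leaf 0)))))) (.node (.node (.node (.node (.node (.leaf 150120004356232)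 (.leaf 0)) (.node (.leaf 149020492728456) (.leaf 166612678772872))) (.node (.node (.leaf 0) (.leaf 132596535691368)) (.node (.leaf 151288201906312) (.leaf 131497024063592)))) (.node (.node (.node (.leaf 0) (.leaf 132523523344522)) (.node (.leaf 151223777396872) (.leaf 133623034972298))) (.node (.node (.leaf 0) (.leaf 0)) (.node (.leaf 0) (.leaf 166548220708998))))) (.node (.node (.node (.node (.leaf 150119702366344) (.leaf 132665523603560)) (.node (.leaf 149020224293000) (.leaf 0))) (.node (.node (.leaf 115004618082408) (.leaf 132596804126824)) (.node (.leaf 0) (.leaf 0)))) (.node (.node (.node (.leaf 0) (.leaf 167716720248966)) (.node (.leaf 151214921124010) (.leaf 131432867989606))) (.node (.node (.leaf 0) (.leaf 0)) (.node (.leaf 149093773510758) (.leaf 131501587466342))))))) (.node (.node (.node (.node (.node (.node (.leaf 150119986530440) (.leaf 0)) (.node (.leaf 0) (.leaf 168811686423208))) (.node (.node (.leaf 0) (.leaf 167643455195304)) (.node (.leaf 149097784313958) (.leaf 168880405899944))))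 (.node (.node (.node (.leaf 0) (.leaf 132523539073162)) (.node (.leaf 149024769869926) (.leaf 131432583825510))) (.node (.node (.leaf 0) (.leaf 0)) (.node (.leaf 149093489346662) (.leaf 131501303302246))))) (.node (.node (.node (.node (.leaf 150119720192136) (.leaf 132528068798056)) (.node (.leaf 151219766593672) (.leaf 0))) (.node (.node (.leaf 150042410780842) (.leaf 0)) (.node (.leaf 0) (.leaf 0)))) (.node (.node (.node (.leaf 0) (.leaf 167707611269290)) (.node (.leaf 151214936852650) (.leaf 131432852260966))) (.node (.node (.leaf 150193269409894) (.leaf 132601083365478)) (.node (.leaf 151146217375914) (.leaf 131501571737702)))))) (.node (.node (.node (.node (.node (.leaf 150119971850376) (.leaf 0)) (.node (.leaf 149020491679880) (.leaf 133627297433736))) (.node (.node (.leaf 0) (.leaf 132596536739944)) (.node (.leaf 148951772203144) (.leaf 131497025112168)))) (.node (.node (.node (.leaf 0) (.leaf 167716452862086)) (.node (.leaf 151223778445448) (.leaf 166616941234310))) (.node (.node (.leaf 0)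 (.leaf 0)) (.node (.leaf 0) (.leaf 166548221757574))))) (.node (.node (.node (.node (.leaf 150119703414920) (.leaf 0)) (.node (.leaf 0) (.leaf 168811401087624))) (.node (.node (.leaf 0) (.leaf 167643169982632)) (.node (.leaf 113905105282632) (.leaf 168880120564360)))) (.node (.node (.node (.leaf 150115976775816) (.leaf 0)) (.node (.leaf 0) (.leaf 0))) (.node (.node (.leaf 150046722525354) (.leaf 167638908569770)) (.node (.leaf 149093774559334) (.leaf 0)))))))) (.node (.node (.node (.node (.node (.node (.node (.leaf 150119987513480) (.leaf 132527801600136)) (.node (.leaf 0) (.leaf 166612661930120))) (.node (.node (.leaf 150188707121288) (.leaf 0)) (.node (.leaf 0) (.leaf 0)))) (.node (.node (.node (.leaf 150124282611848) (.leaf 0)) (.node (.leaf 0) (.leaf 0))) (.node (.node (.leaf 0) (.leaf 132454787032714)) (.node (.leaf 0) (.leaf 133554298660490))))) (.node (.node (.node (.node (.leaf 0) (.leaf 0)) (.node (.leaf 0) (.leaf 166612393494664))) (.node (.node (.leaf 147998540007492) (.leaf 0)) (.node (.leaf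 0) (.leaf 0)))) (.node (.node (.node (.leaf 0) (.leaf 167570173429962)) (.node (.leaf 149025037191270) (.leaf 131570290100294))) (.node (.node (.leaf 150193268295782) (.leaf 132454518597258)) (.node (.leaf 149093756668006) (.leaf 0)))))) (.node (.node (.node (.node (.node (.leaf 150120004421768) (.leaf 167712156780680)) (.node (.leaf 149020492793992) (.leaf 0))) (.node (.node (.leaf 0) (.leaf 132596535625832)) (.node (.leaf 149089210042472) (.leaf 131497023998056)))) (.node (.node (.node (.leaf 0) (.leaf 169906350426794)) (.node (.leaf 149024754075750) (.leaf 168806838799018))) (.node (.node (.leaf 150046989977770) (.leaf 132454803809930)) (.node (.leaf 149093473552486) (.leaf 0))))) (.node (.node (.node (.node (.leaf 0) (.leaf 0)) (.node (.leaf 0) (.leaf 131428572964456))) (.node (.node (.leaf 150050985052328) (.leaf 167643171096744)) (.node (.leaf 0) (.leaf 0)))) (.node (.node (.node (.leaf 0) (.leaf 169906618862250)) (.node (.leaf 151214921189546) (.leaf 131570306877510))) (.node (.node (.leaf 150193253615718)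 (.leaf 132592509093992)) (.node (.leaf 149093773445222) (.leaf 0))))))) (.node (.node (.node (.node (.node (.node (.leaf 0) (.leaf 0)) (.node (.leaf 0) (.leaf 131428288800360))) (.node (.node (.leaf 150051269216424) (.leaf 132596519897192)) (.node (.leaf 0) (.leaf 0)))) (.node (.node (.node (.leaf 147925258176614) (.leaf 0)) (.node (.leaf 149024769804390) (.leaf 0))) (.node (.node (.leaf 0) (.leaf 0)) (.node (.leaf 151146485876906) (.leaf 133554299832490))))) (.node (.node (.node (.node (.leaf 185304092338856) (.leaf 132528068863592)) (.node (.leaf 151219231885482) (.leaf 0))) (.node (.node (.leaf 0) (.leaf 132596788332648)) (.node (.leaf 151150512408746) (.leaf 133696299960424)))) (.node (.node (.node (.leaf 150115425290410) (.leaf 0)) (.node (.leaf 151214936918186) (.leaf 0))) (.node (.node (.leaf 150046705813674) (.leaf 0)) (.node (.leaf 151146217441450) (.leaf 166685943760998)))))) (.node (.node (.node (.node (.node (.leaf 150119971784840) (.leaf 167712157829256)) (.node (.leaf 151219483412616)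 (.leaf 0))) (.node (.node (.leaf 0) (.leaf 132596536674408)) (.node (.leaf 149089211091048) (.leaf 131497025046632)))) (.node (.node (.node (.leaf 0) (.leaf 167569889265866)) (.node (.leaf 149024753027174) (.leaf 168669400893642))) (.node (.node (.leaf 150046991026346) (.leaf 167785172396678)) (.node (.leaf 149093472503910) (.leaf 0))))) (.node (.node (.node (.node (.leaf 150119703349384) (.leaf 132528085764232)) (.node (.leaf 151219215108744) (.leaf 0))) (.node (.node (.leaf 0) (.leaf 132596805109864)) (.node (.leaf 151287934585480) (.leaf 131359854528136)))) (.node (.node (.node (.leaf 150115442067626) (.leaf 0)) (.node (.leaf 0) (.leaf 131570305828934))) (.node (.node (.leaf 150193252567142) (.leaf 0)) (.node (.leaf 0) (.leaf 168738388805834)))))))))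

/-- Part of `shortT`. -/
def shortT1 : Tr :=
  (.node (.node (.node (.node (.node (.node (.node (.node (.leaf 150119987579015) (.leaf 132527801534601)) (.node (.leaf 149020475951239) (.leaf 133627313162377))) (.node (.node (.leaf 150188707055753) (.leaf 167780893092487)) (.node (.leaf 148951756474503) (.leaf 166543942518919)))) (.node (.node (.node (.leaf 150115692611721) (.leaf 167716468590727)) (.node (.leaf 149024770918535) (.leaf 133623018195081))) (.node (.node (.leaf 150184412088457) (.leaf 0)) (.node (.leaf 148956051441799) (.leaf 166548237486215))))) (.node (.node (.node (.node (.leaf 150119719143561) (.leaf 167712442058887)) (.node (.leaf 0) (.leaf 0))) (.node (.node (.leaf 150188438620297) (.leaf 167643187808425)) (.node (.leaf 0) (.leaf 168742665881769)))) (.node (.node (.node (.leaf 150124550981767) (.leaf 167716737026183)) (.node (.leaf 0) (.leaf 133623286630537))) (.node (.node (.leaf 0) (.leaf 132601082316903)) (.node (.leaf 0) (.leaf 0)))))) (.node (.node (.node (.node (.node (.leaf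 150120004356233) (.leaf 132527818311817)) (.node (.leaf 0) (.leaf 0))) (.node (.node (.leaf 150188723832969) (.leaf 167642902595753)) (.node (.leaf 0) (.leaf 168742951094441)))) (.node (.node (.node (.leaf 150124265769095) (.leaf 167716451813511)) (.node (.leaf 149016197761161) (.leaf 0))) (.node (.node (.leaf 150184428865673) (.leaf 0)) (.node (.leaf 151146470082729) (.leaf 131501319030887))))) (.node (.node (.node (.node (.leaf 150119735920777) (.leaf 0)) (.node (.leaf 149020224293001) (.leaf 131428573022311))) (.node (.node (.leaf 0) (.leaf 132596804126823)) (.node (.leaf 149089478543463) (.leaf 168742682658985)))) (.node (.node (.node (.leaf 0) (.leaf 0)) (.node (.leaf 149015929325705) (.leaf 0))) (.node (.node (.leaf 150046690019497) (.leaf 167638876063913)) (.node (.leaf 149093773510759) (.leaf 131501587466343))))))) (.node (.node (.node (.node (.node (.node (.leaf 0) (.leaf 167712174795431)) (.node (.leaf 0) (.leaf 0))) (.node (.node (.leaf 150051269150377) (.leaf 132596519962727)) (.node (.leaf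 0) (.leaf 131497008334951)))) (.node (.node (.node (.leaf 0) (.leaf 0)) (.node (.leaf 149016213489801) (.leaf 0))) (.node (.node (.leaf 150193000974439) (.leaf 167639160228009)) (.node (.leaf 149093489346663) (.leaf 131501303302247))))) (.node (.node (.node (.node (.leaf 150120254965895) (.leaf 0)) (.node (.leaf 149029333272677) (.leaf 131428590847625))) (.node (.node (.leaf 0) (.leaf 132596788398183)) (.node (.leaf 149098052749413) (.leaf 0)))) (.node (.node (.node (.leaf 0) (.leaf 0)) (.node (.leaf 149025038305381) (.leaf 0))) (.node (.node (.leaf 150046705748137) (.leaf 167638891792553)) (.node (.leaf 149093757782117) (.leaf 166539380164777)))))) (.node (.node (.node (.node (.node (.leaf 150119971850375) (.leaf 132527817263241)) (.node (.leaf 0) (.leaf 0))) (.node (.node (.leaf 150188722784393) (.leaf 169833337096907)) (.node (.leaf 0) (.leaf 168742950045865)))) (.node (.node (.node (.leaf 150124266817671) (.leaf 132523522295945)) (.node (.leaf 149016196712585) (.leaf 0))) (.node (.node (.leaf 150055547340935)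 (.leaf 0)) (.node (.leaf 149093506123879) (.leaf 131501320079463))))) (.node (.node (.node (.node (.leaf 0) (.leaf 167711889459847)) (.node (.leaf 0) (.leaf 0))) (.node (.node (.leaf 150042427558059) (.leaf 167643169982633)) (.node (.leaf 0) (.leaf 168742681610409)))) (.node (.node (.node (.leaf 150115976775817) (.leaf 132523790731401)) (.node (.leaf 0) (.leaf 133623302359177))) (.node (.node (.leaf 0) (.leaf 132601100142695)) (.node (.leaf 0) (.leaf 0)))))))) (.node (.node (.node (.node (.node (.node (.node (.leaf 150119987513481) (.leaf 0)) (.node (.leaf 151219499141257) (.leaf 166612661930119))) (.node (.node (.leaf 150051268044425) (.leaf 132459082000009)) (.node (.leaf 0) (.leaf 166543942453383)))) (.node (.node (.node (.leaf 150124282611847) (.leaf 0)) (.node (.leaf 149024770984071) (.leaf 0))) (.node (.node (.leaf 0) (.leaf 132454787032713)) (.node (.leaf 0) (.leaf 0))))) (.node (.node (.node (.node (.leaf 150119719078025) (.leaf 0)) (.node (.leaf 151073204046027) (.leaf 168665390090443))) (.node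 (.node (.leaf 150051001829545) (.leaf 132596787284071)) (.node (.leaf 0) (.leaf 168734109567179)))) (.node (.node (.node (.leaf 150124551047303) (.leaf 130333373072999)) (.node (.leaf 0) (.leaf 131570290100293))) (.node (.node (.leaf 150193268295783) (.leaf 0)) (.node (.leaf 148956319811207) (.leaf 131501570623557)))))) (.node (.node (.node (.node (.node (.leaf 0) (.leaf 132527818377353)) (.node (.leaf 0) (.leaf 0))) (.node (.node (.leaf 0) (.leaf 0)) (.node (.leaf 151150765115561) (.leaf 0)))) (.node (.node (.node (.leaf 150124265834631) (.leaf 167716451747975)) (.node (.leaf 0) (.leaf 168806838799017))) (.node (.node (.leaf 150046989977769) (.leaf 0)) (.node (.leaf 151146470148265) (.leaf 168738119322281))))) (.node (.node (.node (.node (.leaf 114935898547817) (.leaf 0)) (.node (.leaf 151219216156841) (.leaf 131428572956775))) (.node (.node (.leaf 150188990105703) (.leaf 132596804061287)) (.node (.leaf 151150496680105) (.leaf 168742682724521)))) (.node (.node (.node (.leaf 114931603580521) (.leaf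 130333356295783)) (.node (.leaf 0) (.leaf 168807107234473))) (.node (.node (.leaf 150046690085033) (.leaf 0)) (.node (.leaf 151146201712809) (.leaf 168738387757737))))))) (.node (.node (.node (.node (.node (.node (.leaf 185304360774311) (.leaf 0)) (.node (.leaf 149020474837095) (.leaf 131428288792679))) (.node (.node (.leaf 150051269216425) (.leaf 132596519897191)) (.node (.leaf 151150780844201) (.leaf 131497008269415)))) (.node (.node (.node (.leaf 0) (.leaf 0)) (.node (.leaf 149024769804391) (.leaf 0))) (.node (.node (.leaf 150193000908903) (.leaf 167639160293545)) (.node (.leaf 149093489281127) (.leaf 0))))) (.node (.node (.node (.node (.leaf 0) (.leaf 132528068855911)) (.node (.leaf 0) (.leaf 0))) (.node (.node (.leaf 150188974377063) (.leaf 132596788332647)) (.node (.leaf 151150512408745) (.leaf 0)))) (.node (.node (.node (.leaf 0) (.leaf 0)) (.node (.leaf 149025038239845) (.leaf 0))) (.node (.node (.leaf 150046705813673) (.leaf 132601083299943)) (.node (.leaf 0) (.leaf 0)))))) (.node (.node (.node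 (.node (.node (.leaf 0) (.leaf 132527817328777)) (.node (.leaf 0) (.leaf 0))) (.node (.node (.leaf 0) (.leaf 0)) (.node (.leaf 149089211091047) (.leaf 0)))) (.node (.node (.node (.leaf 150115708274825) (.leaf 132523522361481)) (.node (.leaf 0) (.leaf 168669400893643))) (.node (.node (.leaf 150192984131687) (.leaf 0)) (.node (.leaf 151146469099689) (.leaf 168738120370379))))) (.node (.node (.node (.node (.leaf 0) (.leaf 167711889525383)) (.node (.leaf 0) (.leaf 0))) (.node (.node (.leaf 0) (.leaf 0)) (.node (.leaf 151150495631529) (.leaf 0)))) (.node (.node (.node (.leaf 0) (.leaf 0)) (.node (.leaf 151214953695403) (.leaf 0))) (.node (.node (.leaf 0) (.leaf 130402074724421)) (.node (.leaf 0) (.leaf 0)))))))))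

/-- Part of `shortT`. -/
def shortT2 : Tr :=
  (.node (.node (.node (.node (.node (.node (.node (.node (.leaf 150119987579000) (.leaf 167712173623448)) (.node (.leaf 0) (.leaf 0))) (.node (.node (.leaf 150188707055736) (.leaf 167643454146712)) (.node (.leaf 0) (.leaf 166543942518936)))) (.node (.node (.node (.leaf 0) (.leaf 0)) (.node (.leaf 151215204239514) (.leaf 166616956962934))) (.node (.node (.leaf 150046973135000) (.leaf 0)) (.node (.leaf 0) (.leaf 0))))) (.node (.node (.node (.node (.leaf 114935881705048) (.leaf 0)) (.node (.leaf 0) (.leaf 0))) (.node (.node (.leaf 0) (.leaf 0)) (.node (.leaf 0) (.leaf 133696301074552)))) (.node (.node (.node (.leaf 150124550981750) (.leaf 167570173364410)) (.node (.leaf 149025039353974) (.leaf 0))) (.node (.node (.leaf 0) (.leaf 167638892841146)) (.node (.leaf 149093756602454) (.leaf 131501570689110)))))) (.node (.node (.node (.node (.node (.leaf 150128560736374) (.leaf 0)) (.node (.leaf 0) (.leaf 0))) (.node (.node (.leaf 0) (.leaf 0)) (.node (.leaf 0) (.leaf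 166543959296152)))) (.node (.node (.node (.leaf 150115709388954) (.leaf 0)) (.node (.leaf 149024754141302) (.leaf 166616940185718))) (.node (.node (.leaf 150192985245814) (.leaf 0)) (.node (.leaf 0) (.leaf 0))))) (.node (.node (.node (.node (.leaf 0) (.leaf 167711890507928)) (.node (.leaf 186403588303544) (.leaf 131428572898904))) (.node (.node (.leaf 150050984986776) (.leaf 132596804126840)) (.node (.leaf 151287933471352) (.leaf 0)))) (.node (.node (.node (.leaf 150115440953498) (.leaf 0)) (.node (.leaf 0) (.leaf 131570306943062))) (.node (.node (.leaf 150193253681270) (.leaf 0)) (.node (.leaf 0) (.leaf 131501587466326))))))) (.node (.node (.node (.node (.node (.node (.leaf 150119986530424) (.leaf 132527800486008)) (.node (.leaf 0) (.leaf 0))) (.node (.node (.leaf 150188706007160) (.leaf 167643455195288)) (.node (.leaf 0) (.leaf 133696031590520)))) (.node (.node (.node (.leaf 0) (.leaf 0)) (.node (.leaf 149024769869942) (.leaf 133623019243674))) (.node (.node (.leaf 150193000974456) (.leaf 0)) (.node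 (.leaf 0) (.leaf 0))))) (.node (.node (.node (.node (.leaf 0) (.leaf 167711906236568)) (.node (.leaf 151219231819930) (.leaf 166612394608792))) (.node (.node (.leaf 150051000715416) (.leaf 132596788398200)) (.node (.leaf 148951489087640) (.leaf 166543675132056)))) (.node (.node (.node (.leaf 150124549933174) (.leaf 0)) (.node (.leaf 151214936852634) (.leaf 166617224349814))) (.node (.node (.leaf 150193269409910) (.leaf 0)) (.node (.leaf 0) (.leaf 0)))))) (.node (.node (.node (.node (.node (.leaf 150119971850392) (.leaf 132527817263224)) (.node (.leaf 151219483478168) (.leaf 131428305635448))) (.node (.node (.leaf 150051252373656) (.leaf 167643438418072)) (.node (.leaf 149089211156600) (.leaf 131497025112184)))) (.node (.node (.node (.leaf 0) (.leaf 0)) (.node (.leaf 0) (.leaf 168815964489880))) (.node (.node (.leaf 150193017751672) (.leaf 0)) (.node (.leaf 0) (.leaf 0))))) (.node (.node (.node (.node (.leaf 150119703414936) (.leaf 167711889459352)) (.node (.leaf 0) (.leaf 0))) (.node (.node (.leaf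 150050983938200) (.leaf 132596805175416)) (.node (.leaf 0) (.leaf 166543658354840)))) (.node (.node (.node (.leaf 150115442002074) (.leaf 167716184426648)) (.node (.leaf 149025055082614) (.leaf 0))) (.node (.node (.leaf 0) (.leaf 167647464949912)) (.node (.leaf 149093774551158) (.leaf 131501586417750)))))))) (.node (.node (.node (.node (.node (.node (.node (.leaf 150119987513464) (.leaf 132527801469048)) (.node (.leaf 149020475885688) (.leaf 131428858168952))) (.node (.node (.leaf 150051268167832) (.leaf 0)) (.node (.leaf 0) (.leaf 131359570372216)))) (.node (.node (.node (.leaf 0) (.leaf 0)) (.node (.leaf 0) (.leaf 166616956897398))) (.node (.node (.leaf 0) (.leaf 132601350686806)) (.node (.leaf 151146486925498) (.leaf 131501302188118))))) (.node (.node (.node (.node (.leaf 0) (.leaf 169910897052312)) (.node (.leaf 149020207450232) (.leaf 168811385424536))) (.node (.node (.leaf 0) (.leaf 0)) (.node (.leaf 0) (.leaf 168742699501754)))) (.node (.node (.node (.leaf 149977987385530) (.leaf 167570173429946))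 (.node (.leaf 149162476144726) (.leaf 0))) (.node (.node (.leaf 150046706862266) (.leaf 132601082251350)) (.node (.leaf 149093756667990) (.leaf 131501570623574)))))) (.node (.node (.node (.node (.node (.leaf 150119970736248) (.leaf 0)) (.node (.leaf 0) (.leaf 0))) (.node (.node (.leaf 150188690212984) (.leaf 132459065222776)) (.node (.leaf 148951773317272) (.leaf 0)))) (.node (.node (.node (.leaf 150115709454490) (.leaf 132523523410074)) (.node (.leaf 149024754075766) (.leaf 133623035037850))) (.node (.node (.leaf 147993993381974) (.leaf 0)) (.node (.leaf 0) (.leaf 0))))) (.node (.node (.node (.node (.leaf 0) (.leaf 167574451620024)) (.node (.leaf 186403588238008) (.leaf 168811402201752))) (.node (.node (.leaf 0) (.leaf 0)) (.node (.leaf 0) (.leaf 168742682724538)))) (.node (.node (.node (.leaf 150124534138998) (.leaf 167716720183414)) (.node (.leaf 149162492921942) (.leaf 0))) (.node (.node (.leaf 147994261817430) (.leaf 0)) (.node (.leaf 149093773445206) (.leaf 168738387757242))))))) (.node (.node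 (.node (.node (.node (.node (.leaf 150119986464888) (.leaf 132527800420472)) (.node (.leaf 149020474837112) (.leaf 168665122703580))) (.node (.node (.leaf 150188705941624) (.leaf 0)) (.node (.leaf 0) (.leaf 131359569323640)))) (.node (.node (.node (.leaf 0) (.leaf 0)) (.node (.leaf 0) (.leaf 166616955848822))) (.node (.node (.leaf 0) (.leaf 169837615221434)) (.node (.leaf 149093489281110) (.leaf 131501303236694))))) (.node (.node (.node (.node (.leaf 150119720257688) (.leaf 0)) (.node (.leaf 0) (.leaf 0))) (.node (.node (.leaf 150051000780952) (.leaf 132459349386872)) (.node (.leaf 151288486004856) (.leaf 0)))) (.node (.node (.node (.leaf 0) (.leaf 0)) (.node (.leaf 0) (.leaf 166617224284278))) (.node (.node (.leaf 0) (.leaf 132601083299926)) (.node (.leaf 149093757716566) (.leaf 131501571672150)))))) (.node (.node (.node (.node (.node (.leaf 150120003242104) (.leaf 0)) (.node (.leaf 151219483543704) (.leaf 0))) (.node (.node (.leaf 150188722718840) (.leaf 167643438352536)) (.node (.leaf 149089211091064)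 (.leaf 0)))) (.node (.node (.node (.leaf 114931336193658) (.leaf 132523522238074)) (.node (.leaf 149016196647032) (.leaf 0))) (.node (.node (.leaf 114862616716922) (.leaf 0)) (.node (.leaf 0) (.leaf 0))))) (.node (.node (.node (.node (.leaf 150119703480472) (.leaf 0)) (.node (.leaf 0) (.leaf 131428574004856))) (.node (.node (.leaf 150188991154296) (.leaf 167643169917080)) (.node (.leaf 149098035906644) (.leaf 0)))) (.node (.node (.node (.leaf 0) (.leaf 0)) (.node (.leaf 0) (.leaf 131432868972152))) (.node (.node (.leaf 0) (.leaf 132601066522710)) (.node (.leaf 151146202761402) (.leaf 168738388805818)))))))))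

/-- Part of `shortT`. -/
def shortT3 : Tr :=
  (.node (.node (.node (.node (.node (.node (.node (.node (.leaf 150119987579033) (.leaf 167712173623449)) (.node (.leaf 151219499206809) (.leaf 168811685251225))) (.node (.node (.leaf 150051268102297) (.leaf 0)) (.node (.leaf 149089195427959) (.leaf 166543942518935)))) (.node (.node (.node (.leaf 150124282546295) (.leaf 132532096501879)) (.node (.leaf 151215204239513) (.leaf 0))) (.node (.node (.leaf 150193002023031) (.leaf 0)) (.node (.leaf 149093490395255) (.leaf 0))))) (.node (.node (.node (.node (.leaf 150119719143577) (.leaf 132528069970039)) (.node (.leaf 0) (.leaf 131428556121687))) (.node (.node (.leaf 150050999666841) (.leaf 0)) (.node (.leaf 149098051700821) (.leaf 131505865656405)))) (.node (.node (.node (.leaf 150124550981751) (.leaf 0)) (.node (.leaf 151215472674969) (.leaf 131432851088983))) (.node (.node (.leaf 150046704699545) (.leaf 132592525936761)) (.node (.leaf 0) (.leaf 168738404468923)))))) (.node (.node (.node (.node (.node (.leaf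 150119970801783) (.leaf 132527784757367)) (.node (.leaf 0) (.leaf 166621235153013))) (.node (.node (.leaf 150188690278519) (.leaf 0)) (.node (.leaf 151288201906807) (.leaf 131359587206809)))) (.node (.node (.node (.leaf 150124265769079) (.leaf 167707895433369)) (.node (.leaf 0) (.leaf 0))) (.node (.node (.leaf 150192985245815) (.leaf 0)) (.node (.leaf 148947478284441) (.leaf 0))))) (.node (.node (.node (.node (.leaf 0) (.leaf 0)) (.node (.leaf 149020759066743) (.leaf 0))) (.node (.node (.leaf 0) (.leaf 132459367270041)) (.node (.leaf 0) (.leaf 0)))) (.node (.node (.node (.leaf 0) (.leaf 167570156587193)) (.node (.leaf 0) (.leaf 0))) (.node (.node (.leaf 0) (.leaf 0)) (.node (.leaf 148947209848985) (.leaf 0))))))) (.node (.node (.node (.node (.node (.node (.leaf 150119986530423) (.leaf 132527800486007)) (.node (.leaf 151219500255385) (.leaf 131428288858231))) (.node (.node (.leaf 150051269150873) (.leaf 0)) (.node (.leaf 151150780778649) (.leaf 166543943567511)))) (.node (.node (.node (.leaf 150124281497719)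 (.leaf 132532095453303)) (.node (.leaf 149024769869943) (.leaf 0))) (.node (.node (.leaf 150046974183577) (.leaf 0)) (.node (.leaf 149093489346679) (.leaf 0))))) (.node (.node (.node (.node (.leaf 150120254965879) (.leaf 132528068921463)) (.node (.leaf 151219231819929) (.leaf 0))) (.node (.node (.leaf 150051000715417) (.leaf 132596788398199)) (.node (.leaf 0) (.leaf 0)))) (.node (.node (.node (.leaf 150124549933175) (.leaf 132532363888759)) (.node (.leaf 0) (.leaf 0))) (.node (.node (.leaf 150193269409911) (.leaf 0)) (.node (.leaf 148947194120345) (.leaf 0)))))) (.node (.node (.node (.node (.node (.leaf 147920980052087) (.leaf 132527817263225)) (.node (.leaf 149020491679863) (.leaf 168811669522585))) (.node (.node (.leaf 150188722784377) (.leaf 132596536739961)) (.node (.leaf 151150764001433) (.leaf 133696048367737)))) (.node (.node (.node (.leaf 0) (.leaf 132523522295929)) (.node (.leaf 151215188510873) (.leaf 0))) (.node (.node (.leaf 0) (.leaf 132592241772665)) (.node (.leaf 149093506123895) (.leaf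 0))))) (.node (.node (.node (.node (.leaf 150119703414937) (.leaf 167711889459353)) (.node (.leaf 149020760115319) (.leaf 168811401087129))) (.node (.node (.leaf 150050983938201) (.leaf 0)) (.node (.leaf 149089479592055) (.leaf 166543658354839)))) (.node (.node (.node (.leaf 150115408447641) (.leaf 0)) (.node (.leaf 149025055082615) (.leaf 168807106120345))) (.node (.node (.leaf 150046688970905) (.leaf 167647464949911)) (.node (.leaf 0) (.leaf 166547953322135)))))))) (.node (.node (.node (.node (.node (.node (.node (.leaf 150119987644569) (.leaf 132527801476729)) (.node (.leaf 151219499272345) (.leaf 166612661930103))) (.node (.node (.leaf 0) (.leaf 132459081999993)) (.node (.leaf 0) (.leaf 0)))) (.node (.node (.node (.leaf 150124282480759) (.leaf 0)) (.node (.leaf 151215204305049) (.leaf 133623018260633))) (.node (.node (.leaf 0) (.leaf 0)) (.node (.leaf 149094025103445) (.leaf 0))))) (.node (.node (.node (.node (.leaf 150120255948919) (.leaf 132665506760791)) (.node (.leaf 0) (.leaf 168811385424535)))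 (.node (.node (.leaf 0) (.leaf 132596787284055)) (.node (.leaf 151141923522747) (.leaf 0)))) (.node (.node (.node (.leaf 0) (.leaf 167570173429945)) (.node (.leaf 0) (.leaf 0))) (.node (.node (.leaf 152245730117819) (.leaf 167638892906681)) (.node (.leaf 151146218490043) (.leaf 131501570623573)))))) (.node (.node (.node (.node (.node (.leaf 150119970736247) (.leaf 0)) (.node (.leaf 151219516049561) (.leaf 0))) (.node (.node (.leaf 150188690212983) (.leaf 0)) (.node (.leaf 148951773185689) (.leaf 131497023998039)))) (.node (.node (.node (.leaf 150115709454489) (.leaf 167716451747959)) (.node (.leaf 0) (.leaf 0))) (.node (.node (.leaf 150046989977753) (.leaf 167785171224695)) (.node (.leaf 0) (.leaf 131501318965335))))) (.node (.node (.node (.node (.leaf 150120239171703) (.leaf 167574451620025)) (.node (.leaf 0) (.leaf 131566011910231))) (.node (.node (.leaf 0) (.leaf 132596804061271)) (.node (.leaf 0) (.leaf 168742682724537)))) (.node (.node (.node (.leaf 0) (.leaf 167570156652729)) (.node (.leaf 0)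 (.leaf 0))) (.node (.node (.leaf 147994261817429) (.leaf 167638876129465)) (.node (.leaf 0) (.leaf 168738387757241))))))) (.node (.node (.node (.node (.node (.node (.leaf 150119986464887) (.leaf 167712174729879)) (.node (.leaf 151219500320921) (.leaf 133627314276505))) (.node (.node (.leaf 0) (.leaf 132459080951417)) (.node (.leaf 0) (.leaf 0)))) (.node (.node (.node (.leaf 150124281432183) (.leaf 0)) (.node (.leaf 149024769804407) (.leaf 166616955848823))) (.node (.node (.leaf 0) (.leaf 0)) (.node (.leaf 113909685519959) (.leaf 0))))) (.node (.node (.node (.node (.leaf 150119720257689) (.leaf 0)) (.node (.leaf 151219231885465) (.leaf 0))) (.node (.node (.leaf 150188974377079) (.leaf 0)) (.node (.leaf 149098052683861) (.leaf 131497308162135)))) (.node (.node (.node (.leaf 150115425290393) (.leaf 0)) (.node (.leaf 149025038239351) (.leaf 168807122963097))) (.node (.node (.leaf 0) (.leaf 0)) (.node (.leaf 149093757716565) (.leaf 0)))))) (.node (.node (.node (.node (.node (.leaf 0) (.leaf 0)) (.node (.leaf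 149020491614327) (.leaf 0))) (.node (.node (.leaf 150188722718841) (.leaf 0)) (.node (.leaf 151142207686843) (.leaf 168880389057175)))) (.node (.node (.node (.leaf 0) (.leaf 132523522230393)) (.node (.leaf 0) (.leaf 0))) (.node (.node (.leaf 150055547406487) (.leaf 132592241707129)) (.node (.leaf 0) (.leaf 131355291133561))))) (.node (.node (.node (.node (.leaf 0) (.leaf 0)) (.node (.leaf 149020760049783) (.leaf 0))) (.node (.node (.leaf 150042427623611) (.leaf 0)) (.node (.leaf 149098035906645) (.leaf 168742683773113)))) (.node (.node (.node (.leaf 147925543388791) (.leaf 0)) (.node (.leaf 151214920141465) (.leaf 131432868972151))) (.node (.node (.leaf 0) (.leaf 0)) (.node (.leaf 151146234218683) (.leaf 0)))))))))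

/-- Part of `shortT`. -/
def shortT4 : Tr :=
  (.node (.node (.node (.node (.node (.node (.node (.node (.leaf 150119987578760) (.leaf 132527801534344)) (.node (.leaf 151219499207048) (.leaf 131428289906568))) (.node (.node (.leaf 0) (.leaf 167780893100424)) (.node (.leaf 148951756474248) (.leaf 131359570429832)))) (.node (.node (.node (.leaf 150124282546056) (.leaf 132532096501640)) (.node (.leaf 149024770918280) (.leaf 166616956955014))) (.node (.node (.leaf 0) (.leaf 0)) (.node (.leaf 0) (.leaf 166685676431750))))) (.node (.node (.node (.node (.leaf 150120256014216) (.leaf 167711905188232)) (.node (.leaf 0) (.leaf 166612393560456))) (.node (.node (.leaf 0) (.leaf 167780624664968)) (.node (.leaf 186334851926440) (.leaf 131497309276008)))) (.node (.node (.node (.leaf 150115424176520) (.leaf 0)) (.node (.leaf 0) (.leaf 0))) (.node (.node (.leaf 150046706796458) (.leaf 167785456494982)) (.node (.leaf 148956319876998) (.leaf 0)))))) (.node (.node (.node (.node (.node (.leaf 0) (.leaf 0)) (.node (.leaf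 151219482429832) (.leaf 168811668474248))) (.node (.node (.leaf 0) (.leaf 132596535691624)) (.node (.leaf 151288201906568) (.leaf 168880387950984)))) (.node (.node (.node (.leaf 0) (.leaf 167716451813766)) (.node (.leaf 149024787695496) (.leaf 168806838733226))) (.node (.node (.leaf 150046989911978) (.leaf 0)) (.node (.leaf 0) (.leaf 168738119256490))))) (.node (.node (.node (.node (.leaf 150119702366600) (.leaf 167711888411016)) (.node (.leaf 149020761163656) (.leaf 0))) (.node (.node (.leaf 185235357075880) (.leaf 0)) (.node (.leaf 0) (.leaf 0)))) (.node (.node (.node (.leaf 0) (.leaf 169906618796458)) (.node (.leaf 149162492979558) (.leaf 168807107168682))) (.node (.node (.leaf 0) (.leaf 0)) (.node (.leaf 0) (.leaf 168738387691946))))))) (.node (.node (.node (.node (.node (.node (.leaf 0) (.leaf 0)) (.node (.leaf 0) (.leaf 166475224090536))) (.node (.node (.leaf 0) (.leaf 132596519962984)) (.node (.leaf 149089194379622) (.leaf 133696031590760)))) (.node (.node (.node (.leaf 0) (.leaf 132523539072906))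 (.node (.leaf 149024769870182) (.leaf 131424027445130))) (.node (.node (.leaf 150193000974694) (.leaf 0)) (.node (.leaf 151146485811114) (.leaf 166685675391334))))) (.node (.node (.node (.node (.leaf 150119720192392) (.leaf 167711906236808)) (.node (.leaf 149020776892296) (.leaf 0))) (.node (.node (.leaf 150188974442854) (.leaf 0)) (.node (.leaf 0) (.leaf 0)))) (.node (.node (.node (.leaf 0) (.leaf 132523807508362)) (.node (.leaf 149025038174054) (.leaf 168807122897322))) (.node (.node (.leaf 150046705747882) (.leaf 0)) (.node (.leaf 0) (.leaf 168738403420586)))))) (.node (.node (.node (.node (.node (.leaf 0) (.leaf 0)) (.node (.leaf 151219483478408) (.leaf 168811669522824))) (.node (.node (.leaf 0) (.leaf 132596536740200)) (.node (.leaf 151288202955144) (.leaf 131359586158472)))) (.node (.node (.node (.leaf 0) (.leaf 167716452862342)) (.node (.leaf 151215188511112) (.leaf 168669400959434))) (.node (.node (.leaf 150046990960554) (.leaf 0)) (.node (.leaf 0) (.leaf 131501854721862))))) (.node (.node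 (.node (.node (.leaf 150120271742856) (.leaf 167711889459592)) (.node (.leaf 151219215042952) (.leaf 131428574070664))) (.node (.node (.leaf 0) (.leaf 167780608936328)) (.node (.leaf 148952040638344) (.leaf 131359854593928)))) (.node (.node (.node (.leaf 150115408447880) (.leaf 0)) (.node (.leaf 0) (.leaf 0))) (.node (.node (.leaf 150046722525098) (.leaf 130402074658630)) (.node (.leaf 148947210897322) (.leaf 0)))))))) (.node (.node (.node (.node (.node (.node (.node (.leaf 150119987513224) (.leaf 0)) (.node (.leaf 149020475885448) (.leaf 166612661929864))) (.node (.node (.leaf 150188707121544) (.leaf 0)) (.node (.leaf 151288218749320) (.leaf 0)))) (.node (.node (.node (.leaf 150115692677512) (.leaf 0)) (.node (.leaf 0) (.leaf 0))) (.node (.node (.leaf 0) (.leaf 0)) (.node (.leaf 0) (.leaf 133554298660746))))) (.node (.node (.node (.node (.leaf 150119719209352) (.leaf 0)) (.node (.leaf 0) (.leaf 168811385424296))) (.node (.node (.leaf 150188438686088) (.leaf 0)) (.node (.leaf 0) (.leaf 168742665947560))))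 (.node (.node (.node (.leaf 0) (.leaf 132669801728326)) (.node (.leaf 149025037191014) (.leaf 131432851146598))) (.node (.node (.leaf 150193270516102) (.leaf 132454518597514)) (.node (.leaf 151146218490282) (.leaf 0)))))) (.node (.node (.node (.node (.node (.leaf 150119970736008) (.leaf 167712190458280)) (.node (.leaf 149020492662664) (.leaf 0))) (.node (.node (.leaf 0) (.leaf 167642902661544)) (.node (.leaf 148951773185928) (.leaf 168742951160232)))) (.node (.node (.node (.leaf 0) (.leaf 132523523278730)) (.node (.leaf 149025322403686) (.leaf 131433136359270))) (.node (.node (.leaf 150192985180518) (.leaf 132454803933098)) (.node (.leaf 149094041880422) (.leaf 0))))) (.node (.node (.node (.node (.leaf 0) (.leaf 0)) (.node (.leaf 0) (.leaf 168811402201512))) (.node (.node (.leaf 185235357141416) (.leaf 167643171097000)) (.node (.leaf 0) (.leaf 168742682724776)))) (.node (.node (.node (.leaf 147925542340454) (.leaf 130333356296038)) (.node (.leaf 151214921189802) (.leaf 131432867923814))) (.node (.node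 (.leaf 152245713340842) (.leaf 167638876129704)) (.node (.leaf 151146201713066) (.leaf 0))))))) (.node (.node (.node (.node (.node (.node (.leaf 0) (.leaf 132527800428392)) (.node (.leaf 0) (.leaf 168811686357416))) (.node (.node (.leaf 150188705941864) (.leaf 0)) (.node (.leaf 0) (.leaf 0)))) (.node (.node (.node (.leaf 147925258176358) (.leaf 0)) (.node (.leaf 0) (.leaf 0))) (.node (.node (.leaf 0) (.leaf 0)) (.node (.leaf 0) (.leaf 166685675325798))))) (.node (.node (.node (.node (.leaf 150120254900104) (.leaf 132528068863848)) (.node (.leaf 151210641951146) (.leaf 0))) (.node (.node (.leaf 0) (.leaf 167643186825640)) (.node (.leaf 151141922474410) (.leaf 168742666996136)))) (.node (.node (.node (.leaf 152314448546218) (.leaf 0)) (.node (.leaf 149025038239590) (.leaf 131432852195174))) (.node (.node (.leaf 0) (.leaf 0)) (.node (.leaf 151146217441706) (.leaf 168738403486122)))))) (.node (.node (.node (.node (.node (.leaf 150120003373448) (.leaf 132527783651176)) (.node (.leaf 151219483543944) (.leaf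 0))) (.node (.node (.leaf 0) (.leaf 130406638126916)) (.node (.leaf 151288203020680) (.leaf 168742950111656)))) (.node (.node (.node (.leaf 0) (.leaf 167716452927878)) (.node (.leaf 186261586938314) (.leaf 168669400893898))) (.node (.node (.leaf 150046991026090) (.leaf 167785170176358)) (.node (.leaf 113909668742982) (.leaf 0))))) (.node (.node (.node (.node (.leaf 150120271677320) (.leaf 167711889394056)) (.node (.leaf 151219215108488) (.leaf 0))) (.node (.node (.leaf 0) (.leaf 167643170048424)) (.node (.leaf 151287934585224) (.leaf 131497293481832)))) (.node (.node (.node (.leaf 147925543389030) (.leaf 0)) (.node (.leaf 0) (.leaf 0))) (.node (.node (.leaf 0) (.leaf 0)) (.node (.leaf 0) (.leaf 133554014496650)))))))))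

/-- Part of `shortT`. -/
def shortT5 : Tr :=
  (.node (.node (.node (.node (.node (.node (.node (.node (.leaf 150119987579271) (.leaf 167712173623687)) (.node (.leaf 151219499207049) (.leaf 166612661995911))) (.node (.node (.leaf 0) (.leaf 0)) (.node (.leaf 151288218683785) (.leaf 0)))) (.node (.node (.node (.leaf 150124282546055) (.leaf 132523506567049)) (.node (.leaf 149024770918279) (.leaf 133623018195337))) (.node (.node (.leaf 0) (.leaf 167785188059527)) (.node (.leaf 148956051441543) (.leaf 0))))) (.node (.node (.node (.node (.leaf 150119719143817) (.leaf 0)) (.node (.leaf 151219230771593) (.leaf 166612393560455))) (.node (.node (.leaf 0) (.leaf 0)) (.node (.leaf 151287950248329) (.leaf 0)))) (.node (.node (.node (.leaf 150124550981511) (.leaf 0)) (.node (.leaf 149025039353735) (.leaf 0))) (.node (.node (.leaf 150184143653257) (.leaf 0)) (.node (.leaf 148956319876999) (.leaf 131501604243303)))))) (.node (.node (.node (.node (.node (.leaf 150119970802055) (.leaf 132527818311561)) (.node (.leaf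 149020492728201) (.leaf 131428306683785))) (.node (.node (.leaf 0) (.leaf 0)) (.node (.leaf 149089210108263) (.leaf 0)))) (.node (.node (.node (.leaf 150115709389193) (.leaf 167716451813767)) (.node (.leaf 0) (.leaf 168815963441543))) (.node (.node (.leaf 0) (.leaf 167638607628713)) (.node (.leaf 0) (.leaf 0))))) (.node (.node (.node (.node (.leaf 0) (.leaf 132528086747017)) (.node (.leaf 0) (.leaf 0))) (.node (.node (.leaf 150050984986537) (.leaf 167643171030953)) (.node (.leaf 0) (.leaf 168742682659241)))) (.node (.node (.node (.leaf 150115440953737) (.leaf 167716183378311)) (.node (.leaf 0) (.leaf 131432867989351))) (.node (.node (.leaf 0) (.leaf 167638876064169)) (.node (.leaf 0) (.leaf 168738387691945))))))) (.node (.node (.node (.node (.node (.node (.leaf 150257425484135) (.leaf 0)) (.node (.leaf 151219466701191) (.leaf 131428322412425))) (.node (.node (.leaf 150051269150633) (.leaf 132596519962983)) (.node (.leaf 149089194379623) (.leaf 0)))) (.node (.node (.node (.leaf 150261720451431) (.leaf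 132523505395561)) (.node (.leaf 0) (.leaf 168815947712903))) (.node (.node (.leaf 150046974183337) (.leaf 132600814930279)) (.node (.leaf 0) (.leaf 0))))) (.node (.node (.node (.node (.leaf 0) (.leaf 132528102475657)) (.node (.leaf 0) (.leaf 0))) (.node (.node (.leaf 150051000715177) (.leaf 132596788398439)) (.node (.leaf 0) (.leaf 133696300026215)))) (.node (.node (.node (.leaf 150115425225097) (.leaf 167716167649671)) (.node (.leaf 0) (.leaf 168815679277447))) (.node (.node (.leaf 0) (.leaf 167638891792809)) (.node (.leaf 0) (.leaf 0)))))) (.node (.node (.node (.node (.node (.leaf 150119971850631) (.leaf 167712157895047)) (.node (.leaf 151219483478407) (.leaf 131428305635209))) (.node (.node (.leaf 0) (.leaf 0)) (.node (.leaf 149089211156839) (.leaf 0)))) (.node (.node (.node (.leaf 150115708340617) (.leaf 167716452862343)) (.node (.leaf 0) (.leaf 168815964490119))) (.node (.node (.leaf 0) (.leaf 169837632063947)) (.node (.leaf 0) (.leaf 0))))) (.node (.node (.node (.node (.leaf 150119703415175)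 (.leaf 132528085698441)) (.node (.leaf 151219215042953) (.leaf 166612377831815))) (.node (.node (.leaf 0) (.leaf 0)) (.node (.leaf 151287934519689) (.leaf 0)))) (.node (.node (.node (.leaf 0) (.leaf 167716184426887)) (.node (.leaf 149025055082375) (.leaf 0))) (.node (.node (.leaf 150046722525099) (.leaf 0)) (.node (.leaf 148956335605639) (.leaf 131501588514663)))))))) (.node (.node (.node (.node (.node (.node (.node (.leaf 150119987513225) (.leaf 167712173689223)) (.node (.leaf 0) (.leaf 0))) (.node (.node (.leaf 0) (.leaf 0)) (.node (.leaf 148951756408711) (.leaf 0)))) (.node (.node (.node (.leaf 150124282612103) (.leaf 132523506501513)) (.node (.leaf 0) (.leaf 166616956897159))) (.node (.node (.leaf 150046973077385) (.leaf 0)) (.node (.leaf 148956051376007) (.leaf 133691737737609))))) (.node (.node (.node (.node (.leaf 0) (.leaf 169910897052073)) (.node (.leaf 0) (.leaf 0))) (.node (.node (.leaf 0) (.leaf 0)) (.node (.leaf 151287950313865) (.leaf 0)))) (.node (.node (.node (.leaf 0) (.leaf 0)) (.node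 (.leaf 149162476144965) (.leaf 0))) (.node (.node (.leaf 0) (.leaf 167638892906921)) (.node (.leaf 0) (.leaf 0)))))) (.node (.node (.node (.node (.node (.leaf 150119970867591) (.leaf 0)) (.node (.leaf 149020492662665) (.leaf 168811133766057))) (.node (.node (.leaf 150188690213223) (.leaf 167642902661545)) (.node (.leaf 0) (.leaf 168742414289321)))) (.node (.node (.node (.leaf 0) (.leaf 0)) (.node (.leaf 149016197695369) (.leaf 0))) (.node (.node (.leaf 0) (.leaf 167638607694249)) (.node (.leaf 0) (.leaf 0))))) (.node (.node (.node (.node (.leaf 0) (.leaf 169910913829289)) (.node (.leaf 0) (.leaf 131428572956519))) (.node (.node (.leaf 0) (.leaf 0)) (.node (.leaf 151150496680361) (.leaf 168742682724777)))) (.node (.node (.node (.leaf 0) (.leaf 0)) (.node (.leaf 151214921189801) (.leaf 131432867923815))) (.node (.node (.leaf 0) (.leaf 167638876129705)) (.node (.leaf 151146201713065) (.leaf 168738387757481))))))) (.node (.node (.node (.node (.node (.node (.leaf 0) (.leaf 167712174729639)) (.node (.leaf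 0) (.leaf 0))) (.node (.node (.leaf 150188705941863) (.leaf 0)) (.node (.leaf 149089194314087) (.leaf 0)))) (.node (.node (.node (.leaf 185308655741351) (.leaf 132523505461097)) (.node (.leaf 0) (.leaf 168807391398313))) (.node (.node (.leaf 150193000909159) (.leaf 0)) (.node (.leaf 151146485877161) (.leaf 168738671921577))))) (.node (.node (.node (.node (.leaf 147929821579109) (.leaf 0)) (.node (.leaf 149029333206885) (.leaf 168811417930153))) (.node (.node (.leaf 150188974377319) (.leaf 167643186825641)) (.node (.leaf 0) (.leaf 168742698453417)))) (.node (.node (.node (.leaf 147925526611813) (.leaf 167707611335081)) (.node (.leaf 0) (.leaf 131432852195175))) (.node (.node (.leaf 150046705813929) (.leaf 167638891858345)) (.node (.leaf 149093757716327) (.leaf 168738403486121)))))) (.node (.node (.node (.node (.node (.leaf 150120003241865) (.leaf 0)) (.node (.leaf 149020491614089) (.leaf 168665105926603))) (.node (.node (.leaf 150051285993385) (.leaf 130406638126917)) (.node (.leaf 0) (.leaf 168733825403339))))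 (.node (.node (.node (.leaf 0) (.leaf 0)) (.node (.leaf 151223778511239) (.leaf 0))) (.node (.node (.leaf 0) (.leaf 169837631998411)) (.node (.leaf 0) (.leaf 0))))) (.node (.node (.node (.node (.leaf 150119703480711) (.leaf 0)) (.node (.leaf 149029316429669) (.leaf 168811401152937))) (.node (.node (.leaf 150050983880585) (.leaf 130406369691461)) (.node (.leaf 0) (.leaf 168742681676201)))) (.node (.node (.node (.leaf 150115976710025) (.leaf 132523790665609)) (.node (.leaf 0) (.leaf 131432868972391))) (.node (.node (.leaf 150046688913289) (.leaf 0)) (.node (.leaf 151146200664489) (.leaf 131501588449127)))))))))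

/-- Part of `shortT`. -/
def shortT6 : Tr :=
  (.node (.node (.node (.node (.node (.node (.node (.node (.leaf 150119987579256) (.leaf 0)) (.node (.leaf 0) (.leaf 0))) (.node (.node (.leaf 150188707055992) (.leaf 0)) (.node (.leaf 148951756474264) (.leaf 133696032639352)))) (.node (.node (.node (.leaf 0) (.leaf 0)) (.node (.leaf 0) (.leaf 166616956963190))) (.node (.node (.leaf 150055563069336) (.leaf 0)) (.node (.leaf 0) (.leaf 0))))) (.node (.node (.node (.node (.leaf 150119719143800) (.leaf 0)) (.node (.leaf 0) (.leaf 131428589799288))) (.node (.node (.leaf 150051536537496) (.leaf 0)) (.node (.leaf 0) (.leaf 168742665882008)))) (.node (.node (.node (.leaf 149977987319738) (.leaf 167570173364154)) (.node (.leaf 149025039353718) (.leaf 0))) (.node (.node (.leaf 0) (.leaf 167638892840890)) (.node (.leaf 149093756602198) (.leaf 168738404600250)))))) (.node (.node (.node (.node (.node (.leaf 150119970802038) (.leaf 0)) (.node (.leaf 0) (.leaf 0))) (.node (.node (.leaf 0) (.leaf 0)) (.node (.leaf 148951773251480)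 (.leaf 133696015862136)))) (.node (.node (.node (.leaf 150124265769334) (.leaf 132523523344282)) (.node (.leaf 0) (.leaf 166616940185974))) (.node (.node (.leaf 150192985246070) (.leaf 132454803867546)) (.node (.leaf 0) (.leaf 0))))) (.node (.node (.node (.node (.leaf 0) (.leaf 167711890508184)) (.node (.leaf 113836386854232) (.leaf 131428573022072))) (.node (.node (.leaf 150188421843320) (.leaf 167643171031448)) (.node (.leaf 148952041686936) (.leaf 0)))) (.node (.node (.node (.leaf 0) (.leaf 0)) (.node (.leaf 0) (.leaf 166616671750518))) (.node (.node (.leaf 147994261751638) (.leaf 0)) (.node (.leaf 0) (.leaf 0))))))) (.node (.node (.node (.node (.node (.node (.leaf 150119986530680) (.leaf 0)) (.node (.leaf 0) (.leaf 0))) (.node (.node (.leaf 150188706007416) (.leaf 0)) (.node (.leaf 148951757522840) (.leaf 166543943567256)))) (.node (.node (.node (.leaf 0) (.leaf 0)) (.node (.leaf 0) (.leaf 166616955914614))) (.node (.node (.leaf 150055564117912) (.leaf 0)) (.node (.leaf 0) (.leaf 0))))) (.node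 (.node (.node (.node (.leaf 0) (.leaf 167711906236824)) (.node (.leaf 149029333272438) (.leaf 168811384310168))) (.node (.node (.leaf 150188437571960) (.leaf 167643186760088)) (.node (.leaf 148951489087384) (.leaf 0)))) (.node (.node (.node (.leaf 0) (.leaf 0)) (.node (.leaf 151214936852890) (.leaf 168807122897306))) (.node (.node (.leaf 150193269401974) (.leaf 0)) (.node (.leaf 0) (.leaf 0)))))) (.node (.node (.node (.node (.node (.leaf 150119971850136) (.leaf 0)) (.node (.leaf 0) (.leaf 131428305635192))) (.node (.node (.leaf 150051252373400) (.leaf 0)) (.node (.leaf 0) (.leaf 168742950046104)))) (.node (.node (.node (.leaf 0) (.leaf 0)) (.node (.leaf 0) (.leaf 131432600602488))) (.node (.node (.leaf 150184427817336) (.leaf 0)) (.node (.leaf 0) (.leaf 0))))) (.node (.node (.node (.node (.leaf 185304075504024) (.leaf 167711889459608)) (.node (.leaf 0) (.leaf 131428574070648))) (.node (.node (.leaf 0) (.leaf 132596805175160)) (.node (.leaf 0) (.leaf 131497293547384)))) (.node (.node (.node (.leaf 147925543454582)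 (.leaf 132532380665720)) (.node (.leaf 149025055082358) (.leaf 0))) (.node (.node (.leaf 0) (.leaf 132601100142456)) (.node (.leaf 149093774551414) (.leaf 166685960595830)))))))) (.node (.node (.node (.node (.node (.node (.node (.leaf 0) (.leaf 167712173689240)) (.node (.leaf 149020475885432) (.leaf 131428289841016))) (.node (.node (.leaf 0) (.leaf 0)) (.node (.leaf 0) (.leaf 166543942453144)))) (.node (.node (.node (.leaf 0) (.leaf 0)) (.node (.leaf 0) (.leaf 133623018137466))) (.node (.node (.leaf 0) (.leaf 167638624471482)) (.node (.leaf 149093488232790) (.leaf 168738136099258))))) (.node (.node (.node (.node (.leaf 0) (.leaf 132528069904248)) (.node (.leaf 151219199379864) (.leaf 131428589733752))) (.node (.node (.leaf 0) (.leaf 0)) (.node (.leaf 0) (.leaf 131505865590614)))) (.node (.node (.node (.leaf 149977987385274) (.leaf 167716737083798)) (.node (.leaf 149025039288182) (.leaf 0))) (.node (.node (.leaf 150046706862010) (.leaf 0)) (.node (.leaf 0) (.leaf 168738404534714)))))) (.node (.node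 (.node (.node (.node (.leaf 150119970744184) (.leaf 0)) (.node (.leaf 0) (.leaf 0))) (.node (.node (.leaf 150051251267448) (.leaf 167780909935000)) (.node (.leaf 151288201841016) (.leaf 0)))) (.node (.node (.node (.leaf 150115709323162) (.leaf 167716451748214)) (.node (.leaf 149024754075510) (.leaf 0))) (.node (.node (.leaf 150046989846426) (.leaf 0)) (.node (.leaf 0) (.leaf 168738119322042))))) (.node (.node (.node (.node (.leaf 0) (.leaf 132528084584312)) (.node (.leaf 151219216157080) (.leaf 168811402201496))) (.node (.node (.leaf 0) (.leaf 0)) (.node (.leaf 0) (.leaf 131505882367830)))) (.node (.node (.node (.leaf 150115441019290) (.leaf 169906618862010)) (.node (.leaf 151214952647066) (.leaf 0))) (.node (.node (.leaf 147994261817174) (.leaf 130402075772758)) (.node (.leaf 0) (.leaf 168738387757498))))))) (.node (.node (.node (.node (.node (.node (.leaf 0) (.leaf 132527800420216)) (.node (.leaf 149020474836856) (.leaf 131428288792440))) (.node (.node (.leaf 0) (.leaf 0)) (.node (.leaf 0) (.leaf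 166543943501720)))) (.node (.node (.node (.leaf 0) (.leaf 0)) (.node (.leaf 0) (.leaf 133623017088890))) (.node (.node (.leaf 0) (.leaf 130402359936854)) (.node (.leaf 151146485876666) (.leaf 168738103593402))))) (.node (.node (.node (.node (.leaf 150120254900088) (.leaf 167711906302360)) (.node (.leaf 0) (.leaf 0))) (.node (.node (.leaf 150051000781208) (.leaf 167643186825624)) (.node (.leaf 113905122117464) (.leaf 0)))) (.node (.node (.node (.leaf 0) (.leaf 0)) (.node (.leaf 149025038239606) (.leaf 166617224284022))) (.node (.node (.leaf 0) (.leaf 169837883656634)) (.node (.leaf 151283656395162) (.leaf 168738403486138)))))) (.node (.node (.node (.node (.node (.leaf 147920979986296) (.leaf 0)) (.node (.leaf 149020491614072) (.leaf 168811669588376))) (.node (.node (.leaf 150188722850168) (.leaf 132596536805752)) (.node (.leaf 151150764067224) (.leaf 0)))) (.node (.node (.node (.leaf 149978271549370) (.leaf 132523522238330)) (.node (.leaf 151215188576664) (.leaf 0))) (.node (.node (.leaf 150046991026106)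 (.leaf 0)) (.node (.leaf 0) (.leaf 168738120370618))))) (.node (.node (.node (.node (.leaf 150119703480728) (.leaf 132528085632888)) (.node (.leaf 151219215108504) (.leaf 168811401152920))) (.node (.node (.leaf 150050984003992) (.leaf 167643170048408)) (.node (.leaf 149089479526264) (.leaf 0)))) (.node (.node (.node (.leaf 0) (.leaf 0)) (.node (.leaf 0) (.leaf 168815696120216))) (.node (.node (.leaf 0) (.leaf 169837900433850)) (.node (.leaf 151146200541082) (.leaf 168738388806074)))))))))

/-- Part of `shortT`. -/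
def shortT7 : Tr :=
  (.node (.node (.node (.node (.node (.node (.node (.node (.leaf 150119987579255) (.leaf 0)) (.node (.leaf 151219499206553) (.leaf 0))) (.node (.node (.leaf 150051268102041) (.leaf 167780893100407)) (.node (.leaf 0) (.leaf 0)))) (.node (.node (.node (.leaf 150124282546551) (.leaf 0)) (.node (.leaf 151215204239769) (.leaf 131432584873847))) (.node (.node (.leaf 150046973134745) (.leaf 132454787090329)) (.node (.leaf 0) (.leaf 133691737672057))))) (.node (.node (.node (.node (.leaf 0) (.leaf 0)) (.node (.leaf 149020207516023) (.leaf 0))) (.node (.node (.leaf 0) (.leaf 167643154254231)) (.node (.leaf 0) (.leaf 0)))) (.node (.node (.node (.leaf 0) (.leaf 132532364937079)) (.node (.leaf 0) (.leaf 0))) (.node (.node (.leaf 0) (.leaf 0)) (.node (.leaf 151146218424251) (.leaf 0)))))) (.node (.node (.node (.node (.node (.leaf 150119970802039) (.leaf 0)) (.node (.leaf 149020492728217) (.leaf 0))) (.node (.node (.leaf 150188690278775) (.leaf 132459098834841)) (.node (.leaf 151288201906551)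 (.leaf 0)))) (.node (.node (.node (.leaf 150124265769335) (.leaf 0)) (.node (.leaf 151223777397111) (.leaf 166616940185973))) (.node (.node (.leaf 150046989911961) (.leaf 167785171290487)) (.node (.leaf 151292496873847) (.leaf 168884682918263))))) (.node (.node (.node (.node (.leaf 150120272791449) (.leaf 167574451554233)) (.node (.leaf 0) (.leaf 168811402135961))) (.node (.node (.leaf 150188421843319) (.leaf 0)) (.node (.leaf 151288470342007) (.leaf 131497292367703)))) (.node (.node (.node (.leaf 150123997333879) (.leaf 0)) (.node (.leaf 151214921124249) (.leaf 131432867989367))) (.node (.node (.leaf 150192716810615) (.leaf 167784902855031)) (.node (.leaf 0) (.leaf 168738387823033))))))) (.node (.node (.node (.node (.node (.node (.leaf 150119988627353) (.leaf 0)) (.node (.leaf 149020474902903) (.leaf 0))) (.node (.node (.leaf 150051269150617) (.leaf 132459083106201)) (.node (.leaf 0) (.leaf 0)))) (.node (.node (.node (.leaf 150124281497975) (.leaf 0)) (.node (.leaf 151215205288345) (.leaf 131432583825271)))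 (.node (.node (.leaf 150046974183321) (.leaf 167785187019127)) (.node (.leaf 0) (.leaf 166548238534551))))) (.node (.node (.node (.node (.leaf 150120254966135) (.leaf 167711906236825)) (.node (.leaf 0) (.leaf 168811417864601))) (.node (.node (.leaf 150188974442871) (.leaf 0)) (.node (.leaf 151288486070647) (.leaf 166690238785909)))) (.node (.node (.node (.leaf 150124549932919) (.leaf 132532363888503)) (.node (.leaf 149025038305143) (.leaf 131432852260727))) (.node (.node (.leaf 150046705748377) (.leaf 167638891792793)) (.node (.leaf 0) (.leaf 166685943818613)))))) (.node (.node (.node (.node (.node (.leaf 0) (.leaf 0)) (.node (.leaf 149020491680119) (.leaf 0))) (.node (.node (.leaf 0) (.leaf 167643438418327)) (.node (.leaf 0) (.leaf 0)))) (.node (.node (.node (.leaf 152314700138905) (.leaf 0)) (.node (.leaf 151215188511129) (.leaf 131432600602487))) (.node (.node (.leaf 150184427817337) (.leaf 132592241772921)) (.node (.leaf 0) (.leaf 133691753400697))))) (.node (.node (.node (.node (.leaf 0) (.leaf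 0)) (.node (.leaf 151219215042969) (.leaf 168811401087385))) (.node (.node (.leaf 0) (.leaf 167643169982871)) (.node (.leaf 0) (.leaf 0)))) (.node (.node (.node (.leaf 0) (.leaf 132532380665719)) (.node (.leaf 149025055082359) (.leaf 131432869037943))) (.node (.node (.leaf 0) (.leaf 0)) (.node (.leaf 149093774559095) (.leaf 0)))))))) (.node (.node (.node (.node (.node (.node (.node (.leaf 0) (.leaf 0)) (.node (.leaf 149020475885431) (.leaf 0))) (.node (.node (.leaf 150051268036505) (.leaf 0)) (.node (.leaf 149098320070485) (.leaf 131506134026069)))) (.node (.node (.node (.leaf 0) (.leaf 167716468648343)) (.node (.leaf 149024770852727) (.leaf 0))) (.node (.node (.leaf 150046973069209) (.leaf 167785188125079)) (.node (.leaf 0) (.leaf 168738136099259))))) (.node (.node (.node (.node (.leaf 0) (.leaf 0)) (.node (.leaf 151219230837145) (.leaf 0))) (.node (.node (.leaf 147998540007253) (.leaf 0)) (.node (.leaf 149098051635029) (.leaf 168734109567419)))) (.node (.node (.node (.leaf 150115424242073) (.leaf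 0)) (.node (.leaf 149025039288183) (.leaf 131424294766457))) (.node (.node (.leaf 0) (.leaf 0)) (.node (.leaf 151146218489787) (.leaf 0)))))) (.node (.node (.node (.node (.node (.leaf 150119970736503) (.leaf 132527818377113)) (.node (.leaf 0) (.leaf 133627296327545))) (.node (.node (.leaf 0) (.leaf 132459098900377)) (.node (.leaf 0) (.leaf 0)))) (.node (.node (.node (.leaf 150115709454745) (.leaf 0)) (.node (.leaf 149024754075511) (.leaf 133623001360249))) (.node (.node (.leaf 0) (.leaf 0)) (.node (.leaf 148947478218649) (.leaf 0))))) (.node (.node (.node (.node (.leaf 0) (.leaf 0)) (.node (.leaf 151219216157081) (.leaf 0))) (.node (.node (.leaf 147998556784469) (.leaf 0)) (.node (.leaf 186334868769209) (.leaf 168742682724793)))) (.node (.node (.node (.leaf 150115441019289) (.leaf 0)) (.node (.leaf 149025053968247) (.leaf 131570306877271))) (.node (.node (.leaf 0) (.leaf 0)) (.node (.leaf 113909401356119) (.leaf 168738387757497))))))) (.node (.node (.node (.node (.node (.node (.leaf 0) (.leaf 0)) (.node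 (.leaf 151219500321177) (.leaf 0))) (.node (.node (.leaf 150051269085081) (.leaf 0)) (.node (.leaf 186334584605113) (.leaf 168742398560697)))) (.node (.node (.node (.leaf 0) (.leaf 132523505461113)) (.node (.leaf 149024769804151) (.leaf 0))) (.node (.node (.leaf 150193001040247) (.leaf 132454785984377)) (.node (.leaf 0) (.leaf 168738103593401))))) (.node (.node (.node (.node (.leaf 150120254900087) (.leaf 167711906302361)) (.node (.leaf 151219231885721) (.leaf 168811417930137))) (.node (.node (.leaf 0) (.leaf 169842178623929)) (.node (.leaf 0) (.leaf 0)))) (.node (.node (.node (.leaf 150124549867383) (.leaf 167707611335065)) (.node (.leaf 151214936918425) (.leaf 0))) (.node (.node (.leaf 150046705813913) (.leaf 130402091501399)) (.node (.leaf 0) (.leaf 168738372028857)))))) (.node (.node (.node (.node (.node (.leaf 152318995171737) (.leaf 167712157960599)) (.node (.leaf 0) (.leaf 131428305569657))) (.node (.node (.leaf 0) (.leaf 167643438483863)) (.node (.leaf 0) (.leaf 0)))) (.node (.node (.node (.leaf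 147925274953591) (.leaf 0)) (.node (.leaf 151215188576665) (.leaf 131424010602361))) (.node (.node (.leaf 0) (.leaf 0)) (.node (.leaf 151146502653883) (.leaf 0))))) (.node (.node (.node (.node (.leaf 152318726736281) (.leaf 167711889525143)) (.node (.leaf 149020760049527) (.leaf 168811401152921))) (.node (.node (.leaf 0) (.leaf 167643170048407)) (.node (.leaf 0) (.leaf 0)))) (.node (.node (.node (.leaf 0) (.leaf 132523790665593)) (.node (.leaf 149025055016823) (.leaf 0))) (.node (.node (.leaf 150193252567381) (.leaf 167647465015703)) (.node (.leaf 0) (.leaf 131501586351959)))))))))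

/-- Part of `shortT`. -/
def shortT8 : Tr :=
  (.node (.node (.node (.node (.node (.node (.node (.node (.leaf 150119987574920) (.leaf 167712173627528)) (.node (.leaf 149020475947144) (.leaf 133618723231882))) (.node (.node (.leaf 150188707051656) (.leaf 0)) (.node (.leaf 0) (.leaf 168880404724360)))) (.node (.node (.node (.leaf 150115692615816) (.leaf 165517445331078)) (.node (.leaf 149024770914438) (.leaf 166616956958854))) (.node (.node (.leaf 150046973139080) (.leaf 0)) (.node (.leaf 0) (.leaf 0))))) (.node (.node (.node (.node (.leaf 150120256010376) (.leaf 0)) (.node (.leaf 0) (.leaf 0))) (.node (.node (.leaf 150188975487112) (.leaf 167780624661128)) (.node (.leaf 148951488043144) (.leaf 0)))) (.node (.node (.node (.leaf 150115424180362) (.leaf 132523238135946)) (.node (.leaf 149025039349894) (.leaf 166617225394310))) (.node (.node (.leaf 147994278656102) (.leaf 0)) (.node (.leaf 0) (.leaf 0)))))) (.node (.node (.node (.node (.node (.leaf 150119970805896) (.leaf 0)) (.node (.leaf 151219482433672)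 (.leaf 0))) (.node (.node (.leaf 150051251329160) (.leaf 167643439462568)) (.node (.leaf 149089212201096) (.leaf 0)))) (.node (.node (.node (.leaf 0) (.leaf 0)) (.node (.leaf 0) (.leaf 133623034976394))) (.node (.node (.leaf 0) (.leaf 167638607632554)) (.node (.leaf 151145933215914) (.leaf 131501855897702))))) (.node (.node (.node (.node (.leaf 150119702370440) (.leaf 0)) (.node (.leaf 0) (.leaf 131428572894824))) (.node (.node (.leaf 150050982893704) (.leaf 167643171027112)) (.node (.leaf 149098068473958) (.leaf 0)))) (.node (.node (.node (.leaf 150115440957578) (.leaf 132523254913162)) (.node (.leaf 151077482174634) (.leaf 0))) (.node (.node (.leaf 147994261878886) (.leaf 0)) (.node (.leaf 151146201651370) (.leaf 168738387695786))))))) (.node (.node (.node (.node (.node (.node (.leaf 0) (.leaf 132527800490088)) (.node (.leaf 151219466705032) (.leaf 131428288730728))) (.node (.node (.leaf 0) (.leaf 132596519966824)) (.node (.leaf 0) (.leaf 166543943563432)))) (.node (.node (.node (.leaf 149978254710442)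 (.leaf 132386068666026)) (.node (.leaf 149024769874022) (.leaf 0))) (.node (.node (.leaf 150046974187178) (.leaf 0)) (.node (.leaf 0) (.leaf 0))))) (.node (.node (.node (.node (.leaf 0) (.leaf 167711906364072)) (.node (.leaf 149020776888456) (.leaf 168811417991848))) (.node (.node (.leaf 0) (.leaf 0)) (.node (.leaf 0) (.leaf 166543675127976)))) (.node (.node (.node (.leaf 0) (.leaf 0)) (.node (.leaf 0) (.leaf 133622750812298))) (.node (.node (.leaf 0) (.leaf 167638891796650)) (.node (.leaf 149093757778022) (.leaf 131501571733606)))))) (.node (.node (.node (.node (.node (.leaf 150120003303560) (.leaf 0)) (.node (.leaf 151219483482248) (.leaf 0))) (.node (.node (.leaf 150051252377736) (.leaf 132596536744040)) (.node (.leaf 151150764005512) (.leaf 0)))) (.node (.node (.node (.leaf 0) (.leaf 0)) (.node (.leaf 0) (.leaf 166616941230214))) (.node (.node (.leaf 0) (.leaf 130402343097926)) (.node (.leaf 186330306476746) (.leaf 131501854725702))))) (.node (.node (.node (.node (.leaf 150120271739016) (.leaf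 132528085694600)) (.node (.leaf 151219215046792) (.leaf 131428573943400))) (.node (.node (.leaf 150188991215752) (.leaf 0)) (.node (.leaf 0) (.leaf 168880120560264)))) (.node (.node (.node (.leaf 0) (.leaf 0)) (.node (.leaf 0) (.leaf 166617241122950))) (.node (.node (.leaf 0) (.leaf 169837900495562)) (.node (.leaf 151146200602794) (.leaf 168738386647210)))))))) (.node (.node (.node (.node (.node (.node (.node (.leaf 150119987509384) (.leaf 0)) (.node (.leaf 0) (.leaf 0))) (.node (.node (.leaf 0) (.leaf 0)) (.node (.leaf 151288218745480) (.leaf 131359570368136)))) (.node (.node (.node (.leaf 150115726227626) (.leaf 132523506505354)) (.node (.leaf 151215204178058) (.leaf 0))) (.node (.node (.leaf 0) (.leaf 132454787028618)) (.node (.leaf 151283923778184) (.leaf 168738672965834))))) (.node (.node (.node (.node (.leaf 0) (.leaf 130329078109800)) (.node (.leaf 186403571464872) (.leaf 131428589737576))) (.node (.node (.leaf 150051536475784) (.leaf 167780624726664)) (.node (.leaf 148952024848008) (.leaf 0))))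 (.node (.node (.node (.leaf 150115424114826) (.leaf 167570173425866)) (.node (.leaf 151214935742602) (.leaf 0))) (.node (.node (.leaf 0) (.leaf 167638892902602)) (.node (.leaf 149093756663910) (.leaf 168738404530378)))))) (.node (.node (.node (.node (.node (.leaf 185303808178856) (.leaf 0)) (.node (.leaf 0) (.leaf 0))) (.node (.node (.leaf 0) (.leaf 0)) (.node (.leaf 0) (.leaf 133696015800424)))) (.node (.node (.node (.leaf 150124265707622) (.leaf 167716451875462)) (.node (.leaf 149024754079846) (.leaf 0))) (.node (.node (.leaf 0) (.leaf 132454803805834)) (.node (.leaf 149094041876582) (.leaf 131355292178058))))) (.node (.node (.node (.node (.leaf 114935898543720) (.leaf 0)) (.node (.leaf 113836386915944) (.leaf 168811402197672))) (.node (.node (.leaf 0) (.leaf 0)) (.node (.leaf 0) (.leaf 168742682720936)))) (.node (.node (.node (.leaf 0) (.leaf 0)) (.node (.leaf 0) (.leaf 131432867927656))) (.node (.node (.leaf 147994261813350) (.leaf 0)) (.node (.leaf 151146201716906) (.leaf 0))))))) (.node (.node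 (.node (.node (.node (.node (.leaf 150119986468968) (.leaf 132527800424552)) (.node (.leaf 0) (.leaf 0))) (.node (.node (.leaf 150051269212328) (.leaf 167643455256744)) (.node (.leaf 0) (.leaf 133696031529064)))) (.node (.node (.node (.leaf 149978254644906) (.leaf 132523505457256)) (.node (.leaf 149024769808486) (.leaf 0))) (.node (.node (.leaf 0) (.leaf 132592224933992)) (.node (.leaf 149093489277030) (.leaf 131355307906698))))) (.node (.node (.node (.node (.leaf 185304092342952) (.leaf 0)) (.node (.leaf 0) (.leaf 0))) (.node (.node (.leaf 0) (.leaf 0)) (.node (.leaf 0) (.leaf 133696299964520)))) (.node (.node (.node (.leaf 0) (.leaf 0)) (.node (.leaf 0) (.leaf 131432852199014))) (.node (.node (.leaf 150046705817770) (.leaf 0)) (.node (.leaf 149093757712486) (.leaf 0)))))) (.node (.node (.node (.node (.node (.leaf 148067543644228) (.leaf 0)) (.node (.leaf 0) (.leaf 0))) (.node (.node (.leaf 0) (.leaf 0)) (.node (.leaf 0) (.leaf 166543960406184)))) (.node (.node (.node (.leaf 150115710498986) (.leaf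 167716452924038)) (.node (.leaf 149024753031270) (.leaf 0))) (.node (.node (.leaf 0) (.leaf 132454802757258)) (.node (.leaf 186330306411210) (.leaf 131355291129482))))) (.node (.node (.node (.node (.leaf 0) (.leaf 132528085760136)) (.node (.leaf 186403587193512) (.leaf 131428574008936))) (.node (.node (.leaf 150050983876744) (.leaf 167643169921160)) (.node (.leaf 148952040576648) (.leaf 0)))) (.node (.node (.node (.leaf 150124533094502) (.leaf 132523790669450)) (.node (.leaf 151214920013962) (.leaf 0))) (.node (.node (.leaf 0) (.leaf 132455071192714)) (.node (.leaf 149093774489702) (.leaf 168738388801738)))))))))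

/-- Part of `shortT`. -/
def shortT9 : Tr :=
  (.node (.node (.node (.node (.node (.node (.node (.node (.leaf 150119987574919) (.leaf 132527801538185)) (.node (.leaf 151219499210889) (.leaf 133627313166473))) (.node (.node (.leaf 0) (.leaf 167780893096583)) (.node (.leaf 0) (.leaf 0)))) (.node (.node (.node (.leaf 150124282542215) (.leaf 167716468586631)) (.node (.leaf 151215204243593) (.leaf 166616956958855))) (.node (.node (.leaf 150046973139081) (.leaf 167785188063367)) (.node (.leaf 0) (.leaf 166685676435591))))) (.node (.node (.node (.node (.leaf 150119719147657) (.leaf 0)) (.node (.leaf 151219230775433) (.leaf 0))) (.node (.node (.leaf 150050999670921) (.leaf 0)) (.node (.leaf 149098051696741) (.leaf 168742665885865)))) (.node (.node (.node (.leaf 150115424180361) (.leaf 132523238135945)) (.node (.leaf 0) (.leaf 0))) (.node (.node (.leaf 150046704703625) (.leaf 132454518659209)) (.node (.leaf 0) (.leaf 131501604239463)))))) (.node (.node (.node (.node (.node (.leaf 0) (.leaf 0)) (.node (.leaf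 151219482433673) (.leaf 0))) (.node (.node (.leaf 150051251329159) (.leaf 0)) (.node (.leaf 149098336909413) (.leaf 131359587210889)))) (.node (.node (.node (.leaf 150115709393033) (.leaf 0)) (.node (.leaf 149024787691655) (.leaf 133623001421961))) (.node (.node (.leaf 0) (.leaf 0)) (.node (.leaf 151145933215915) (.leaf 0))))) (.node (.node (.node (.node (.leaf 0) (.leaf 0)) (.node (.leaf 151219213998217) (.leaf 0))) (.node (.node (.leaf 147998556846181) (.leaf 0)) (.node (.leaf 151141906684075) (.leaf 168742682663081)))) (.node (.node (.node (.leaf 0) (.leaf 167570156591273)) (.node (.leaf 0) (.leaf 0))) (.node (.node (.leaf 152245713279147) (.leaf 167638876068009)) (.node (.leaf 0) (.leaf 131501587462247))))))) (.node (.node (.node (.node (.node (.node (.leaf 150257425480295) (.leaf 132527800490087)) (.node (.leaf 0) (.leaf 168811686295721))) (.node (.node (.leaf 0) (.leaf 132596519966823)) (.node (.leaf 0) (.leaf 0)))) (.node (.node (.node (.leaf 0) (.leaf 132532095457383)) (.node (.leaf 0) (.leaf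 0))) (.node (.node (.leaf 150046974179497) (.leaf 167639160223913)) (.node (.leaf 0) (.leaf 133554299770539))))) (.node (.node (.node (.node (.leaf 150120254961799) (.leaf 167711906232489)) (.node (.leaf 0) (.leaf 168811417991849))) (.node (.node (.leaf 0) (.leaf 167643186755753)) (.node (.leaf 151141922412715) (.leaf 0)))) (.node (.node (.node (.leaf 150115425228937) (.leaf 0)) (.node (.leaf 149025038177895) (.leaf 168807123024553))) (.node (.node (.leaf 0) (.leaf 0)) (.node (.leaf 151146217380011) (.leaf 0)))))) (.node (.node (.node (.node (.node (.leaf 0) (.leaf 0)) (.node (.leaf 151219483482249) (.leaf 0))) (.node (.node (.leaf 150051252377735) (.leaf 0)) (.node (.leaf 186334601444041) (.leaf 168880388995719)))) (.node (.node (.node (.leaf 150115708344457) (.leaf 0)) (.node (.leaf 151215188514953) (.leaf 133623002470537))) (.node (.node (.leaf 0) (.leaf 0)) (.node (.leaf 186330306476745) (.leaf 0))))) (.node (.node (.node (.node (.leaf 150120271739015) (.leaf 167711889455751)) (.node (.leaf 151219215046793)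 (.leaf 133627029002377))) (.node (.node (.leaf 0) (.leaf 167780608932487)) (.node (.leaf 0) (.leaf 0)))) (.node (.node (.node (.leaf 150115408451721) (.leaf 0)) (.node (.leaf 149025055078535) (.leaf 133622734035081))) (.node (.node (.leaf 0) (.leaf 0)) (.node (.leaf 186330574912201) (.leaf 0)))))))) (.node (.node (.node (.node (.node (.node (.node (.leaf 150119987640967) (.leaf 167712173685383)) (.node (.leaf 0) (.leaf 166612661926023))) (.node (.node (.leaf 150188707117703) (.leaf 132459081995913)) (.node (.leaf 151288218745479) (.leaf 168880404789895)))) (.node (.node (.node (.leaf 150115692550281) (.leaf 0)) (.node (.leaf 149024770979975) (.leaf 166616956893319))) (.node (.node (.leaf 150046973073545) (.leaf 132454787028617)) (.node (.leaf 0) (.leaf 168884699757191))))) (.node (.node (.node (.node (.leaf 0) (.leaf 0)) (.node (.leaf 113836403693161) (.leaf 0))) (.node (.node (.leaf 0) (.leaf 167780624726663)) (.node (.leaf 0) (.leaf 0)))) (.node (.node (.node (.leaf 150115424114825) (.leaf 0)) (.node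 (.leaf 186407866432167) (.leaf 131432851150439))) (.node (.node (.leaf 150046704638089) (.leaf 167784919693959)) (.node (.leaf 0) (.leaf 131501570627653)))))) (.node (.node (.node (.node (.node (.leaf 150119970740327) (.leaf 132527784695911)) (.node (.leaf 0) (.leaf 131428841395815))) (.node (.node (.leaf 150188690217063) (.leaf 0)) (.node (.leaf 148951773189769) (.leaf 131359587145353)))) (.node (.node (.node (.leaf 150124265707623) (.leaf 0)) (.node (.leaf 149024787757191) (.leaf 131433136363111))) (.node (.node (.leaf 150046989973673) (.leaf 132592240662633)) (.node (.leaf 0) (.leaf 168884682979975))))) (.node (.node (.node (.node (.leaf 185304076614311) (.leaf 169910913825449)) (.node (.leaf 0) (.leaf 168811402197673))) (.node (.node (.leaf 185235357137575) (.leaf 0)) (.node (.leaf 149089478473831) (.leaf 131497292429415)))) (.node (.node (.node (.leaf 0) (.leaf 130333356299879)) (.node (.leaf 0) (.leaf 168807107230377))) (.node (.node (.leaf 0) (.leaf 0)) (.node (.leaf 149093773441127) (.leaf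 0))))))) (.node (.node (.node (.node (.node (.node (.leaf 150119986468967) (.leaf 132527800424551)) (.node (.leaf 151219500316841) (.leaf 168811686361257))) (.node (.node (.leaf 150188705945703) (.leaf 0)) (.node (.leaf 149089194317927) (.leaf 133696031529065)))) (.node (.node (.node (.leaf 150124281436263) (.leaf 0)) (.node (.leaf 149024769808487) (.leaf 168807391394473))) (.node (.node (.leaf 150046974245033) (.leaf 132592224933993)) (.node (.leaf 0) (.leaf 166548238596263))))) (.node (.node (.node (.node (.leaf 150120254904423) (.leaf 132528068860007)) (.node (.leaf 0) (.leaf 168811417926313))) (.node (.node (.leaf 150188974381159) (.leaf 0)) (.node (.leaf 151141922478251) (.leaf 166690238724197)))) (.node (.node (.node (.leaf 0) (.leaf 167707611331241)) (.node (.leaf 0) (.leaf 131432852199015))) (.node (.node (.leaf 0) (.leaf 0)) (.node (.leaf 149093757712485) (.leaf 0)))))) (.node (.node (.node (.node (.node (.leaf 150120005466281) (.leaf 132527783647335)) (.node (.leaf 0) (.leaf 168665105930443)))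 (.node (.node (.leaf 150051285989545) (.leaf 0)) (.node (.leaf 151288203016839) (.leaf 168880389061255)))) (.node (.node (.node (.leaf 150124264659047) (.leaf 0)) (.node (.leaf 151215188449417) (.leaf 131570574260293))) (.node (.node (.leaf 150192984135783) (.leaf 132592241711209)) (.node (.leaf 0) (.leaf 168884684028551))))) (.node (.node (.node (.node (.leaf 0) (.leaf 0)) (.node (.leaf 151219214981257) (.leaf 0))) (.node (.node (.leaf 0) (.leaf 167780608998023)) (.node (.leaf 0) (.leaf 0)))) (.node (.node (.node (.leaf 150115408386185) (.leaf 0)) (.node (.leaf 149025055144071) (.leaf 131432868976231))) (.node (.node (.leaf 150046688909449) (.leaf 132455071192713)) (.node (.leaf 0) (.leaf 168884415593095)))))))))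

/-- Part of `shortT`. -/
def shortT10 : Tr :=
  (.node (.node (.node (.node (.node (.node (.node (.node (.leaf 150119987583096) (.leaf 167712173619352)) (.node (.leaf 0) (.leaf 133627313166456))) (.node (.node (.leaf 150188707059832) (.leaf 0)) (.node (.leaf 0) (.leaf 0)))) (.node (.node (.node (.leaf 0) (.leaf 167716468586648)) (.node (.leaf 149024770914422) (.leaf 131433119520342))) (.node (.node (.leaf 112810172782134) (.leaf 132454787094170)) (.node (.leaf 151146484766874) (.leaf 0))))) (.node (.node (.node (.node (.leaf 150119719147640) (.leaf 167712442054808)) (.node (.leaf 149020207519864) (.leaf 0))) (.node (.node (.leaf 0) (.leaf 167643154258072)) (.node (.leaf 149089495316600) (.leaf 131497309272184)))) (.node (.node (.node (.leaf 0) (.leaf 169906635700922)) (.node (.leaf 149025039349878) (.leaf 131432851084886))) (.node (.node (.leaf 150046704703642) (.leaf 167638892837050)) (.node (.leaf 149093758826614) (.leaf 0)))))) (.node (.node (.node (.node (.node (.leaf 150120004352152) (.leaf 167712190396568))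 (.node (.leaf 151219482433656) (.leaf 133627296389240))) (.node (.node (.leaf 0) (.leaf 132459098838682)) (.node (.leaf 148951773247640) (.leaf 133696015865976)))) (.node (.node (.node (.leaf 150124265773174) (.leaf 0)) (.node (.leaf 0) (.leaf 0))) (.node (.node (.leaf 0) (.leaf 167785171286646)) (.node (.leaf 0) (.leaf 131355292243610))))) (.node (.node (.node (.node (.leaf 150120272787608) (.leaf 132527516326008)) (.node (.leaf 113836386850392) (.leaf 0))) (.node (.node (.leaf 0) (.leaf 167643171035288)) (.node (.leaf 186334868830904) (.leaf 131497292371544)))) (.node (.node (.node (.leaf 0) (.leaf 130333356234326)) (.node (.leaf 151214921128090) (.leaf 168669668219066))) (.node (.node (.leaf 150046721480858) (.leaf 132455072306842)) (.node (.leaf 151146201651354) (.leaf 0))))))) (.node (.node (.node (.node (.node (.node (.leaf 150119986534520) (.leaf 167712174667928)) (.node (.leaf 0) (.leaf 166612663040152))) (.node (.node (.leaf 150188706011256) (.leaf 0)) (.node (.leaf 0) (.leaf 0)))) (.node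 (.node (.node (.leaf 0) (.leaf 132523505522808)) (.node (.leaf 151215205292186) (.leaf 168669384054970))) (.node (.node (.leaf 150046437316762) (.leaf 132454788142746)) (.node (.leaf 151146485815450) (.leaf 0))))) (.node (.node (.node (.node (.leaf 0) (.leaf 0)) (.node (.leaf 0) (.leaf 166612394604696))) (.node (.node (.leaf 150042410784922) (.leaf 0)) (.node (.leaf 0) (.leaf 0)))) (.node (.node (.node (.leaf 150115425228954) (.leaf 0)) (.node (.leaf 151214936856730) (.leaf 0))) (.node (.node (.leaf 150193269405814) (.leaf 0)) (.node (.leaf 151146217379994) (.leaf 133554031335578)))))) (.node (.node (.node (.node (.node (.leaf 150119971846296) (.leaf 167712157890712)) (.node (.leaf 149020491683960) (.leaf 0))) (.node (.node (.leaf 0) (.leaf 167643438422168)) (.node (.leaf 149089211152504) (.leaf 168742950049944)))) (.node (.node (.node (.leaf 147925275015286) (.leaf 0)) (.node (.leaf 0) (.leaf 0))) (.node (.node (.leaf 0) (.leaf 0)) (.node (.leaf 0) (.leaf 166548221753494))))) (.node (.node (.node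 (.node (.leaf 0) (.leaf 0)) (.node (.leaf 0) (.leaf 168811401083544))) (.node (.node (.leaf 150050983942296) (.leaf 132596805171320)) (.node (.leaf 0) (.leaf 0)))) (.node (.node (.node (.leaf 147925543450742) (.leaf 0)) (.node (.leaf 149025055078518) (.leaf 0))) (.node (.node (.leaf 0) (.leaf 0)) (.node (.leaf 149093774555254) (.leaf 133554014558362)))))))) (.node (.node (.node (.node (.node (.node (.node (.leaf 150119987517560) (.leaf 0)) (.node (.leaf 0) (.leaf 131428289844856))) (.node (.node (.leaf 0) (.leaf 167643456305336)) (.node (.leaf 149098320066644) (.leaf 131359570368120)))) (.node (.node (.node (.leaf 150124282607768) (.leaf 0)) (.node (.leaf 0) (.leaf 0))) (.node (.node (.leaf 150046973073050) (.leaf 132454787028634)) (.node (.leaf 151146486921402) (.leaf 0))))) (.node (.node (.node (.node (.leaf 150119719082104) (.leaf 167711905249944)) (.node (.leaf 149020207454328) (.leaf 0))) (.node (.node (.leaf 147998540003412) (.leaf 0)) (.node (.leaf 0) (.leaf 0)))) (.node (.node (.node (.leaf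 114931620353658) (.leaf 0)) (.node (.leaf 0) (.leaf 0))) (.node (.node (.leaf 150193268299862) (.leaf 167638892902586)) (.node (.leaf 149093756672086) (.leaf 0)))))) (.node (.node (.node (.node (.node (.leaf 150119970740344) (.leaf 0)) (.node (.leaf 149020492789912) (.leaf 133627296323704))) (.node (.node (.leaf 0) (.leaf 132596535629912)) (.node (.leaf 148951773313176) (.leaf 131497024002136)))) (.node (.node (.node (.leaf 150124299384984) (.leaf 0)) (.node (.leaf 0) (.leaf 0))) (.node (.node (.leaf 150046989850266) (.leaf 132454803805850)) (.node (.leaf 148947478222490) (.leaf 0))))) (.node (.node (.node (.node (.leaf 150119702304888) (.leaf 0)) (.node (.leaf 0) (.leaf 168811402197656))) (.node (.node (.leaf 0) (.leaf 132596804065368)) (.node (.leaf 186334868765368) (.leaf 131359853483640)))) (.node (.node (.node (.leaf 0) (.leaf 130333356299862)) (.node (.leaf 149162492917846) (.leaf 168669668284602))) (.node (.node (.leaf 0) (.leaf 0)) (.node (.leaf 0) (.leaf 131501587396694))))))) (.node (.node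 (.node (.node (.node (.node (.leaf 150119988689048) (.leaf 0)) (.node (.leaf 0) (.leaf 168811686361752))) (.node (.node (.leaf 0) (.leaf 132596519901272)) (.node (.leaf 113905390556760) (.leaf 131359569319544)))) (.node (.node (.node (.leaf 150124283656344) (.leaf 0)) (.node (.leaf 0) (.leaf 0))) (.node (.node (.leaf 150046974121626) (.leaf 132454788077210)) (.node (.leaf 149093489285206) (.leaf 0))))) (.node (.node (.node (.node (.leaf 0) (.leaf 167711906298520)) (.node (.leaf 0) (.leaf 168811417926296))) (.node (.node (.leaf 0) (.leaf 167780625775256)) (.node (.leaf 186334853036728) (.leaf 168880137403032)))) (.node (.node (.node (.leaf 0) (.leaf 167707611331224)) (.node (.leaf 149025038235766) (.leaf 166617224280182))) (.node (.node (.leaf 0) (.leaf 0)) (.node (.leaf 0) (.leaf 166685943756918)))))) (.node (.node (.node (.node (.node (.leaf 0) (.leaf 0)) (.node (.leaf 0) (.leaf 168811669584536))) (.node (.node (.leaf 0) (.leaf 130260074468984)) (.node (.leaf 149089211086968) (.leaf 131359586096760))))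 (.node (.node (.node (.leaf 114931336189562) (.leaf 0)) (.node (.leaf 0) (.leaf 0))) (.node (.node (.leaf 150046991022266) (.leaf 167639177066682)) (.node (.leaf 151146502650042) (.leaf 0))))) (.node (.node (.node (.node (.leaf 150119703353464) (.leaf 167711889521304)) (.node (.leaf 149020760053368) (.leaf 168811401149080))) (.node (.node (.leaf 150188991150200) (.leaf 0)) (.node (.leaf 0) (.leaf 131359854532216)))) (.node (.node (.node (.leaf 114931604625018) (.leaf 0)) (.node (.leaf 0) (.leaf 0))) (.node (.node (.leaf 150193252571222) (.leaf 132601066526806)) (.node (.leaf 151146200537242) (.leaf 0)))))))))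

/-- Part of `shortT`. -/
def shortT11 : Tr :=
  (.node (.node (.node (.node (.node (.node (.node (.node (.leaf 150119987583095) (.leaf 0)) (.node (.leaf 149020475955319) (.leaf 133627313166457))) (.node (.node (.leaf 150188707052151) (.leaf 167780893096567)) (.node (.leaf 0) (.leaf 166543942514839)))) (.node (.node (.node (.leaf 150124282550391) (.leaf 167716468586647)) (.node (.leaf 0) (.leaf 166616956958871))) (.node (.node (.leaf 150046973139097) (.leaf 0)) (.node (.leaf 149093490391159) (.leaf 166548237482135))))) (.node (.node (.node (.node (.leaf 0) (.leaf 167712442054807)) (.node (.leaf 0) (.leaf 0))) (.node (.node (.leaf 0) (.leaf 0)) (.node (.leaf 151150479841433) (.leaf 0)))) (.node (.node (.node (.leaf 149977987323579) (.leaf 132523238135929)) (.node (.leaf 0) (.leaf 131432851084887))) (.node (.node (.leaf 150046704703641) (.leaf 0)) (.node (.leaf 151146184874137) (.leaf 168738404596409)))))) (.node (.node (.node (.node (.node (.leaf 150119970805879) (.leaf 167712190396569)) (.node (.leaf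 0) (.leaf 0))) (.node (.node (.leaf 0) (.leaf 0)) (.node (.leaf 151288201902711) (.leaf 0)))) (.node (.node (.node (.leaf 150124265773175) (.leaf 0)) (.node (.leaf 151223777400951) (.leaf 0))) (.node (.node (.leaf 0) (.leaf 167785171286645)) (.node (.leaf 0) (.leaf 0))))) (.node (.node (.node (.node (.leaf 0) (.leaf 169910913891001)) (.node (.leaf 0) (.leaf 0))) (.node (.node (.leaf 0) (.leaf 0)) (.node (.leaf 151150496618649) (.leaf 0)))) (.node (.node (.node (.leaf 150115977820313) (.leaf 169906618923705)) (.node (.leaf 0) (.leaf 168807107295929))) (.node (.node (.leaf 150193285134455) (.leaf 0)) (.node (.leaf 149093773506679) (.leaf 168738387819193))))))) (.node (.node (.node (.node (.node (.node (.leaf 150119988623513) (.leaf 0)) (.node (.leaf 149020474906743) (.leaf 133627312117881))) (.node (.node (.leaf 150051269154457) (.leaf 132459083110041)) (.node (.leaf 0) (.leaf 166543943563415)))) (.node (.node (.node (.leaf 150115693656217) (.leaf 132523505522809)) (.node (.leaf 0) (.leaf 133623017150585)))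 (.node (.node (.leaf 150193000970359) (.leaf 0)) (.node (.leaf 149093489342583) (.leaf 133691736627321))))) (.node (.node (.node (.node (.leaf 150120254969975) (.leaf 0)) (.node (.leaf 149029333268597) (.leaf 166621519313013))) (.node (.node (.leaf 150051000719513) (.leaf 132596788394103)) (.node (.leaf 0) (.leaf 166690238789749)))) (.node (.node (.node (.leaf 0) (.leaf 0)) (.node (.leaf 151214936856731) (.leaf 0))) (.node (.node (.leaf 150193269405815) (.leaf 167638891796633)) (.node (.leaf 0) (.leaf 0)))))) (.node (.node (.node (.node (.node (.leaf 0) (.leaf 132527817267321)) (.node (.leaf 0) (.leaf 0))) (.node (.node (.leaf 0) (.leaf 0)) (.node (.leaf 151150764005529) (.leaf 0)))) (.node (.node (.node (.leaf 0) (.leaf 132523522300025)) (.node (.leaf 151215188514969) (.leaf 0))) (.node (.node (.leaf 0) (.leaf 132592241776761)) (.node (.leaf 151146469038233) (.leaf 0))))) (.node (.node (.node (.node (.leaf 114935899657849) (.leaf 0)) (.node (.leaf 151219215046809) (.leaf 168811401091225))) (.node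 (.node (.leaf 150050983942297) (.leaf 167643169986713)) (.node (.leaf 151150495570073) (.leaf 168742681614489)))) (.node (.node (.node (.leaf 0) (.leaf 0)) (.node (.leaf 151214920079513) (.leaf 0))) (.node (.node (.leaf 150046688975001) (.leaf 132601100138615)) (.node (.leaf 149093774555255) (.leaf 0)))))))) (.node (.node (.node (.node (.node (.node (.node (.leaf 0) (.leaf 167712173685399)) (.node (.leaf 0) (.leaf 0))) (.node (.node (.leaf 150051268040345) (.leaf 167643456305337)) (.node (.leaf 0) (.leaf 131497007224919)))) (.node (.node (.node (.leaf 150115692550265) (.leaf 132523506505849)) (.node (.leaf 0) (.leaf 133623018133625))) (.node (.node (.leaf 0) (.leaf 167639161338041)) (.node (.leaf 0) (.leaf 0))))) (.node (.node (.node (.node (.leaf 150119719082105) (.leaf 0)) (.node (.leaf 151073204050107) (.leaf 168811385420439))) (.node (.node (.leaf 0) (.leaf 167643187869881)) (.node (.leaf 149098051631189) (.leaf 0)))) (.node (.node (.node (.leaf 150124551043223) (.leaf 132523238070393)) (.node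 (.leaf 0) (.leaf 168815680387735))) (.node (.node (.leaf 0) (.leaf 167638892902585)) (.node (.leaf 0) (.leaf 0)))))) (.node (.node (.node (.node (.node (.leaf 150120004417689) (.leaf 167712156784759)) (.node (.leaf 0) (.leaf 0))) (.node (.node (.leaf 150188723894425) (.leaf 132450508838555)) (.node (.leaf 0) (.leaf 131497024002135)))) (.node (.node (.node (.leaf 150124265707639) (.leaf 167716451752055)) (.node (.leaf 0) (.leaf 133623001356409))) (.node (.node (.leaf 0) (.leaf 132454803805851)) (.node (.leaf 0) (.leaf 0))))) (.node (.node (.node (.node (.leaf 0) (.leaf 167711890569879)) (.node (.leaf 0) (.leaf 0))) (.node (.node (.leaf 147998556780629) (.leaf 132596804065367)) (.node (.leaf 0) (.leaf 168742682720441)))) (.node (.node (.node (.leaf 0) (.leaf 0)) (.node (.leaf 113840681883223) (.leaf 0))) (.node (.node (.leaf 147994261813333) (.leaf 0)) (.node (.leaf 113909401359959) (.leaf 168738387753657))))))) (.node (.node (.node (.node (.node (.node (.leaf 0) (.leaf 132527800424057)) (.node (.leaf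 0) (.leaf 0))) (.node (.node (.leaf 150051269088921) (.leaf 132596519901271)) (.node (.leaf 0) (.leaf 168742966884537)))) (.node (.node (.node (.leaf 150124283656343) (.leaf 132523505457273)) (.node (.leaf 0) (.leaf 133623017085049))) (.node (.node (.leaf 0) (.leaf 167639160289465)) (.node (.leaf 0) (.leaf 0))))) (.node (.node (.node (.node (.leaf 0) (.leaf 167711906298519)) (.node (.leaf 0) (.leaf 0))) (.node (.node (.leaf 150188974372983) (.leaf 132596788336727)) (.node (.leaf 0) (.leaf 168880137403033)))) (.node (.node (.node (.leaf 0) (.leaf 0)) (.node (.leaf 149025038243447) (.leaf 0))) (.node (.node (.leaf 150046705817753) (.leaf 0)) (.node (.leaf 148956318766711) (.leaf 131364132722295)))))) (.node (.node (.node (.node (.node (.leaf 0) (.leaf 132527817201273)) (.node (.leaf 0) (.leaf 131428305573497))) (.node (.node (.leaf 150051252311705) (.leaf 167643472033977)) (.node (.leaf 0) (.leaf 168880389061271)))) (.node (.node (.node (.leaf 150115708278905) (.leaf 132523522234489)) (.node (.leaf 0)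 (.leaf 168815964551831))) (.node (.node (.leaf 0) (.leaf 167639177066681)) (.node (.leaf 0) (.leaf 0))))) (.node (.node (.node (.node (.leaf 114935899592313) (.leaf 167711889521303)) (.node (.leaf 149020760045687) (.leaf 168811401149079))) (.node (.node (.leaf 0) (.leaf 0)) (.node (.leaf 149089479522423) (.leaf 0)))) (.node (.node (.node (.leaf 185308370533015) (.leaf 167716184488599)) (.node (.leaf 0) (.leaf 168815696116375))) (.node (.node (.leaf 0) (.leaf 132601100204151)) (.node (.leaf 0) (.leaf 0)))))))))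

/-- Part of `shortT`. -/
def shortT12 : Tr :=
  (.node (.node (.node (.node (.node (.node (.node (.node (.leaf 150119987582856) (.leaf 132527801538440)) (.node (.leaf 149020475955080) (.leaf 166612661991814))) (.node (.node (.leaf 150188707051912) (.leaf 132459082061704)) (.node (.leaf 148951756478344) (.leaf 131359570433928)))) (.node (.node (.node (.leaf 150115692607880) (.leaf 167716468586886)) (.node (.leaf 184209143003526) (.leaf 166616956959110))) (.node (.node (.leaf 150055563073416) (.leaf 0)) (.node (.leaf 0) (.leaf 0))))) (.node (.node (.node (.node (.leaf 150120256018312) (.leaf 0)) (.node (.leaf 0) (.leaf 0))) (.node (.node (.leaf 150051536541576) (.leaf 132459350497160)) (.node (.leaf 151288487115144) (.leaf 0)))) (.node (.node (.node (.leaf 149977987323818) (.leaf 132523238135690)) (.node (.leaf 151214935808394) (.leaf 0))) (.node (.node (.leaf 150046706800554) (.leaf 0)) (.node (.leaf 0) (.leaf 131501570561862)))))) (.node (.node (.node (.node (.node (.leaf 150120004352392) (.leaf 0))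 (.node (.leaf 0) (.leaf 0))) (.node (.node (.leaf 150188723829128) (.leaf 132459065284488)) (.node (.leaf 148951773255560) (.leaf 0)))) (.node (.node (.node (.leaf 0) (.leaf 167716451809670)) (.node (.leaf 0) (.leaf 166616940181894))) (.node (.node (.leaf 0) (.leaf 132454803871626)) (.node (.leaf 151146470086570) (.leaf 168738119260586))))) (.node (.node (.node (.node (.leaf 114935898609512) (.leaf 0)) (.node (.leaf 0) (.leaf 0))) (.node (.node (.leaf 185235357071784) (.leaf 167643171027368)) (.node (.leaf 151150496618410) (.leaf 0)))) (.node (.node (.node (.leaf 149977970546602) (.leaf 132523254912906)) (.node (.leaf 149162492983654) (.leaf 0))) (.node (.node (.leaf 150046690023338) (.leaf 0)) (.node (.leaf 151146201651114) (.leaf 0))))))) (.node (.node (.node (.node (.node (.node (.leaf 0) (.leaf 132527800358760)) (.node (.leaf 149020474775400) (.leaf 168811686427048))) (.node (.node (.leaf 0) (.leaf 0)) (.node (.leaf 0) (.leaf 166543943563176)))) (.node (.node (.node (.leaf 149978254710698) (.leaf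 167716436081030)) (.node (.leaf 149162208819558) (.leaf 0))) (.node (.node (.leaf 150046974187434) (.leaf 0)) (.node (.leaf 151146485815210) (.leaf 0))))) (.node (.node (.node (.node (.leaf 0) (.leaf 132528068794216)) (.node (.leaf 151219198269832) (.leaf 168811384314248))) (.node (.node (.leaf 0) (.leaf 0)) (.node (.leaf 0) (.leaf 166690238789988)))) (.node (.node (.node (.leaf 150261988882790) (.leaf 0)) (.node (.leaf 0) (.leaf 131432852264806))) (.node (.node (.leaf 150046705751978) (.leaf 132601083361638)) (.node (.leaf 149093757778278) (.leaf 168738405644746)))))) (.node (.node (.node (.node (.node (.leaf 150119971854216) (.leaf 0)) (.node (.leaf 0) (.leaf 0))) (.node (.node (.leaf 150051252377480) (.leaf 167780908824968)) (.node (.leaf 151288202951048) (.leaf 0)))) (.node (.node (.node (.leaf 0) (.leaf 167716452858246)) (.node (.leaf 0) (.leaf 166616941230470))) (.node (.node (.leaf 0) (.leaf 132454802823050)) (.node (.leaf 151146469037994) (.leaf 131501854725958))))) (.node (.node (.node (.node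 (.leaf 0) (.leaf 132528085694344)) (.node (.leaf 151219215047048) (.leaf 168811401091464))) (.node (.node (.leaf 0) (.leaf 0)) (.node (.leaf 0) (.leaf 133549753145260)))) (.node (.node (.node (.leaf 0) (.leaf 0)) (.node (.leaf 0) (.leaf 166616672795014))) (.node (.node (.leaf 0) (.leaf 130402074662726)) (.node (.leaf 151146200602538) (.leaf 131501586290502)))))))) (.node (.node (.node (.node (.node (.node (.node (.leaf 150119987517320) (.leaf 0)) (.node (.leaf 0) (.leaf 0))) (.node (.node (.leaf 150188707117448) (.leaf 0)) (.node (.leaf 148951756412808) (.leaf 166543942457224)))) (.node (.node (.node (.leaf 150124282608006) (.leaf 167716468652422)) (.node (.leaf 149024770980230) (.leaf 166616957024646))) (.node (.node (.leaf 0) (.leaf 167785188129158)) (.node (.leaf 151292513712520) (.leaf 166685676501382))))) (.node (.node (.node (.node (.leaf 0) (.leaf 132528067811176)) (.node (.leaf 149166771108164) (.leaf 131428589737832))) (.node (.node (.leaf 150051536476040) (.leaf 132596787287912)) (.node (.leaf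 148951487977352) (.leaf 0)))) (.node (.node (.node (.leaf 150124551043462) (.leaf 132523238070154)) (.node (.leaf 149025037195110) (.leaf 0))) (.node (.node (.leaf 0) (.leaf 132454518593418)) (.node (.leaf 186330590575050) (.leaf 131501570627398)))))) (.node (.node (.node (.node (.node (.leaf 150120004417928) (.leaf 0)) (.node (.leaf 0) (.leaf 131428304525160))) (.node (.node (.leaf 150188723894664) (.leaf 0)) (.node (.leaf 0) (.leaf 168742951156136)))) (.node (.node (.node (.leaf 150115709327242) (.leaf 132523523282826)) (.node (.leaf 149024754079590) (.leaf 0))) (.node (.node (.leaf 0) (.leaf 132454803806090)) (.node (.leaf 149094041876326) (.leaf 168738119326122))))) (.node (.node (.node (.node (.leaf 185304076614056) (.leaf 132528084588392)) (.node (.leaf 0) (.leaf 131428572960616))) (.node (.node (.leaf 0) (.leaf 132596804065128)) (.node (.leaf 0) (.leaf 131497292437352)))) (.node (.node (.node (.leaf 0) (.leaf 0)) (.node (.leaf 0) (.leaf 168815697164712))) (.node (.node (.leaf 152245713344938)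 (.leaf 0)) (.node (.leaf 0) (.leaf 0))))))) (.node (.node (.node (.node (.node (.node (.leaf 114935614379880) (.leaf 167712174733736)) (.node (.leaf 0) (.leaf 131428288796520))) (.node (.node (.leaf 0) (.leaf 167643455257000)) (.node (.leaf 0) (.leaf 131497008273256)))) (.node (.node (.node (.leaf 147925258180454) (.leaf 132532095391592)) (.node (.leaf 149024769808230) (.leaf 0))) (.node (.node (.leaf 0) (.leaf 167639160289704)) (.node (.leaf 149093489277286) (.leaf 166685675321702))))) (.node (.node (.node (.node (.leaf 114935882815336) (.leaf 132528068859752)) (.node (.leaf 0) (.leaf 0))) (.node (.node (.leaf 0) (.leaf 167643186821544)) (.node (.leaf 0) (.leaf 166543675193768)))) (.node (.node (.node (.leaf 0) (.leaf 0)) (.node (.leaf 149025038243686) (.leaf 131432852199270))) (.node (.node (.leaf 150193269340518) (.leaf 0)) (.node (.leaf 0) (.leaf 0)))))) (.node (.node (.node (.node (.node (.leaf 150119971788680) (.leaf 0)) (.node (.leaf 0) (.leaf 131428305573736))) (.node (.node (.leaf 150188722846088)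 (.leaf 0)) (.node (.leaf 0) (.leaf 131497025050472)))) (.node (.node (.node (.leaf 150124266879366) (.leaf 167716452923782)) (.node (.leaf 151215222127018) (.leaf 0))) (.node (.node (.leaf 0) (.leaf 132454802757514)) (.node (.leaf 113909668747078) (.leaf 131501854791494))))) (.node (.node (.node (.node (.leaf 0) (.leaf 167711889521064)) (.node (.leaf 149020760045448) (.leaf 168811401148840))) (.node (.node (.leaf 150050983876488) (.leaf 167643170044328)) (.node (.leaf 148951472248712) (.leaf 0)))) (.node (.node (.node (.leaf 150124533094246) (.leaf 167707628108202)) (.node (.leaf 149025021466470) (.leaf 0))) (.node (.node (.leaf 0) (.leaf 130402074728262)) (.node (.leaf 186330574846410) (.leaf 131501586356038)))))))))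

/-- Part of `shortT`. -/
def shortT13 : Tr :=
  (.node (.node (.node (.node (.node (.node (.node (.node (.leaf 150119987582857) (.leaf 132527801538441)) (.node (.leaf 149020475947399) (.leaf 133627313166217))) (.node (.node (.leaf 150188707051911) (.leaf 167780893096327)) (.node (.leaf 148951756478343) (.leaf 166681381468551)))) (.node (.node (.node (.leaf 150115692615561) (.leaf 132523506571145)) (.node (.leaf 151215204243849) (.leaf 166616956959111))) (.node (.node (.leaf 0) (.leaf 167785188063623)) (.node (.leaf 148956051445639) (.leaf 0))))) (.node (.node (.node (.node (.leaf 150120256010631) (.leaf 132527533102985)) (.node (.leaf 0) (.leaf 166612393556359))) (.node (.node (.leaf 0) (.leaf 132458813626249)) (.node (.leaf 0) (.leaf 0)))) (.node (.node (.node (.leaf 150115424180617) (.leaf 0)) (.node (.leaf 149025039349639) (.leaf 166616688523655))) (.node (.node (.leaf 0) (.leaf 0)) (.node (.leaf 151146218428331) (.leaf 0)))))) (.node (.node (.node (.node (.node (.leaf 150119970797959) (.leaf 132527818315657))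 (.node (.leaf 0) (.leaf 166612678769031))) (.node (.node (.leaf 0) (.leaf 132459098838921)) (.node (.leaf 0) (.leaf 0)))) (.node (.node (.node (.leaf 0) (.leaf 167716451809671)) (.node (.leaf 0) (.leaf 0))) (.node (.node (.leaf 150055546296199) (.leaf 167785171286407)) (.node (.leaf 0) (.leaf 168884682914183))))) (.node (.node (.node (.node (.leaf 149982265513897) (.leaf 132665523599719)) (.node (.leaf 0) (.leaf 168811402131881))) (.node (.node (.leaf 0) (.leaf 167643171035049)) (.node (.leaf 0) (.leaf 0)))) (.node (.node (.node (.leaf 149977970546601) (.leaf 0)) (.node (.leaf 149025056126855) (.leaf 131432867993447))) (.node (.node (.leaf 0) (.leaf 0)) (.node (.leaf 151146201651115) (.leaf 0))))))) (.node (.node (.node (.node (.node (.node (.leaf 0) (.leaf 0)) (.node (.leaf 149020474775399) (.leaf 0))) (.node (.node (.leaf 150188706011495) (.leaf 0)) (.node (.leaf 151142190847915) (.leaf 133550004803499)))) (.node (.node (.node (.leaf 149978254710697) (.leaf 0)) (.node (.leaf 151215205415337) (.leaf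 131432583829351))) (.node (.node (.leaf 0) (.leaf 0)) (.node (.leaf 149093489342821) (.leaf 0))))) (.node (.node (.node (.node (.leaf 0) (.leaf 0)) (.node (.leaf 149020743210855) (.leaf 0))) (.node (.node (.leaf 150042410784683) (.leaf 0)) (.node (.leaf 149098052745573) (.leaf 133549736368043)))) (.node (.node (.node (.leaf 0) (.leaf 167707611265449)) (.node (.leaf 0) (.leaf 0))) (.node (.node (.leaf 150193269406053) (.leaf 167638891788713)) (.node (.leaf 151146217379755) (.leaf 133554031335339)))))) (.node (.node (.node (.node (.node (.leaf 150119971846535) (.leaf 167712157890951)) (.node (.leaf 0) (.leaf 166612677720455))) (.node (.node (.leaf 0) (.leaf 167780877367687)) (.node (.leaf 0) (.leaf 0)))) (.node (.node (.node (.leaf 0) (.leaf 167716452858247)) (.node (.leaf 0) (.leaf 0))) (.node (.node (.leaf 150055547344775) (.leaf 167785172334983)) (.node (.leaf 0) (.leaf 131355291195273))))) (.node (.node (.node (.node (.leaf 0) (.leaf 0)) (.node (.leaf 151219215047049) (.leaf 0))) (.node (.node (.leaf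 150042427561899) (.leaf 0)) (.node (.leaf 113905105278791) (.leaf 131497291323207)))) (.node (.node (.node (.leaf 0) (.leaf 132523790735241)) (.node (.leaf 149025055078279) (.leaf 0))) (.node (.node (.leaf 150046722529195) (.leaf 132455071258505)) (.node (.leaf 0) (.leaf 131501586290503)))))))) (.node (.node (.node (.node (.node (.node (.node (.leaf 150119987640711) (.leaf 0)) (.node (.leaf 149020476012935) (.leaf 0))) (.node (.node (.leaf 150188707117447) (.leaf 132459081996169)) (.node (.leaf 0) (.leaf 0)))) (.node (.node (.node (.leaf 150124282608007) (.leaf 167716468652423)) (.node (.leaf 0) (.leaf 0))) (.node (.node (.leaf 150046973073289) (.leaf 132454787028873)) (.node (.leaf 151292513712519) (.leaf 0))))) (.node (.node (.node (.node (.leaf 150119719081865) (.leaf 132528067811175)) (.node (.leaf 0) (.leaf 168811418974633))) (.node (.node (.leaf 150050999605129) (.leaf 0)) (.node (.leaf 148951487977353) (.leaf 131505865594693)))) (.node (.node (.node (.leaf 0) (.leaf 132532362778471)) (.node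 (.leaf 0) (.leaf 0))) (.node (.node (.leaf 0) (.leaf 0)) (.node (.leaf 148947193010057) (.leaf 0)))))) (.node (.node (.node (.node (.node (.leaf 0) (.leaf 0)) (.node (.leaf 151219482367881) (.leaf 0))) (.node (.node (.leaf 0) (.leaf 132596535629673)) (.node (.leaf 0) (.leaf 0)))) (.node (.node (.node (.leaf 0) (.leaf 167707895495081)) (.node (.leaf 0) (.leaf 0))) (.node (.node (.leaf 0) (.leaf 0)) (.node (.leaf 148947478222729) (.leaf 0))))) (.node (.node (.node (.node (.leaf 0) (.leaf 0)) (.node (.leaf 149020759005031) (.leaf 168811402197417))) (.node (.node (.leaf 0) (.leaf 167643171092903)) (.node (.leaf 0) (.leaf 0)))) (.node (.node (.node (.leaf 114931603576681) (.leaf 0)) (.node (.leaf 149025053972327) (.leaf 131432867927911))) (.node (.node (.leaf 115000323053417) (.leaf 132592509097833)) (.node (.leaf 0) (.leaf 168738387761577))))))) (.node (.node (.node (.node (.node (.node (.leaf 0) (.leaf 0)) (.node (.leaf 149020474840935) (.leaf 168811686361513))) (.node (.node (.leaf 0) (.leaf 167643455256999))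 (.node (.leaf 0) (.leaf 0)))) (.node (.node (.node (.leaf 0) (.leaf 132532095391591)) (.node (.leaf 151215205349801) (.leaf 168807391394217))) (.node (.node (.leaf 0) (.leaf 0)) (.node (.leaf 149093489284967) (.leaf 0))))) (.node (.node (.node (.node (.leaf 0) (.leaf 167711906298281)) (.node (.leaf 149020743276391) (.leaf 168811417926057))) (.node (.node (.leaf 0) (.leaf 167643186821545)) (.node (.leaf 0) (.leaf 0)))) (.node (.node (.node (.leaf 150124549871463) (.leaf 167707611330985)) (.node (.leaf 149025038243687) (.leaf 131432852199271))) (.node (.node (.leaf 150193269348199) (.leaf 167638891854249)) (.node (.leaf 0) (.leaf 166685943757157)))))) (.node (.node (.node (.node (.node (.leaf 0) (.leaf 0)) (.node (.leaf 149020491741575) (.leaf 0))) (.node (.node (.leaf 0) (.leaf 132596536678249)) (.node (.leaf 0) (.leaf 0)))) (.node (.node (.node (.leaf 0) (.leaf 167707896543657)) (.node (.leaf 0) (.leaf 0))) (.node (.node (.leaf 0) (.leaf 0)) (.node (.leaf 148947477174153) (.leaf 0))))) (.node (.node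 (.node (.node (.leaf 150119703353225) (.leaf 167711923075497)) (.node (.leaf 0) (.leaf 131428574009191))) (.node (.node (.leaf 150050983876489) (.leaf 0)) (.node (.leaf 113905105344327) (.leaf 168880120626055)))) (.node (.node (.node (.leaf 0) (.leaf 167707628108201)) (.node (.leaf 0) (.leaf 0))) (.node (.node (.leaf 0) (.leaf 0)) (.node (.leaf 113909400311623) (.leaf 0)))))))))

/-- Part of `shortT`. -/
def shortT14 : Tr :=
  (.node (.node (.node (.node (.node (.node (.node (.node (.leaf 0) (.leaf 132527801538424)) (.node (.leaf 0) (.leaf 168811685247384))) (.node (.node (.leaf 150188707051896) (.leaf 0)) (.node (.leaf 0) (.leaf 0)))) (.node (.node (.node (.leaf 0) (.leaf 132532096505720)) (.node (.leaf 151215204243354) (.leaf 133623018198938))) (.node (.node (.leaf 150193002019190) (.leaf 132454787094426)) (.node (.leaf 149093490391414) (.leaf 133554298722202))))) (.node (.node (.node (.node (.leaf 150119719147896) (.leaf 167711905184152)) (.node (.leaf 151073203984316) (.leaf 0))) (.node (.node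 (.leaf 0) (.leaf 132596787222360)) (.node (.leaf 151141923461052) (.leaf 168742665886104)))) (.node (.node (.node (.leaf 0) (.leaf 167570173368250)) (.node (.leaf 149025037129558) (.leaf 168807124072890))) (.node (.node (.leaf 150193270454646) (.leaf 132454518658970)) (.node (.leaf 149093756606294) (.leaf 0)))))) (.node (.node (.node (.node (.node (.leaf 150119970674552) (.leaf 167712190396824)) (.node (.leaf 151219482433912) (.leaf 0))) (.node (.node (.leaf 0) (.leaf 167789466253686)) (.node (.leaf 151288201910648) (.leaf 131497023936344)))) (.node (.node (.node (.leaf 150115709392794) (.leaf 0)) (.node (.leaf 0) (.leaf 0))) (.node (.node (.leaf 150046989916058) (.leaf 132454803871642)) (.node (.leaf 0) (.leaf 166685659658614))))) (.node (.node (.node (.node (.leaf 150119702370680) (.leaf 167711890504088)) (.node (.leaf 149020761159576) (.leaf 0))) (.node (.node (.leaf 0) (.leaf 132596803999576)) (.node (.leaf 148952041682840) (.leaf 131497292371800)))) (.node (.node (.node (.leaf 0) (.leaf 167570156591034))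 (.node (.leaf 149162492983638) (.leaf 131570306939222))) (.node (.node (.leaf 150193253677430) (.leaf 167785439721846)) (.node (.leaf 151292765305206) (.leaf 0))))))) (.node (.node (.node (.node (.node (.node (.leaf 0) (.leaf 132527800489848)) (.node (.leaf 0) (.leaf 131428288862072))) (.node (.node (.leaf 150051269154712) (.leaf 0)) (.node (.leaf 0) (.leaf 0)))) (.node (.node (.node (.leaf 0) (.leaf 132532095457144)) (.node (.leaf 149024769866102) (.leaf 166616955910518))) (.node (.node (.leaf 150193000970614) (.leaf 167785187015030)) (.node (.leaf 149093489342838) (.leaf 133554299770778))))) (.node (.node (.node (.node (.leaf 0) (.leaf 132528068925304)) (.node (.leaf 0) (.leaf 166612394604952))) (.node (.node (.leaf 150188974438774) (.leaf 0)) (.node (.leaf 0) (.leaf 0)))) (.node (.node (.node (.leaf 150115425228698) (.leaf 0)) (.node (.leaf 0) (.leaf 0))) (.node (.node (.leaf 150193269406070) (.leaf 167785455450486)) (.node (.leaf 0) (.leaf 133554031335322)))))) (.node (.node (.node (.node (.node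 (.leaf 150257442257272) (.leaf 167712157890968)) (.node (.leaf 151219483474328) (.leaf 168811669518744))) (.node (.node (.leaf 150051252377496) (.leaf 167643438421912)) (.node (.leaf 149089211152760) (.leaf 131359586162552)))) (.node (.node (.node (.leaf 114931336255354) (.leaf 0)) (.node (.leaf 0) (.leaf 0))) (.node (.node (.leaf 0) (.leaf 0)) (.node (.leaf 0) (.leaf 133554282993562))))) (.node (.node (.node (.node (.leaf 0) (.leaf 132528085702520)) (.node (.leaf 0) (.leaf 131428574074744))) (.node (.node (.leaf 150050983942040) (.leaf 0)) (.node (.leaf 0) (.leaf 0)))) (.node (.node (.node (.leaf 152314431707546) (.leaf 0)) (.node (.leaf 0) (.leaf 0))) (.node (.node (.leaf 0) (.leaf 0)) (.node (.leaf 0) (.leaf 133554014558106)))))))) (.node (.node (.node (.node (.node (.node (.node (.leaf 150119987517304) (.leaf 132527801472888)) (.node (.leaf 149020475889528) (.leaf 168811685312920))) (.node (.node (.leaf 0) (.leaf 167780893161880)) (.node (.leaf 151288218745240) (.leaf 168880404789656)))) (.node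 (.node (.node (.leaf 150124282484600) (.leaf 0)) (.node (.leaf 0) (.leaf 0))) (.node (.node (.leaf 150193002084726) (.leaf 132601350690646)) (.node (.leaf 151146484701082) (.leaf 0))))) (.node (.node (.node (.node (.leaf 150120255952760) (.leaf 132528069908344)) (.node (.leaf 149020207454072) (.leaf 0))) (.node (.node (.leaf 115004601243480) (.leaf 0)) (.node (.leaf 0) (.leaf 0)))) (.node (.node (.node (.leaf 150261987768662) (.leaf 0)) (.node (.leaf 0) (.leaf 168807124007354))) (.node (.node (.leaf 150046704637850) (.leaf 132601082255190)) (.node (.leaf 149093756671830) (.leaf 168738404530618)))))) (.node (.node (.node (.node (.node (.leaf 150120004417944) (.leaf 132527784695672)) (.node (.leaf 0) (.leaf 166612678834584))) (.node (.node (.leaf 0) (.leaf 167780909939096)) (.node (.leaf 113904837957464) (.leaf 131497024001880)))) (.node (.node (.node (.leaf 150124265707384) (.leaf 0)) (.node (.leaf 0) (.leaf 0))) (.node (.node (.leaf 150046989850522) (.leaf 167785171220854)) (.node (.leaf 148956034602870)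 (.leaf 0))))) (.node (.node (.node (.node (.leaf 0) (.leaf 0)) (.node (.leaf 0) (.leaf 133627564758904))) (.node (.node (.leaf 185235357137336) (.leaf 167643171092920)) (.node (.leaf 186334868765112) (.leaf 131497292437336)))) (.node (.node (.node (.leaf 0) (.leaf 130333356300118)) (.node (.leaf 149162492918102) (.leaf 131432867927894))) (.node (.node (.leaf 0) (.leaf 0)) (.node (.leaf 0) (.leaf 131501587404630))))))) (.node (.node (.node (.node (.node (.node (.leaf 150119988689304) (.leaf 167712174733720)) (.node (.leaf 151219500317080) (.leaf 131428288796536))) (.node (.node (.leaf 0) (.leaf 167780894210456)) (.node (.leaf 148951755364216) (.leaf 131359569319800)))) (.node (.node (.node (.leaf 150124281436024) (.leaf 0)) (.node (.leaf 0) (.leaf 0))) (.node (.node (.leaf 150046974121882) (.leaf 130402359932758)) (.node (.leaf 149093489408374) (.leaf 0))))) (.node (.node (.node (.node (.leaf 150120254904184) (.leaf 167711906298264)) (.node (.leaf 0) (.leaf 166612394670488))) (.node (.node (.leaf 0)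 (.leaf 167780625775000)) (.node (.leaf 113905122121560) (.leaf 131497308165976)))) (.node (.node (.node (.leaf 0) (.leaf 167716201265560)) (.node (.leaf 149025038235510) (.leaf 131432852199254))) (.node (.node (.leaf 150193269471606) (.leaf 0)) (.node (.leaf 0) (.leaf 131501571675990)))))) (.node (.node (.node (.node (.node (.leaf 0) (.leaf 0)) (.node (.leaf 149020491618168) (.leaf 168811669584280))) (.node (.node (.leaf 0) (.leaf 167643438356376)) (.node (.leaf 151288203016600) (.leaf 131359586097016)))) (.node (.node (.node (.leaf 114931336189818) (.leaf 132523522234234)) (.node (.leaf 0) (.leaf 0))) (.node (.node (.leaf 150046991022010) (.leaf 132592241710970)) (.node (.leaf 151146468972442) (.leaf 0))))) (.node (.node (.node (.node (.leaf 150120271681400) (.leaf 132528085636984)) (.node (.leaf 149020760053624) (.leaf 0))) (.node (.node (.leaf 115004616972120) (.leaf 0)) (.node (.leaf 0) (.leaf 0)))) (.node (.node (.node (.leaf 147925543384950) (.leaf 0)) (.node (.leaf 0) (.leaf 0))) (.node (.node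 (.leaf 150046688909210) (.leaf 167638908631482)) (.node (.leaf 149093774621046) (.leaf 0)))))))))

/-- Part of `shortT`. -/
def shortT15 : Tr :=
  (.node (.node (.node (.node (.node (.node (.node (.node (.leaf 0) (.leaf 167712173619607)) (.node (.leaf 0) (.leaf 0))) (.node (.node (.leaf 150188707051895) (.leaf 0)) (.node (.leaf 149089195424119) (.leaf 0)))) (.node (.node (.node (.leaf 0) (.leaf 0)) (.node (.leaf 149024770922359) (.leaf 0))) (.node (.node (.leaf 150193002019191) (.leaf 132454787094425)) (.node (.leaf 0) (.leaf 0))))) (.node (.node (.node (.node (.leaf 149973692356539) (.leaf 0)) (.node (.leaf 149166771173717) (.leaf 168811419040185))) (.node (.node (.leaf 150188975487351) (.leaf 132596787222359)) (.node (.leaf 0) (.leaf 168742699563449)))) (.node (.node (.node (.leaf 0) (.leaf 0)) (.node (.leaf 151077498951611) (.leaf 0))) (.node (.node (.leaf 0) (.leaf 167638892968377)) (.node (.leaf 0) (.leaf 0)))))) (.node (.node (.node (.node (.node (.leaf 150120004351897) (.leaf 0)) (.node (.leaf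 151219482433911) (.leaf 166621235149173))) (.node (.node (.leaf 150188690274679) (.leaf 132450508904347)) (.node (.leaf 0) (.leaf 133550020532123)))) (.node (.node (.node (.leaf 150124265772919) (.leaf 167707895429529)) (.node (.leaf 0) (.leaf 166616940181877))) (.node (.node (.leaf 150192985241975) (.leaf 0)) (.node (.leaf 148947478288281) (.leaf 166685659658613))))) (.node (.node (.node (.node (.leaf 150119702370679) (.leaf 0)) (.node (.leaf 151073187207099) (.leaf 131428572895063))) (.node (.node (.leaf 150188990167415) (.leaf 132450240468891)) (.node (.leaf 0) (.leaf 131497292371799)))) (.node (.node (.node (.leaf 0) (.leaf 0)) (.node (.leaf 151077482174395) (.leaf 0))) (.node (.node (.leaf 0) (.leaf 132454535436187)) (.node (.leaf 0) (.leaf 0))))))) (.node (.node (.node (.node (.node (.node (.leaf 0) (.leaf 132527800489849)) (.node (.leaf 0) (.leaf 0))) (.node (.node (.leaf 150188706003319) (.leaf 0)) (.node (.leaf 149089194375543) (.leaf 0)))) (.node (.node (.node (.leaf 0) (.leaf 0)) (.node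 (.leaf 151215205284249) (.leaf 0))) (.node (.node (.leaf 150046974187417) (.leaf 167785187015031)) (.node (.leaf 0) (.leaf 0))))) (.node (.node (.node (.node (.leaf 0) (.leaf 167711906232729)) (.node (.leaf 0) (.leaf 0))) (.node (.node (.leaf 150188974438775) (.leaf 0)) (.node (.leaf 151288486066551) (.leaf 0)))) (.node (.node (.node (.leaf 150124549937015) (.leaf 132532363892599)) (.node (.leaf 0) (.leaf 133622750812059))) (.node (.node (.leaf 150046705751961) (.leaf 0)) (.node (.leaf 148947194124185) (.leaf 166685943822709)))))) (.node (.node (.node (.node (.node (.leaf 114935631222649) (.leaf 167712157890967)) (.node (.leaf 149020491676023) (.leaf 131428305639289))) (.node (.node (.leaf 150188722780535) (.leaf 132596536743801)) (.node (.leaf 149089211152759) (.leaf 166681397197175)))) (.node (.node (.node (.leaf 185308638902679) (.leaf 132523522299769)) (.node (.leaf 0) (.leaf 131424010671993))) (.node (.node (.leaf 150193017747831) (.leaf 0)) (.node (.leaf 149093506120055) (.leaf 166685692164471)))))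 (.node (.node (.node (.node (.leaf 0) (.leaf 167711889455511)) (.node (.leaf 0) (.leaf 0))) (.node (.node (.leaf 150050983942041) (.leaf 0)) (.node (.leaf 151150495569817) (.leaf 0)))) (.node (.node (.node (.leaf 185308370467223) (.leaf 132523790735225)) (.node (.leaf 0) (.leaf 131432869033847))) (.node (.node (.leaf 150046688974745) (.leaf 0)) (.node (.leaf 151146200603033) (.leaf 131501588510583)))))))) (.node (.node (.node (.node (.node (.node (.node (.leaf 150119987640727) (.leaf 167712173685143)) (.node (.leaf 149020475889527) (.leaf 166612662057367))) (.node (.node (.leaf 0) (.leaf 0)) (.node (.leaf 148951756412791) (.leaf 0)))) (.node (.node (.node (.leaf 0) (.leaf 167716468652439)) (.node (.leaf 149024770856823) (.leaf 0))) (.node (.node (.leaf 150046973073305) (.leaf 0)) (.node (.leaf 148956051380087) (.leaf 131501302191959))))) (.node (.node (.node (.node (.leaf 0) (.leaf 167712442120599)) (.node (.leaf 0) (.leaf 0))) (.node (.node (.leaf 115004601243479) (.leaf 132596787287895)) (.node (.leaf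 0) (.leaf 168742699497913)))) (.node (.node (.node (.leaf 0) (.leaf 0)) (.node (.leaf 149162476140885) (.leaf 0))) (.node (.node (.leaf 185231078947257) (.leaf 132601082255191)) (.node (.leaf 149093756664149) (.leaf 131501570627415)))))) (.node (.node (.node (.node (.node (.leaf 150120004417945) (.leaf 0)) (.node (.leaf 151219516045721) (.leaf 166612678834583))) (.node (.node (.leaf 0) (.leaf 0)) (.node (.leaf 151288235522457) (.leaf 0)))) (.node (.node (.node (.leaf 150124265707383) (.leaf 0)) (.node (.leaf 151215221078425) (.leaf 0))) (.node (.node (.leaf 150184428927385) (.leaf 0)) (.node (.leaf 148956034602871) (.leaf 168738656188857))))) (.node (.node (.node (.node (.leaf 150120239175543) (.leaf 0)) (.node (.leaf 186403588241849) (.leaf 131428572960599))) (.node (.node (.leaf 0) (.leaf 0)) (.node (.leaf 186334868765113) (.leaf 168742682720697)))) (.node (.node (.node (.leaf 150124534142839) (.leaf 132523789621113)) (.node (.leaf 0) (.leaf 168807107230137))) (.node (.node (.leaf 0) (.leaf 167638876125625))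 (.node (.leaf 0) (.leaf 131501587404631))))))) (.node (.node (.node (.node (.node (.node (.leaf 150119986468729) (.leaf 132527800424313)) (.node (.leaf 151219500317081) (.leaf 133627312052089))) (.node (.node (.leaf 0) (.leaf 0)) (.node (.leaf 151288219793817) (.leaf 0)))) (.node (.node (.node (.leaf 0) (.leaf 132523505457017)) (.node (.leaf 151215205349785) (.leaf 0))) (.node (.node (.leaf 150193001036151) (.leaf 0)) (.node (.leaf 148956050331511) (.leaf 168738671917497))))) (.node (.node (.node (.node (.leaf 150120254904183) (.leaf 0)) (.node (.leaf 149020743276407) (.leaf 166612394670487))) (.node (.node (.leaf 0) (.leaf 0)) (.node (.leaf 148952023799671) (.leaf 0)))) (.node (.node (.node (.leaf 150124549871479) (.leaf 167716201265559)) (.node (.leaf 0) (.leaf 133623285520249))) (.node (.node (.leaf 0) (.leaf 167638891854265)) (.node (.leaf 0) (.leaf 0)))))) (.node (.node (.node (.node (.node (.leaf 150119971912087) (.leaf 167712157956503)) (.node (.leaf 149020491618169) (.leaf 131428305573753)))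 (.node (.node (.leaf 0) (.leaf 0)) (.node (.leaf 149089211218295) (.leaf 0)))) (.node (.node (.node (.leaf 0) (.leaf 132523522234233)) (.node (.leaf 149016196650873) (.leaf 168815964551575))) (.node (.node (.leaf 150193017813367) (.leaf 0)) (.node (.leaf 149093506185591) (.leaf 131355291129721))))) (.node (.node (.node (.node (.leaf 0) (.leaf 132528085636985)) (.node (.leaf 0) (.leaf 0))) (.node (.node (.leaf 150050983876505) (.leaf 167643169920921)) (.node (.leaf 0) (.leaf 168742683769273)))) (.node (.node (.node (.leaf 0) (.leaf 132523790669689)) (.node (.leaf 149025055012727) (.leaf 0))) (.node (.node (.leaf 150046688909209) (.leaf 0)) (.node (.leaf 151146200668569) (.leaf 131501586356055)))))))))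

/-- For each code, zero or one more than the number of its block. -/
def blkT : Tr :=
  (.node (.node (.node (.node blkT0 blkT8) (.node blkT4 blkT12)) (.node (.node blkT2 blkT10) (.node blkT6 blkT14))) (.node (.node (.node blkT1 blkT9) (.node blkT5 blkT13)) (.node (.node blkT3 blkT11) (.node blkT7 blkT15))))

/-- For each code, zero or the coefficients of a short representative, shifted by 8, in hexadecimal digits. -/
def shortT : Tr :=
  (.node (.node (.node (.node shortT0 shortT8) (.node shortT4 shortT12)) (.node (.node shortT2 shortT10) (.node shortT6 shortT14))) (.node (.node (.node shortT1 shortT9) (.node shortT5 shortT13)) (.node (.node shortT3 shortT11) (.node shortT7 shortT15))))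

/-- One code in each block. -/
def blkRepL : List ℕ :=
  [2,49,110,134,378,131,24,161,41,69,155,918,227,791,432,178,709,794,720,370,453,382,412,411,515,35,111,246,145,522,384,157,577,535,60,160,106,67,242,76,483,199,171,140,316,304,108,480,313,102,226,154,104,142,180,37,118,176,193,34,301,127,196,185,254,379,312,456,130,51,401,182,972,481,430,56,366,445,119,6,5,914,721,375,101,977,961,19,770,99,17,167,202,588,300,38,309,229,539,98,114,138,3,200,92,72,112,124,57,367,80,922]

/-- Rows of an automorphism commuting with the permutation. -/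
def rowsG0 : List (List ℤ) :=
  [
    [-4,0,0,0,0,0,-4,-4,0,0,0,0,0,0,0,0,0,0,4,0,0,0,0,0],
    [0,-4,0,0,-4,0,0,0,0,0,0,-4,0,4,0,0,0,0,0,0,0,0,0,0],
    [0,0,-4,-4,0,4,0,0,-4,0,0,0,0,0,0,0,0,0,0,0,0,0,0,0],
    [0,0,4,-4,0,-4,0,0,-4,0,0,0,0,0,0,0,0,0,0,0,0,0,0,0],
    [0,4,0,0,-4,0,0,0,0,0,0,-4,0,-4,0,0,0,0,0,0,0,0,0,0],
    [0,0,-4,4,0,-4,0,0,-4,0,0,0,0,0,0,0,0,0,0,0,0,0,0,0],
    [4,0,0,0,0,0,-4,-4,0,0,0,0,0,0,0,0,0,0,-4,0,0,0,0,0],
    [4,0,0,0,0,0,4,-4,0,0,0,0,0,0,0,0,0,0,4,0,0,0,0,0],
    [0,0,4,4,0,4,0,0,-4,0,0,0,0,0,0,0,0,0,0,0,0,0,0,0],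
    [0,0,0,0,0,0,0,0,0,-4,0,0,0,0,0,0,0,4,0,-4,0,0,-4,0],
    [0,0,0,0,0,0,0,0,0,0,-4,0,4,0,0,4,0,0,0,0,0,0,0,4],
    [0,4,0,0,4,0,0,0,0,0,0,-4,0,4,0,0,0,0,0,0,0,0,0,0],
    [0,0,0,0,0,0,0,0,0,0,-4,0,-4,0,0,-4,0,0,0,0,0,0,0,4],
    [0,-4,0,0,4,0,0,0,0,0,0,-4,0,-4,0,0,0,0,0,0,0,0,0,0],
    [0,0,0,0,0,0,0,0,0,0,0,0,0,0,-4,0,4,0,0,0,4,4,0,0],
    [0,0,0,0,0,0,0,0,0,0,-4,0,4,0,0,-4,0,0,0,0,0,0,0,-4],
    [0,0,0,0,0,0,0,0,0,0,0,0,0,0,-4,0,-4,0,0,0,-4,4,0,0],
    [0,0,0,0,0,0,0,0,0,-4,0,0,0,0,0,0,0,-4,0,4,0,0,-4,0],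
    [-4,0,0,0,0,0,4,-4,0,0,0,0,0,0,0,0,0,0,-4,0,0,0,0,0],
    [0,0,0,0,0,0,0,0,0,4,0,0,0,0,0,0,0,-4,0,-4,0,0,-4,0],
    [0,0,0,0,0,0,0,0,0,0,0,0,0,0,-4,0,4,0,0,0,-4,-4,0,0],
    [0,0,0,0,0,0,0,0,0,0,0,0,0,0,-4,0,-4,0,0,0,4,-4,0,0],
    [0,0,0,0,0,0,0,0,0,4,0,0,0,0,0,0,0,4,0,4,0,0,-4,0],
    [0,0,0,0,0,0,0,0,0,0,-4,0,-4,0,0,4,0,0,0,0,0,0,0,-4]]

/-- Rows of an automorphism commuting with the permutation. -/
def rowsG1 : List (List ℤ) :=
  [
    [0,4,0,0,-2,0,-2,0,0,0,0,0,2,-2,2,-2,2,-2,2,0,-2,-2,2,0],
    [0,0,0,0,-2,0,2,0,0,0,0,0,-2,2,2,-2,-2,-2,-2,0,-2,2,2,4],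
    [0,0,0,4,-2,0,-2,0,0,0,0,0,2,-2,-2,2,-2,2,-2,0,-2,2,2,0],
    [0,0,0,0,-2,4,2,0,0,0,0,0,-2,-2,-2,-2,-2,2,2,0,2,-2,2,0],
    [2,-2,2,-2,0,2,0,-2,-2,2,2,2,4,0,0,0,0,0,0,-2,0,0,0,2],
    [0,0,4,0,2,0,-2,0,0,0,0,0,-2,2,-2,-2,2,2,-2,0,-2,-2,2,0],
    [-2,2,-2,2,4,2,0,2,-2,2,-2,2,0,0,0,0,0,0,0,-2,0,0,0,2],
    [0,0,0,0,-2,0,2,0,0,0,0,4,-2,-2,2,2,2,2,-2,0,-2,-2,-2,0],
    [0,0,0,0,2,0,2,0,4,0,0,0,2,2,2,2,-2,2,2,0,-2,-2,2,0],
    [0,0,0,0,-2,0,-2,0,0,4,0,0,-2,2,2,2,2,2,2,0,2,2,2,0],
    [0,0,0,0,-2,0,-2,4,0,0,0,0,2,2,2,-2,-2,2,-2,0,2,-2,-2,0],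
    [0,0,0,0,2,0,-2,0,0,0,4,0,-2,-2,2,-2,-2,2,2,0,-2,2,-2,0],
    [2,2,2,2,0,-2,4,2,-2,2,2,-2,0,0,0,0,0,0,0,-2,0,0,0,-2],
    [-2,2,2,-2,0,2,0,2,-2,-2,2,-2,0,0,0,4,0,0,0,2,0,0,0,2],
    [-2,-2,2,2,0,2,0,-2,-2,-2,-2,-2,0,0,4,0,0,0,0,-2,0,0,0,-2],
    [2,-2,2,2,0,-2,0,2,-2,-2,-2,2,0,0,0,0,0,0,4,2,0,0,0,2],
    [2,2,2,-2,0,2,0,2,2,-2,-2,2,0,0,0,0,0,0,0,-2,0,4,0,-2],
    [2,2,-2,-2,0,-2,0,-2,-2,-2,-2,-2,0,0,0,0,0,4,0,-2,0,0,0,2],
    [2,2,-2,2,0,2,0,-2,-2,-2,2,2,0,4,0,0,0,0,0,2,0,0,0,-2],
    [0,0,0,0,2,0,2,0,0,0,0,0,2,-2,2,-2,2,2,-2,4,2,2,2,0],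
    [2,-2,-2,2,0,2,0,2,2,-2,2,-2,0,0,0,0,4,0,0,-2,0,0,0,2],
    [-2,2,2,2,0,-2,0,-2,2,-2,2,2,0,0,0,0,0,0,0,-2,4,0,0,2],
    [-2,-2,-2,-2,0,-2,0,2,-2,-2,2,2,0,0,0,0,0,0,0,-2,0,0,4,-2],
    [4,0,0,0,2,0,-2,0,0,0,0,0,-2,-2,2,2,-2,-2,-2,0,2,-2,2,0]]

/-- Rows of an automorphism commuting with the permutation. -/
def rowsG2 : List (List ℤ) :=
  [
    [0,-4,0,0,0,0,0,4,0,0,0,0,0,0,0,4,0,0,0,0,0,4,0,0],
    [0,0,0,0,0,0,0,0,0,0,0,4,0,0,0,0,0,0,4,0,4,0,0,-4],
    [0,0,-4,-4,0,4,0,0,0,-4,0,0,0,0,0,0,0,0,0,0,0,0,0,0],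
    [0,0,4,-4,0,-4,0,0,0,-4,0,0,0,0,0,0,0,0,0,0,0,0,0,0],
    [0,0,0,0,4,0,-4,0,0,0,0,0,-4,0,-4,0,0,0,0,0,0,0,0,0],
    [0,0,-4,4,0,-4,0,0,0,-4,0,0,0,0,0,0,0,0,0,0,0,0,0,0],
    [0,0,0,0,-4,0,4,0,0,0,0,0,-4,0,-4,0,0,0,0,0,0,0,0,0],
    [0,0,0,0,0,0,0,0,0,0,0,-4,0,0,0,0,0,0,-4,0,4,0,0,-4],
    [0,0,0,0,0,0,0,0,-4,0,0,0,0,0,0,0,0,-4,0,4,0,0,-4,0],
    [0,0,4,4,0,4,0,0,0,-4,0,0,0,0,0,0,0,0,0,0,0,0,0,0],
    [0,-4,0,0,0,0,0,-4,0,0,0,0,0,0,0,-4,0,0,0,0,0,4,0,0],
    [-4,0,0,0,0,0,0,0,0,0,-4,0,0,-4,0,0,4,0,0,0,0,0,0,0],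
    [0,0,0,0,-4,0,-4,0,0,0,0,0,4,0,-4,0,0,0,0,0,0,0,0,0],
    [0,-4,0,0,0,0,0,4,0,0,0,0,0,0,0,-4,0,0,0,0,0,-4,0,0],
    [0,0,0,0,4,0,4,0,0,0,0,0,4,0,-4,0,0,0,0,0,0,0,0,0],
    [0,0,0,0,0,0,0,0,0,0,0,4,0,0,0,0,0,0,-4,0,-4,0,0,-4],
    [0,-4,0,0,0,0,0,-4,0,0,0,0,0,0,0,4,0,0,0,0,0,-4,0,0],
    [0,0,0,0,0,0,0,0,4,0,0,0,0,0,0,0,0,-4,0,4,0,0,4,0],
    [-4,0,0,0,0,0,0,0,0,0,4,0,0,-4,0,0,-4,0,0,0,0,0,0,0],
    [0,0,0,0,0,0,0,0,-4,0,0,0,0,0,0,0,0,-4,0,-4,0,0,4,0],
    [-4,0,0,0,0,0,0,0,0,0,-4,0,0,4,0,0,-4,0,0,0,0,0,0,0],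
    [0,0,0,0,0,0,0,0,0,0,0,-4,0,0,0,0,0,0,4,0,-4,0,0,-4],
    [0,0,0,0,0,0,0,0,4,0,0,0,0,0,0,0,0,-4,0,-4,0,0,-4,0],
    [-4,0,0,0,0,0,0,0,0,0,4,0,0,4,0,0,4,0,0,0,0,0,0,0]]

/-- Rows of an automorphism commuting with the permutation. -/
def rowsG3 : List (List ℤ) :=
  [
    [0,4,0,0,0,0,4,0,0,0,-4,0,0,0,0,0,0,0,0,0,-4,0,0,0],
    [0,0,0,0,4,0,0,-4,0,0,0,0,0,0,0,0,-4,0,0,0,0,0,0,4],
    [0,0,-4,4,0,4,0,0,0,0,0,0,0,0,0,0,0,0,0,-4,0,0,0,0],
    [0,0,4,-4,0,4,0,0,0,0,0,0,0,0,0,0,0,0,0,-4,0,0,0,0],
    [-4,0,0,0,0,0,0,0,0,0,0,4,4,0,0,0,0,0,0,0,0,-4,0,0],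
    [0,0,4,4,0,-4,0,0,0,0,0,0,0,0,0,0,0,0,0,-4,0,0,0,0],
    [0,0,0,0,4,0,0,4,0,0,0,0,0,0,0,0,-4,0,0,0,0,0,0,-4],
    [4,0,0,0,0,0,0,0,0,0,0,4,-4,0,0,0,0,0,0,0,0,-4,0,0],
    [0,0,0,0,0,0,0,0,4,4,0,0,0,0,0,0,0,4,0,0,0,0,4,0],
    [0,0,0,0,0,0,0,0,-4,4,0,0,0,0,0,0,0,-4,0,0,0,0,4,0],
    [0,0,0,0,-4,0,0,4,0,0,0,0,0,0,0,0,-4,0,0,0,0,0,0,4],
    [0,4,0,0,0,0,-4,0,0,0,4,0,0,0,0,0,0,0,0,0,-4,0,0,0],
    [0,-4,0,0,0,0,4,0,0,0,4,0,0,0,0,0,0,0,0,0,-4,0,0,0],
    [0,0,0,0,0,0,0,0,0,0,0,0,0,4,-4,4,0,0,-4,0,0,0,0,0],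
    [0,0,0,0,0,0,0,0,0,0,0,0,0,4,4,4,0,0,4,0,0,0,0,0],
    [0,0,0,0,0,0,0,0,0,0,0,0,0,-4,-4,4,0,0,4,0,0,0,0,0],
    [4,0,0,0,0,0,0,0,0,0,0,4,4,0,0,0,0,0,0,0,0,4,0,0],
    [0,0,0,0,0,0,0,0,-4,4,0,0,0,0,0,0,0,4,0,0,0,0,-4,0],
    [0,0,0,0,0,0,0,0,0,0,0,0,0,4,-4,-4,0,0,4,0,0,0,0,0],
    [0,0,4,4,0,4,0,0,0,0,0,0,0,0,0,0,0,0,0,4,0,0,0,0],
    [0,0,0,0,4,0,0,4,0,0,0,0,0,0,0,0,4,0,0,0,0,0,0,4],
    [0,4,0,0,0,0,4,0,0,0,4,0,0,0,0,0,0,0,0,0,4,0,0,0],
    [0,0,0,0,0,0,0,0,-4,-4,0,0,0,0,0,0,0,4,0,0,0,0,4,0],
    [4,0,0,0,0,0,0,0,0,0,0,-4,4,0,0,0,0,0,0,0,0,-4,0,0]]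

/-- Rows of an automorphism commuting with the permutation. -/
def rowsT : List (List ℤ) :=
  [
    [4,-4,0,0,0,0,0,0,0,0,0,0,0,0,0,0,0,4,0,0,0,0,0,4],
    [4,4,0,0,0,0,0,0,0,0,0,0,0,0,0,0,0,4,0,0,0,0,0,-4],
    [0,0,4,-4,0,4,0,0,0,0,0,0,0,0,4,0,0,0,0,0,0,0,0,0],
    [0,0,4,4,0,-4,0,0,0,0,0,0,0,0,4,0,0,0,0,0,0,0,0,0],
    [0,0,0,0,4,0,4,0,0,4,0,0,-4,0,0,0,0,0,0,0,0,0,0,0],
    [0,0,-4,4,0,4,0,0,0,0,0,0,0,0,4,0,0,0,0,0,0,0,0,0],
    [0,0,0,0,-4,0,4,0,0,4,0,0,4,0,0,0,0,0,0,0,0,0,0,0],
    [0,0,0,0,0,0,0,4,0,0,4,-4,0,0,0,0,0,0,0,0,0,0,4,0],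
    [0,0,0,0,0,0,0,0,4,0,0,0,0,0,0,0,-4,0,0,0,-4,-4,0,0],
    [0,0,0,0,-4,0,-4,0,0,4,0,0,-4,0,0,0,0,0,0,0,0,0,0,0],
    [0,0,0,0,0,0,0,-4,0,0,4,4,0,0,0,0,0,0,0,0,0,0,4,0],
    [0,0,0,0,0,0,0,4,0,0,-4,4,0,0,0,0,0,0,0,0,0,0,4,0],
    [0,0,0,0,4,0,-4,0,0,4,0,0,4,0,0,0,0,0,0,0,0,0,0,0],
    [0,0,0,0,0,0,0,0,0,0,0,0,0,4,0,-4,0,0,4,4,0,0,0,0],
    [0,0,-4,-4,0,-4,0,0,0,0,0,0,0,0,4,0,0,0,0,0,0,0,0,0],
    [0,0,0,0,0,0,0,0,0,0,0,0,0,4,0,4,0,0,-4,4,0,0,0,0],
    [0,0,0,0,0,0,0,0,4,0,0,0,0,0,0,0,4,0,0,0,4,-4,0,0],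
    [-4,-4,0,0,0,0,0,0,0,0,0,0,0,0,0,0,0,4,0,0,0,0,0,-4],
    [0,0,0,0,0,0,0,0,0,0,0,0,0,-4,0,4,0,0,4,4,0,0,0,0],
    [0,0,0,0,0,0,0,0,0,0,0,0,0,-4,0,-4,0,0,-4,4,0,0,0,0],
    [0,0,0,0,0,0,0,0,4,0,0,0,0,0,0,0,-4,0,0,0,4,4,0,0],
    [0,0,0,0,0,0,0,0,4,0,0,0,0,0,0,0,4,0,0,0,-4,4,0,0],
    [0,0,0,0,0,0,0,-4,0,0,-4,-4,0,0,0,0,0,0,0,0,0,0,4,0],
    [-4,4,0,0,0,0,0,0,0,0,0,0,0,0,0,0,0,4,0,0,0,0,0,4]]

/-- Rows of an automorphism commuting with the permutation. -/
def rowsO : List (List ℤ) :=
  [
    [4,-4,0,0,0,0,0,0,0,0,0,0,0,0,0,0,0,-4,0,0,0,0,0,-4],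
    [-4,4,0,0,0,0,0,0,0,0,0,0,0,0,0,0,0,-4,0,0,0,0,0,-4],
    [0,0,-4,4,0,4,0,0,0,0,0,0,0,0,4,0,0,0,0,0,0,0,0,0],
    [0,0,4,-4,0,4,0,0,0,0,0,0,0,0,4,0,0,0,0,0,0,0,0,0],
    [0,0,0,0,-4,0,4,0,0,4,0,0,4,0,0,0,0,0,0,0,0,0,0,0],
    [0,0,4,4,0,-4,0,0,0,0,0,0,0,0,4,0,0,0,0,0,0,0,0,0],
    [0,0,0,0,4,0,-4,0,0,4,0,0,4,0,0,0,0,0,0,0,0,0,0,0],
    [0,0,0,0,0,0,0,-4,0,0,4,4,0,0,0,0,0,0,0,0,0,0,4,0],
    [0,0,0,0,0,0,0,0,-4,0,0,0,0,0,0,0,4,0,0,0,4,4,0,0],
    [0,0,0,0,4,0,4,0,0,-4,0,0,4,0,0,0,0,0,0,0,0,0,0,0],
    [0,0,0,0,0,0,0,4,0,0,-4,4,0,0,0,0,0,0,0,0,0,0,4,0],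
    [0,0,0,0,0,0,0,4,0,0,4,-4,0,0,0,0,0,0,0,0,0,0,4,0],
    [0,0,0,0,4,0,4,0,0,4,0,0,-4,0,0,0,0,0,0,0,0,0,0,0],
    [0,0,0,0,0,0,0,0,0,0,0,0,0,-4,0,4,0,0,4,4,0,0,0,0],
    [0,0,4,4,0,4,0,0,0,0,0,0,0,0,-4,0,0,0,0,0,0,0,0,0],
    [0,0,0,0,0,0,0,0,0,0,0,0,0,4,0,-4,0,0,4,4,0,0,0,0],
    [0,0,0,0,0,0,0,0,4,0,0,0,0,0,0,0,-4,0,0,0,4,4,0,0],
    [-4,-4,0,0,0,0,0,0,0,0,0,0,0,0,0,0,0,4,0,0,0,0,0,-4],
    [0,0,0,0,0,0,0,0,0,0,0,0,0,4,0,4,0,0,-4,4,0,0,0,0],
    [0,0,0,0,0,0,0,0,0,0,0,0,0,4,0,4,0,0,4,-4,0,0,0,0],
    [0,0,0,0,0,0,0,0,4,0,0,0,0,0,0,0,4,0,0,0,-4,4,0,0],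
    [0,0,0,0,0,0,0,0,4,0,0,0,0,0,0,0,4,0,0,0,4,-4,0,0],
    [0,0,0,0,0,0,0,4,0,0,4,4,0,0,0,0,0,0,0,0,0,0,-4,0],
    [-4,-4,0,0,0,0,0,0,0,0,0,0,0,0,0,0,0,-4,0,0,0,0,0,4]]

/-- The six row lists. -/
def rowsL : List (List (List ℤ)) :=
  [rowsG0, rowsG1, rowsG2, rowsG3, rowsT, rowsO]

/-- Images of the basis classes under the six automorphisms. -/
def colsL : List (List ℕ) :=
  [
    [1939,3587,2772,2794,3340,771,804,559,689,2050,2962,1025],
    [322,3987,260,91,13,3958,3796,291,4,1840,3455,2597],
    [2237,2769,614,2780,565,1054,30,322,2829,3797,1120,4050],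
    [550,74,132,257,2222,1283,259,4,815,2026,1120,3190],
    [12,2485,260,265,323,3926,2286,687,4,1634,3085,1025],
    [1,1896,2748,2737,3998,2585,541,128,3796,4050,945,2780]]

/-- Inverse of the Gram matrix modulo two, by rows as masks. -/
def gramInvL : List ℕ :=
  [4,3396,2619,804,836,396,530,32,58,3164,2562,1542]

end CfsgLib.MonsterType.Three
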