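import Cfsg.Agent.Lib.MonsterType.Main
import Cfsg.Agent.Lib.MonsterType.Three.Data
import Cfsg.Agent.Lib.Golay.FrameElem
import Cfsg.Agent.Lib.Golay.LeechOrbit.Elem

/-! Classes of the lattice modulo two fixed by a permutation of cycle type `1^6 3^6`: coordinates, the
bilinear form, and the classes containing no vector of squared length 64. -/

set_option autoImplicit false
set_option maxRecDepth 20000

namespace CfsgLib.MonsterType.Three

open Cfsg CfsgLib.Golay CfsgLib.Golay.LeechOrbit CfsgLib.LeechEight CfsgLib.Sporadic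

/-- The permutation of order 3 on the points. -/
def triP : Equiv.Perm GolayPt where
  toFun p := pt ⟨triL.getD (idx p).val 0 % 24, Nat.mod_lt _ (by norm_num)⟩
  invFun p := pt ⟨triInvL.getD (idx p).val 0 % 24, Nat.mod_lt _ (by norm_num)⟩
  left_inv := by unfold Function.LeftInverse; decide +kernel
  right_inv := by unfold Function.RightInverse Function.LeftInverse; decide +kernel

theorem toList_triP : toList triP = triL := by decide +kernel

theorem triP_mem : triP ∈ M24 := by
  rw [mem_M24_iff_isPres, toList_triP]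
  decide +kernel

/-- The permutation as an element of the group. -/
def tri : M24 := ⟨triP, triP_mem⟩

/-- The automorphism permuting the coordinates. -/
def triW : Co0 := permW tri

theorem triP_pow_three : triP ^ 3 = 1 := by decide +kernel

theorem tri_pow_three : tri ^ 3 = 1 := Subtype.ext triP_pow_three

theorem triW_pow_three : triW ^ 3 = 1 := by
  show permHom tri ^ 3 = 1
  rw [← map_pow, tri_pow_three, map_one]

theorem triW_apply (v : leechLattice) (i : GolayPt) :
    ((triW • v : leechLattice) : GolayPt → ℤ) i = (v : GolayPt → ℤ) (triP.symm i) := rfl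

/-! ### Orbits -/

/-- The orbit of a point. -/
def cls (p : GolayPt) : Fin 12 := ⟨clsL.getD (idx p).val 0 % 12, Nat.mod_lt _ (by norm_num)⟩

/-- A representative of an orbit. -/
def rep (j : Fin 12) : GolayPt := pt ⟨repL.getD j.val 0 % 24, Nat.mod_lt _ (by norm_num)⟩

theorem cls_cover : ∀ p : GolayPt, ∃ t : Fin 3, (triP ^ t.val) (rep (cls p)) = p := by decide +kernel

theorem fixed_const {v : leechLattice} (h : triW • v = v) (p : GolayPt) :
    (v : GolayPt → ℤ) p = (v : GolayPt → ℤ) (rep (cls p)) := by
  obtain ⟨t, ht⟩ := cls_cover p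
  have key : ∀ n : ℕ, (v : GolayPt → ℤ) ((triP ^ n) (rep (cls p))) = (v : GolayPt → ℤ) (rep (cls p)) := by
    intro n
    induction n with
    | zero => simp
    | succ n ih =>
      rw [pow_succ']
      have h1 := congrArg (fun w : leechLattice => (w : GolayPt → ℤ) (triP ((triP ^ n) (rep (cls p))))) h
      simp only [triW_apply, Equiv.symm_apply_apply] at h1
      rw [Equiv.Perm.mul_apply, ← h1, ih]
  calc (v : GolayPt → ℤ) p = (v : GolayPt → ℤ) ((triP ^ t.val) (rep (cls p))) := by rw [ht]
    _ = _ := key t.val

/-! ### The basis and the dual vectors -/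

/-- Orbit values of the `k`-th basis vector. -/
def basE (k l : Fin 12) : ℤ := (basL.getD k.val []).getD l.val 0

/-- The `k`-th basis vector. -/
def basV (k : Fin 12) : GolayPt → ℤ := fun p => basE k (cls p)

theorem basV_mem (k : Fin 12) : basV k ∈ leechLattice := by
  refine mem_of_leechTest ?_
  revert k
  decide +kernel

/-- The `k`-th basis vector in the lattice. -/
def bas (k : Fin 12) : leechLattice := ⟨basV k, basV_mem k⟩

/-- The `k`-th dual vector. -/
def dual (k : Fin 12) : GolayPt → ℤ := rowVec (dualL.getD k.val [])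

theorem dual_mem (k : Fin 12) : dual k ∈ leechLattice := by
  refine mem_of_leechTest ?_
  revert k
  decide +kernel

theorem dot_bas_dual : ∀ j k : Fin 12, dotInt (basV j) (dual k) = if j = k then 8 else 0 := by decide +kernel

/-- Sums of a dual vector over an orbit. -/
def dualSum (j k : Fin 12) : ℤ := ∑ p ∈ Finset.univ.filter (fun p => cls p = j), dual k p

theorem dualSum_bas : ∀ j l : Fin 12, (∑ k, dualSum j k * basE k l) = if j = l then 8 else 0 := by
  decide +kernel

theorem tri_bas (k : Fin 12) : triW • bas k = bas k := by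
  apply Subtype.ext
  funext p
  rw [triW_apply]
  have h : ∀ q : GolayPt, cls (triP.symm q) = cls q := by decide +kernel
  show basV k (triP.symm p) = basV k p
  simp only [basV, h]

/-- The coordinates of an integer vector modulo two. -/
def kapOf (x : GolayPt → ℤ) (k : Fin 12) : ZMod 2 := ((dotInt x (dual k) / 8 : ℤ) : ZMod 2)

/-- The coefficient at the `k`-th basis vector. -/
def coef (v : leechLattice) (k : Fin 12) : ℤ := dotInt (v : GolayPt → ℤ) (dual k) / 8

theorem eight_coef (v : leechLattice) (k : Fin 12) : 8 * coef v k = dotInt (v : GolayPt → ℤ) (dual k) :=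
  Int.mul_ediv_cancel' (eight_dvd_dot v.2 (dual_mem k))

theorem coef_add (v w : leechLattice) (k : Fin 12) : coef (v + w) k = coef v k + coef w k := by
  have h1 := eight_coef (v + w) k
  rw [AddSubgroup.coe_add, dotInt_add_left, ← eight_coef v k, ← eight_coef w k] at h1
  omega

/-- Coordinates modulo two. -/
def kap : leechLattice →+ (Fin 12 → ZMod 2) where
  toFun v := kapOf (v : GolayPt → ℤ)
  map_zero' := by
    funext k
    simp [kapOf, dotInt]
  map_add' v w := by
    funext k
    show ((coef (v + w) k : ℤ) : ZMod 2) = (coef v k : ZMod 2) + (coef w k : ZMod 2)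
    simp [coef_add]

theorem kap_apply (v : leechLattice) (k : Fin 12) : kap v k = (coef v k : ZMod 2) := rfl

theorem kap_eq (v : leechLattice) : kap v = kapOf (v : GolayPt → ℤ) := rfl

theorem kap_bas : ∀ j : Fin 12, kap (bas j) = fun k => if j = k then 1 else 0 := by decide +kernel

theorem kap_cong {v w : leechLattice} (h : Cong v w) : kap v = kap w := by
  obtain ⟨u, rfl⟩ := h
  funext k
  simp [CharTwo.add_self_eq_zero]

/-- An integral combination of the basis. -/
def comb (n : Fin 12 → ℤ) : leechLattice := ∑ k, n k • bas k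

theorem comb_apply (n : Fin 12 → ℤ) (p : GolayPt) :
    (comb n : GolayPt → ℤ) p = ∑ k, n k * basE k (cls p) := by
  simp [comb, Finset.sum_apply, bas, basV]

theorem tri_comb (n : Fin 12 → ℤ) : triW • comb n = comb n := by
  show addHom triW (∑ k, n k • bas k) = _
  rw [map_sum]
  refine Finset.sum_congr rfl fun k _ => ?_
  rw [map_zsmul]
  exact congrArg (n k • ·) (tri_bas k)

theorem kap_comb (n : Fin 12 → ℤ) : kap (comb n) = fun k => (n k : ZMod 2) := by
  funext k
  simp [comb, kap_bas, zsmul_eq_mul]

/-- A fixed vector is the combination given by its coefficients. -/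
theorem eq_comb_of_fixed {v : leechLattice} (h : triW • v = v) : v = comb (coef v) := by
  apply Subtype.ext
  funext p
  rw [comb_apply, fixed_const h p]
  set a : Fin 12 → ℤ := fun j => (v : GolayPt → ℤ) (rep j) with ha
  have hd : ∀ k, 8 * coef v k = ∑ j, a j * dualSum j k := by
    intro k
    rw [eight_coef, dotInt, ← Finset.sum_fiberwise (s := Finset.univ) (g := cls)]
    refine Finset.sum_congr rfl fun j _ => ?_
    rw [dualSum, Finset.mul_sum]
    refine Finset.sum_congr rfl fun q hq => ?_
    rw [Finset.mem_filter] at hq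
    rw [fixed_const h q, hq.2]
  have key : 8 * ∑ k, coef v k * basE k (cls p) = 8 * a (cls p) := by
    calc 8 * ∑ k, coef v k * basE k (cls p) = ∑ k, ∑ j, a j * (dualSum j k * basE k (cls p)) := by
          rw [Finset.mul_sum]
          refine Finset.sum_congr rfl fun k _ => ?_
          rw [← mul_assoc, hd, Finset.sum_mul]
          simp only [mul_assoc]
      _ = ∑ j, a j * ∑ k, dualSum j k * basE k (cls p) := by
          rw [Finset.sum_comm]
          simp only [Finset.mul_sum]
      _ = 8 * a (cls p) := by
          simp only [dualSum_bas, mul_ite, mul_zero, Finset.sum_ite_eq', Finset.mem_univ, if_true]; ring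
  exact (Int.eq_of_mul_eq_mul_left (by norm_num) key).symm

/-! ### Fixed classes -/

theorem cong_add {a b c d : leechLattice} (h : Cong a b) (h' : Cong c d) : Cong (a + c) (b + d) := by
  obtain ⟨u, rfl⟩ := h
  obtain ⟨u', rfl⟩ := h'
  exact ⟨u + u', by abel⟩

/-- A fixed class. -/
def Fixed (v : leechLattice) : Prop := Cong (triW • v) v

theorem exists_fixed_rep {v : leechLattice} (h : Fixed v) : ∃ S : leechLattice, triW • S = S ∧ Cong v S := by
  refine ⟨v + triW • v + triW • triW • v, ?_, ?_⟩
  · have h3 : triW • triW • triW • v = v := by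
      rw [← mul_smul, ← mul_smul, ← pow_two, ← pow_succ, triW_pow_three, one_smul]
    simp only [smul_add', h3]
    abel
  · have hsum : Cong (v + triW • v + triW • triW • v) (v + v + v) :=
      cong_add (cong_add (Cong.refl' v) h) ((h.smul' triW).trans' h)
    exact (hsum.trans' ⟨v, by abel⟩).symm'

theorem comb_cong {n m : Fin 12 → ℤ} (h : ∀ k, (n k : ZMod 2) = (m k : ZMod 2)) : Cong (comb n) (comb m) := by
  have h2 : ∀ k, (2 : ℤ) ∣ n k - m k := fun k => by
    have := (ZMod.intCast_eq_intCast_iff_dvd_sub _ _ 2).mp (h k).symm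
    exact_mod_cast this
  choose d hd using h2
  refine ⟨comb d, ?_⟩
  simp only [comb, ← Finset.sum_add_distrib]
  refine Finset.sum_congr rfl fun k _ => ?_
  rw [← add_smul, ← add_smul]
  congr 1
  linarith [hd k]

/-- A fixed class is determined by its coordinates. -/
theorem fixed_ext {v w : leechLattice} (hv : Fixed v) (hw : Fixed w) (h : kap v = kap w) : Cong v w := by
  obtain ⟨S, hS, hvS⟩ := exists_fixed_rep hv
  obtain ⟨T, hT, hwT⟩ := exists_fixed_rep hw
  refine hvS.trans' (Cong.trans' ?_ hwT.symm')
  rw [eq_comb_of_fixed hS, eq_comb_of_fixed hT]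
  refine comb_cong fun k => ?_
  exact congrFun ((kap_cong hvS).symm.trans (h.trans (kap_cong hwT))) k

theorem fixed_of_smul {v : leechLattice} (h : triW • v = v) : Fixed v := by
  unfold Fixed
  rw [h]
  exact Cong.refl' _

/-- The class with given coordinates. -/
def ofKap (c : Fin 12 → ZMod 2) : leechLattice := comb fun k => ((c k).val : ℤ)

theorem kap_ofKap (c : Fin 12 → ZMod 2) : kap (ofKap c) = c := by
  funext k
  simp [ofKap, kap_comb]

theorem fixed_ofKap (c : Fin 12 → ZMod 2) : Fixed (ofKap c) := fixed_of_smul (tri_comb _)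

theorem cong_ofKap {v : leechLattice} (hv : Fixed v) : Cong v (ofKap (kap v)) :=
  fixed_ext hv (fixed_ofKap _) (kap_ofKap _).symm

theorem fixed_zero : Fixed 0 := fixed_of_smul (map_zero (addHom triW))

/-! ### Codes of coordinates -/

/-- The coordinates with a given code. -/
def decC (n : ℕ) : Fin 12 → ZMod 2 := fun k => if n.testBit k.val then 1 else 0

/-- The code of coordinates. -/
def codeC (c : Fin 12 → ZMod 2) : ℕ := Nat.ofBits fun k : Fin 12 => decide (c k = 1)

theorem zmod2_two : ∀ x : ZMod 2, x = 0 ∨ x = 1 := by decide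

theorem decC_codeC (c : Fin 12 → ZMod 2) : decC (codeC c) = c := by
  funext k
  rw [decC, codeC, Nat.testBit_ofBits_lt _ _ k.isLt]
  rcases zmod2_two (c k) with h | h <;> simp [h]

theorem codeC_decC {n : ℕ} (h : n < 4096) : codeC (decC n) = n := by
  refine Nat.eq_of_testBit_eq fun i => ?_
  unfold codeC
  by_cases hi : i < 12
  · rw [Nat.testBit_ofBits_lt _ _ hi]
    unfold decC
    cases hb : n.testBit i <;> simp [hb]
  · rw [Nat.testBit_ofBits_ge _ _ (by omega), Nat.testBit_lt_two_pow (lt_of_lt_of_le h
      ((show 4096 = 2 ^ 12 by norm_num) ▸ Nat.pow_le_pow_right (by norm_num : 0 < 2) (by omega : 12 ≤ i)))]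

theorem codeC_lt (c : Fin 12 → ZMod 2) : codeC c < 4096 := Nat.ofBits_lt_two_pow _

theorem decC_xor (a b : ℕ) : decC (a ^^^ b) = decC a + decC b := by
  funext k
  simp only [decC, Pi.add_apply, Nat.testBit_xor]
  cases a.testBit k.val <;> cases b.testBit k.val <;> decide

theorem decC_zero : decC 0 = 0 := by funext k; simp [decC]

/-! ### Short representatives -/

/-- The coefficient recorded for a class. -/
noncomputable def witC (n : ℕ) (k : Fin 12) : ℤ := ((shortT.get n / 16 ^ k.val % 16 : ℕ) : ℤ) - 8

/-- The sizes of the orbits. -/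
def sizeC (l : Fin 12) : ℤ := (Finset.univ.filter fun p => cls p = l).card

/-- The squared length of a combination. -/
def combNorm (n : Fin 12 → ℤ) : ℤ := ∑ l, sizeC l * (∑ k, n k * basE k l) ^ 2

theorem sqNorm_comb (n : Fin 12 → ℤ) : sqNorm (comb n : GolayPt → ℤ) = combNorm n := by
  simp only [sqNorm, combNorm, comb_apply]
  rw [← Finset.sum_fiberwise (s := Finset.univ) (g := cls)]
  refine Finset.sum_congr rfl fun l _ => ?_
  rw [Finset.sum_congr rfl (g := fun _ => (∑ k, n k * basE k l) ^ 2) fun p hp => by
    rw [(Finset.mem_filter.mp hp).2], Finset.sum_const, sizeC, nsmul_eq_mul]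

/-- The orbit sizes. -/
def sizeV (l : Fin 12) : ℤ := [3, 3, 3, 3, 1, 1, 3, 1, 3, 1, 1, 1].getD l.val 0

theorem sizeC_eq : ∀ l, sizeC l = sizeV l := by decide +kernel

/-- The check of a recorded representative. -/
noncomputable def shortOK (n : ℕ) : Bool :=
  forceN (shortT.get n) fun e => bif e == 0 then true else
    decide ((∀ k : Fin 12, e / 16 ^ k.val % 2 = n / 2 ^ k.val % 2) ∧
      ∑ l, sizeV l * (∑ k : Fin 12, (((e / 16 ^ k.val % 16 : ℕ) : ℤ) - 8) * basE k l) ^ 2 ≤ 48)

theorem short_ok0 : allFrom 0 512 shortOK = true := by decide +kernel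

theorem short_ok1 : allFrom 512 512 shortOK = true := by decide +kernel

theorem short_ok2 : allFrom 1024 512 shortOK = true := by decide +kernel

theorem short_ok3 : allFrom 1536 512 shortOK = true := by decide +kernel

theorem short_ok4 : allFrom 2048 512 shortOK = true := by decide +kernel

theorem short_ok5 : allFrom 2560 512 shortOK = true := by decide +kernel

theorem short_ok6 : allFrom 3072 512 shortOK = true := by decide +kernel

theorem short_ok7 : allFrom 3584 512 shortOK = true := by decide +kernel

theorem short_ok {n : ℕ} (h : n < 4096) : shortOK n = true := by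
  rcases (show n < 512 ∨ (512 ≤ n ∧ n < 1024) ∨ (1024 ≤ n ∧ n < 1536) ∨ (1536 ≤ n ∧ n < 2048) ∨
      (2048 ≤ n ∧ n < 2560) ∨ (2560 ≤ n ∧ n < 3072) ∨ (3072 ≤ n ∧ n < 3584) ∨ (3584 ≤ n ∧ n < 4096) by omega) with
    h' | ⟨a, b⟩ | ⟨a, b⟩ | ⟨a, b⟩ | ⟨a, b⟩ | ⟨a, b⟩ | ⟨a, b⟩ | ⟨a, b⟩
  exacts [allFrom_eq_true.mp short_ok0 n (Nat.zero_le _) h', allFrom_eq_true.mp short_ok1 n a b,
    allFrom_eq_true.mp short_ok2 n a b, allFrom_eq_true.mp short_ok3 n a b, allFrom_eq_true.mp short_ok4 n a b,
    allFrom_eq_true.mp short_ok5 n a b, allFrom_eq_true.mp short_ok6 n a b, allFrom_eq_true.mp short_ok7 n a b]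

theorem short_spec {n : ℕ} (hn : n < 4096) (h : shortT.get n ≠ 0) :
    kap (comb (witC n)) = decC n ∧ sqNorm (comb (witC n) : GolayPt → ℤ) ≤ 48 := by
  have hk := short_ok hn
  simp only [shortOK, forceN_eq, beq_eq_false_iff_ne.mpr h, cond_false, decide_eq_true_eq] at hk
  constructor
  · rw [kap_comb]
    funext k
    have h2 := hk.1 k
    simp only [decC, witC, Nat.testBit_eq_decide_div_mod_eq]
    rw [Int.cast_sub, Int.cast_natCast, show ((8 : ℤ) : ZMod 2) = 0 by decide, sub_zero]
    have h3 : ((shortT.get n / 16 ^ k.val % 16 : ℕ) : ZMod 2) = ((n / 2 ^ k.val % 2 : ℕ) : ZMod 2) := by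
      rw [ZMod.natCast_eq_natCast_iff', ← h2]
      omega
    rw [h3]
    rcases Nat.mod_two_eq_zero_or_one (n / 2 ^ k.val) with h4 | h4 <;> simp [h4]
  · rw [sqNorm_comb]
    simp only [combNorm, sizeC_eq, witC]
    exact hk.2

/-- A vector of squared length 64 is congruent to no vector of squared length at most 48. -/
theorem not_cong_short {v w : leechLattice} (h : Cong v w) (hv : sqNorm (v : GolayPt → ℤ) = 64)
    (hw : sqNorm (w : GolayPt → ℤ) ≤ 48) : False := by
  obtain ⟨u, rfl⟩ := h
  have hu : u ≠ 0 := fun e => by rw [e, add_zero, add_zero] at hv; omega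
  have hu' : w + u ≠ 0 := fun e => by
    have e2 : w + (u + u) = -w := by
      rw [eq_neg_iff_add_eq_zero]
      calc w + (u + u) + w = (w + u) + (w + u) := by abel
        _ = 0 := by rw [e, add_zero]
    rw [e2] at hv
    have : sqNorm ((-w : leechLattice) : GolayPt → ℤ) = sqNorm (w : GolayPt → ℤ) := by
      simp [sqNorm]
    omega
  have h1 := min_norm u.2 (coe_ne_zero hu)
  have h2 := min_norm (w + u).2 (coe_ne_zero hu')
  have key : sqNorm ((w + (u + u) : leechLattice) : GolayPt → ℤ) + sqNorm (w : GolayPt → ℤ) =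
      2 * sqNorm ((w + u : leechLattice) : GolayPt → ℤ) + 2 * sqNorm (u : GolayPt → ℤ) := by
    simp only [sqNorm, AddSubgroup.coe_add, Pi.add_apply, Finset.mul_sum, ← Finset.sum_add_distrib]
    exact Finset.sum_congr rfl fun i _ => by ring
  omega

/-- The codes of the classes that may contain a vector of squared length 64. -/
noncomputable def bigL : List ℕ := (List.range 4096).filter fun n => shortT.get n == 0

theorem length_bigL : bigL.length = 1701 := by decide +kernel

/-- The code of a fixed class containing a vector of squared length 64 is among these. -/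
theorem code_mem_bigL {v y : leechLattice} (hv : Fixed v) (hy : Cong y v) (hn : sqNorm (y : GolayPt → ℤ) = 64) :
    codeC (kap v) ∈ bigL := by
  refine List.mem_filter.mpr ⟨List.mem_range.mpr (codeC_lt _), beq_iff_eq.mpr ?_⟩
  by_contra h
  obtain ⟨h1, h2⟩ := short_spec (codeC_lt _) h
  refine not_cong_short (hy.trans' (fixed_ext hv (fixed_of_smul (tri_comb _)) ?_)) hn h2
  rw [h1, decC_codeC]

end CfsgLib.MonsterType.Three
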