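import Cfsg.Agent.Lib.MonsterType.Three.Quot
import Cfsg.Agent.Lib.MonsterLocal21.Bridge
import Cfsg.Agent.Lib.MonsterLocal21.ThreeClass

/-! A 3-central element of order 3 of the joint centraliser of `z` and a conjugate in `Q`: its centraliser
modulo it is of large Fischer type. -/

set_option autoImplicit false

namespace CfsgLib.MonsterType.Three

open Cfsg CfsgLib.MonsterType CfsgLib.LargeExtra CfsgLib.MonsterType.Local CfsgLib.Golay CfsgLib.MonsterLocal21

/-- The coordinates of the fixed classes. -/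
noncomputable def coord : Coord triW 4096 where
  kap v := ⟨codeC (kap v), codeC_lt _⟩
  lift x := ofKap (decC x.val)
  lift_fix x := tri_comb _
  kap_congr h := Fin.ext (congrArg codeC (kap_cong h))
  kap_lift x := Fin.ext (by
    show codeC (kap (ofKap (decC x.val))) = x.val
    rw [kap_ofKap, codeC_decC x.isLt])
  cong_lift {v} hv := by
    show Cong v (ofKap (decC (codeC (kap v))))
    rw [decC_codeC]
    exact cong_ofKap (fixed_of_smul hv)

theorem mem_actKer_of_rho {γ : centK} (h : coord.rho γ = 1) : γ ∈ actKer := fun c => by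
  have h1 : coord.rho γ ⟨codeC c, codeC_lt c⟩ = ⟨codeC c, codeC_lt c⟩ := by rw [h]; rfl
  have h2 := congrArg (fun t : Fin 4096 => decC t.val) h1
  simp only [Coord.rho_apply] at h2
  show kap ((γ : Co0) • ofKap c) = c
  have h3 : decC (codeC (kap ((γ : Co0) • ofKap (decC (codeC c))))) = decC (codeC c) := h2
  rwa [decC_codeC, decC_codeC] at h3

variable {G : Type*} [Group G] [Finite G] {z : G} {Q : Subgroup (cz z)} [Q.Normal]
  {e : cz z ⧸ Q ≃* Spor.Co1} {ψ : leechLattice → Q ⧸ Subgroup.center Q}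

/-- A 3-central element acts on the frame with six fixed points. -/
theorem six_fixed (hS : IsExtraspecialCentralizerSetting z Q 12) (hψ : IsLeechModTwoIso Q e ψ) {x : Q}
    (hx : ψ (LeechEight.latE none) = QuotientGroup.mk x) (hxz : gval x ≠ z) (hx1 : gval x ≠ 1) {y : G}
    (hy : orderOf y = 3) (hyz : y * z = z * y) (hyx : y * gval x = gval x * y) {σ : M24} (hσ : orderOf σ = 3)
    (hey : e (QuotientGroup.mk (⟨y, Subgroup.mem_centralizer_singleton_iff.mpr hyz⟩ : cz z)) =
      QuotientGroup.mk (permW σ))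
    (hc : ∃ P : Sylow 3 ↥(Subgroup.centralizer ({z, gval x} : Set G)),
      (Subgroup.zpowers y).subgroupOf (Subgroup.centralizer ({z, gval x} : Set G)) ≤
        (Subgroup.center ↥(P : Subgroup ↥(Subgroup.centralizer ({z, gval x} : Set G)))).map
          (P : Subgroup ↥(Subgroup.centralizer ({z, gval x} : Set G))).subtype) :
    (Finset.univ.filter fun p => (σ : Equiv.Perm GolayPt) p = p).card = 6 := by
  classical
  have : Fact (Nat.Prime 3) := ⟨Nat.prime_three⟩
  set L := Subgroup.centralizer ({z, gval x} : Set G) with hL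
  have hmemL : ∀ {a : G}, a ∈ L ↔ a * z = z * a ∧ a * gval x = gval x * a := by
    intro a
    rw [hL, Subgroup.mem_centralizer_iff]
    simp only [Set.mem_insert_iff, Set.mem_singleton_iff, forall_eq_or_imp, forall_eq]
    exact ⟨fun h => ⟨h.1.symm, h.2.symm⟩, fun h => ⟨h.1.symm, h.2.symm⟩⟩
  have hcz : ∀ {a : G}, a ∈ L → a ∈ cz z := fun ha => Subgroup.mem_centralizer_singleton_iff.mpr (hmemL.mp ha).1
  have hex : ∀ l : L, ∃ cπ : golayCode × M24,
      e (QuotientGroup.mk (⟨l, hcz l.2⟩ : cz z)) = QuotientGroup.mk (sgnW cπ.1 * permW cπ.2) := by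
    intro l
    obtain ⟨γ, hγ⟩ := QuotientGroup.mk_surjective (e (QuotientGroup.mk (⟨l, hcz l.2⟩ : cz z)))
    have hc : Cong (γ • LeechEight.latE none) (LeechEight.latE none) := by
      rw [psi_cong hψ, psi_smul hψ hγ.symm hx, hx, mk_center_iff hS]
      left
      show (l : G) * gval x * (l : G)⁻¹ = gval x
      rw [(hmemL.mp l.2).2, mul_inv_cancel_right]
    obtain ⟨c, π, rfl⟩ := cong_latE_iff.mp hc
    exact ⟨(c, π), hγ.symm⟩
  choose F hF using hex
  let κ : L →* M24 := MonoidHom.mk' (fun l => (F l).2) fun a b => by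
    refine ThreeClass.mono_unique_mod (c := (F (a * b)).1) ?_ (d := (F a).1 + ⟨_, act_code (F a).2.2 (F b).1⟩)
    rw [← hF (a * b), ← mono_mul, QuotientGroup.mk_mul, ← hF a, ← hF b, ← map_mul]
    rfl
  have hκs : Function.Surjective κ := by
    intro π
    obtain ⟨c0, hc0⟩ := exists_lift_Co0 e (permW π)
    have hx0 : (QuotientGroup.mk c0 : cz z ⧸ Q) ∈ imgX Q (gval x) := by
      have h0 := (mem_map_imgX_iff hS hψ hx hx1 hxz (permW π)).mpr (cong_latE_iff.mpr ⟨0, π, by
        rw [sgnW_zero', one_mul]⟩)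
      rw [← hc0] at h0
      exact (Subgroup.mem_map_iff_mem e.injective).mp h0
    obtain ⟨d, hd, hde⟩ := hx0
    have hdL : (d : G) ∈ L := hmemL.mpr ⟨Subgroup.mem_centralizer_singleton_iff.mp d.2,
      Subgroup.mem_centralizer_singleton_iff.mp hd.2⟩
    refine ⟨⟨d, hdL⟩, ?_⟩
    refine (ThreeClass.mono_unique_mod (c := 0) (d := (F ⟨d, hdL⟩).1) ?_).symm
    show (QuotientGroup.mk (sgnW 0 * permW π) : Spor.Co1) =
      QuotientGroup.mk (sgnW (F ⟨d, hdL⟩).1 * permW (F ⟨d, hdL⟩).2)
    rw [sgnW_zero', one_mul, ← hF, ← hc0]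
    exact (congrArg e hde).symm
  have hker : IsPGroup 2 κ.ker := by
    rintro ⟨l, hl⟩
    have hl' : (F l).2 = 1 := hl
    have h2 : (⟨l, hcz l.2⟩ : cz z) * ⟨l, hcz l.2⟩ ∈ Q := by
      refine (QuotientGroup.eq_one_iff _).mp (e.injective ?_)
      rw [map_one, QuotientGroup.mk_mul, map_mul, hF, hl', show permW (1 : M24) = 1 from map_one permHom,
        mul_one, ← QuotientGroup.mk_mul, ← ThreeClass.sgnW_add', ThreeClass.sgnW_self, sgnW_zero',
        QuotientGroup.mk_one]
    obtain ⟨k, hk⟩ := hS.2.2.1.1.1 ⟨_, h2⟩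
    refine ⟨k + 1, Subtype.ext (Subtype.ext ?_)⟩
    have hk' : ((l : G) * l) ^ 2 ^ k = 1 := congrArg (fun t : Q => gval t) hk
    show (l : G) ^ 2 ^ (k + 1) = 1
    rw [pow_succ', pow_mul, pow_two]
    exact hk'
  obtain ⟨P, hP⟩ := hc
  set yL : L := ⟨y, hmemL.mpr ⟨hyz, hyx⟩⟩ with hyL
  obtain ⟨⟨y', hy'P⟩, hy'c, hy'e⟩ := hP (show yL ∈ (Subgroup.zpowers y).subgroupOf L from Subgroup.mem_zpowers y)
  have hy'eq : y' = yL := hy'e
  subst hy'eq
  have hcomm : ∀ a ∈ (P : Subgroup L), a * yL = yL * a := fun a ha =>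
    congrArg Subtype.val (Subgroup.mem_center_iff.mp hy'c ⟨a, ha⟩)
  have hκy : κ yL = σ := by
    refine (ThreeClass.mono_unique_mod (c := 0) (d := (F yL).1) ?_).symm
    show (QuotientGroup.mk (sgnW 0 * permW σ) : Spor.Co1) =
      QuotientGroup.mk (sgnW (F yL).1 * permW (F yL).2)
    rw [sgnW_zero', one_mul, ← hF, ← hey]
  -- the image of the Sylow subgroup
  have hM27 : (Nat.card M24).factorization 3 = 3 := by
    rw [natCard_M24]
    refine le_antisymm ?_ ((Nat.Prime.pow_dvd_iff_le_factorization Nat.prime_three (by norm_num)).mp (by norm_num))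
    by_contra h
    have := (Nat.Prime.pow_dvd_iff_le_factorization Nat.prime_three (by norm_num) (k := 4)).mpr (not_le.mp h)
    norm_num at this
  set P' : Subgroup M24 := (P : Subgroup L).map κ with hP'
  have hinjP : Function.Injective (κ.comp (P : Subgroup L).subtype) := by
    refine (injective_iff_map_eq_one _).mpr fun a ha => ?_
    obtain ⟨k, hk⟩ := hker ⟨(a : L), ha⟩
    obtain ⟨j, hj⟩ := P.2 a
    have h1 : orderOf (a : L) ∣ 2 ^ k := orderOf_dvd_of_pow_eq_one (congrArg Subtype.val hk)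
    have h2 : orderOf (a : L) ∣ 3 ^ j := orderOf_dvd_of_pow_eq_one (congrArg Subtype.val hj)
    have h3 := Nat.dvd_gcd h1 h2
    rw [Nat.Coprime.pow k j (by norm_num : Nat.Coprime 2 3)] at h3
    exact Subtype.ext (orderOf_eq_one_iff.mp (Nat.dvd_one.mp h3))
  have hP'card : Nat.card P' = Nat.card (P : Subgroup L) := by
    refine (Nat.card_congr (Equiv.ofBijective (fun a : (P : Subgroup L) => (⟨κ a, a, a.2, rfl⟩ : P')) ⟨?_, ?_⟩)).symm
    · exact fun a b hab => hinjP (congrArg Subtype.val hab)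
    · rintro ⟨_, a, ha, rfl⟩
      exact ⟨⟨a, ha⟩, rfl⟩
  have h27 : Nat.card P' = 27 := by
    have hd : Nat.card P' ∣ Nat.card M24 := Subgroup.card_subgroup_dvd_card P'
    rw [hP'card, P.card_eq_multiplicity] at hd ⊢
    have hdvd : Nat.card M24 ∣ Nat.card L := Subgroup.card_dvd_of_surjective κ hκs
    have hle : 3 ≤ (Nat.card L).factorization 3 := by
      have h1 := (Nat.factorization_le_iff_dvd Nat.card_pos.ne' Nat.card_pos.ne').mpr hdvd 3
      omega
    have hge : (Nat.card L).factorization 3 ≤ 3 := by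
      have h1 := (Nat.Prime.pow_dvd_iff_le_factorization Nat.prime_three Nat.card_pos.ne').mp hd
      omega
    rw [le_antisymm hge hle]
    norm_num
  -- conjugate into the standard subgroup
  obtain ⟨η, hη⟩ := MulAction.exists_smul_eq M24
    (Sylow.ofCard P' (by rw [h27, hM27]; norm_num))
    (Sylow.ofCard sylM (by rw [card_sylM, hM27]; norm_num))
  have hη' : P'.map (MulAut.conj η).toMonoidHom = sylM := by
    have := congrArg (fun S : Sylow 3 M24 => (S : Subgroup M24)) hη
    simp only [Sylow.coe_subgroup_smul, Sylow.coe_ofCard] at this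
    exact this
  have hτ : η * σ * η⁻¹ ∈ Subgroup.zpowers tri := by
    have hσP : σ ∈ P' := ⟨yL, hy'P, hκy⟩
    refine center_sylM (hη' ▸ ⟨σ, hσP, rfl⟩) fun τ hτ => ?_
    rw [← hη'] at hτ
    obtain ⟨_, ⟨a, ha, rfl⟩, rfl⟩ := hτ
    show η * σ * η⁻¹ * (η * κ a * η⁻¹) = η * κ a * η⁻¹ * (η * σ * η⁻¹)
    calc η * σ * η⁻¹ * (η * κ a * η⁻¹) = η * (κ yL * κ a) * η⁻¹ := by rw [hκy]; group
      _ = η * (κ a * κ yL) * η⁻¹ := by rw [← map_mul, ← map_mul, hcomm a ha]
      _ = _ := by rw [hκy]; group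
  have hne : η * σ * η⁻¹ ≠ 1 := by
    intro h
    have : σ = 1 := by
      calc σ = η⁻¹ * (η * σ * η⁻¹) * η := by group
        _ = 1 := by rw [h]; group
    rw [this, orderOf_one] at hσ
    norm_num at hσ
  have hcount : (Finset.univ.filter fun p => ((η * σ * η⁻¹ : M24) : Equiv.Perm GolayPt) p = p).card = 6 := by
    obtain ⟨i, hi⟩ := (Submonoid.mem_powers_iff _ _).mp
      ((isOfFinOrder_of_finite tri).mem_powers_iff_mem_zpowers.mpr hτ)
    rw [← hi] at hne ⊢
    have htri : ∀ j : Fin 3, j ≠ 0 →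
        (Finset.univ.filter fun p => (triP ^ j.val) p = p).card = 6 := by decide +kernel
    rw [← Nat.mod_add_div i 3, pow_add, pow_mul, tri_pow_three, one_pow, mul_one] at hne ⊢
    exact htri ⟨i % 3, Nat.mod_lt _ (by norm_num)⟩ fun h => hne (by
      rw [show i % 3 = 0 from congrArg Fin.val h, pow_zero])
  rw [← hcount]
  refine Finset.card_bij (fun p _ => (η : Equiv.Perm GolayPt) p) (fun p hp => ?_)
    (fun a _ b _ hab => (η : Equiv.Perm GolayPt).injective hab) fun q hq =>
      ⟨(η : Equiv.Perm GolayPt).symm q, ?_, Equiv.apply_symm_apply _ _⟩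
  · simp only [Finset.mem_filter, Finset.mem_univ, true_and] at hp ⊢
    simp [Equiv.Perm.mul_apply, hp]
  · simp only [Finset.mem_filter, Finset.mem_univ, true_and, Subgroup.coe_mul, Subgroup.coe_inv,
      Equiv.Perm.mul_apply, Equiv.Perm.inv_def] at hq ⊢
    exact (Equiv.eq_symm_apply _).mpr (Finset.mem_filter.mp hq).2

/-- The main statement. -/
theorem large_fischer_type (hM : IsOfMonsterType z Q) (s : G)
    (hsQ : ∃ hsc : s ∈ cz z, (⟨s, hsc⟩ : cz z) ∈ Q) (hs : IsConj z s) (hs1 : s ≠ z) (Y : Subgroup G)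
    (hY : Y ≤ Subgroup.centralizer ({z, s} : Set G)) (hY3 : Nat.card Y = 3)
    (hc : ∃ P : Sylow 3 ↥(Subgroup.centralizer ({z, s} : Set G)),
      Y.subgroupOf (Subgroup.centralizer ({z, s} : Set G)) ≤
        (Subgroup.center ↥(P : Subgroup ↥(Subgroup.centralizer ({z, s} : Set G)))).map
          (P : Subgroup ↥(Subgroup.centralizer ({z, s} : Set G))).subtype)
    [hn : (Y.subgroupOf (Subgroup.centralizer (Y : Set G))).Normal] :
    IsOfLargeFischerType (↥(Subgroup.centralizer (Y : Set G)) ⧸ Y.subgroupOf (Subgroup.centralizer (Y : Set G))) := by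
  classical
  have : Fact (Nat.Prime 3) := ⟨Nat.prime_three⟩
  have := CfsgLib.Golay.co0_finite
  obtain ⟨y, hYy⟩ : ∃ a : G, Y = Subgroup.zpowers a := by
    obtain ⟨y, hyY⟩ := isCyclic_iff_exists_zpowers_eq_top.mp (isCyclic_of_prime_card (α := Y) hY3)
    refine ⟨y, ?_⟩
    have := congrArg (Subgroup.map Y.subtype) hyY
    rw [MonoidHom.map_zpowers, ← MonoidHom.range_eq_map, Subgroup.range_subtype] at this
    exact this.symm
  subst hYy
  have hy : orderOf y = 3 := by rw [← Nat.card_zpowers, hY3]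
  have hyL := hY (Subgroup.mem_zpowers y)
  rw [Subgroup.mem_centralizer_iff] at hyL
  have hyz : y * z = z * y := (hyL z (Or.inl rfl)).symm
  have hys : y * s = s * y := (hyL s (Or.inr rfl)).symm
  obtain ⟨hS, e, ψ, hψ⟩ := hM
  obtain ⟨hsc, hsQ⟩ := hsQ
  set x : Q := ⟨⟨s, hsc⟩, hsQ⟩ with hx
  obtain ⟨e', ψ', σ, hψ', hx', hσ, hey⟩ := ThreeClass.exists_perm_form hS hψ (x := x) hs hs1 hy hyz hys
  have hx1 : gval x ≠ 1 := by
    intro h
    obtain ⟨g, hg⟩ := isConj_iff.mp hs
    have hs' : s = 1 := h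
    rw [hs', mul_inv_eq_one, mul_eq_left] at hg
    have := hS.1
    rw [hg, orderOf_one] at this
    norm_num at this
  have h6 := six_fixed hS hψ' hx' hs1 hx1 hy hyz hys hσ hey hc
  have hσ' : orderOf (σ : Equiv.Perm GolayPt) = 3 := (Subgroup.orderOf_coe σ).trans hσ
  obtain ⟨-, g, hg, hgl⟩ := (CfsgLib.Golay.Classes.three_cases σ.2 hσ').resolve_right fun h => by rw [h6] at h; omega
  set π : M24 := ⟨g, hg⟩ with hπ
  have hσπ : π * σ * π⁻¹ = tri := Subtype.ext (CfsgLib.Golay.toList_injective (by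
    show CfsgLib.Golay.toList (g * (σ : Equiv.Perm GolayPt) * g⁻¹) = CfsgLib.Golay.toList triP
    rw [hgl, toList_triP]
    rfl))
  set γ : Co0 := permW π⁻¹ with hγ
  have hey' : (e'.trans (MulAut.conj (QuotientGroup.mk γ : Spor.Co1)⁻¹))
      (QuotientGroup.mk (⟨y, Subgroup.mem_centralizer_singleton_iff.mpr hyz⟩ : cz z)) = QuotientGroup.mk triW := by
    show (MulAut.conj (QuotientGroup.mk γ : Spor.Co1)⁻¹) (e' _) = _
    rw [hey, MulAut.conj_apply, inv_inv, ← QuotientGroup.mk_inv, ← QuotientGroup.mk_mul, ← QuotientGroup.mk_mul]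
    congr 1
    rw [hγ, triW, ← hσπ, permW_mul', permW_mul', ← permHom_apply π⁻¹, map_inv, inv_inv, permHom_apply]
  have h3f : Fact (Nat.Prime 3) := ⟨Nat.prime_three⟩
  let K := GaloisField 3 2
  haveI : Fintype K := Fintype.ofFinite K
  have hK : Fintype.card K = 3 ^ 2 := by
    rw [← Nat.card_eq_fintype_card, GaloisField.card 3 2 (by norm_num)]
  obtain ⟨hact, hcore, NL, ML, hNn, hMn, hL, hNM, hN3, hM2, hLs, hLk⟩ := exists_quot hK
  obtain ⟨zb, R, hR, hset, ⟨e''⟩⟩ := setting_of_lattice hS (iso_twist hψ' γ) (p := 3) (by norm_num) hy hyz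
    triW_pow_three hey' coord (k := 6) (by norm_num) (by norm_num) (QuotientGroup.mk' kerK)
    (QuotientGroup.mk'_surjective _) (by rw [QuotientGroup.ker_mk', card_kerK])
    (fun γ hγ => (QuotientGroup.eq_one_iff γ).mpr (hact _ (mem_actKer_of_rho hγ))) hcore (x := x) hs hs1 hys.symm
  let f : cz zb →* centK ⧸ kerK := e''.toMonoidHom.comp (QuotientGroup.mk' R)
  have hfs : Function.Surjective f := e''.surjective.comp (QuotientGroup.mk'_surjective R)
  have hfk : f.ker = R := by
    ext a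
    show e'' (QuotientGroup.mk a) = 1 ↔ a ∈ R
    rw [map_eq_one_iff _ e''.injective, QuotientGroup.eq_one_iff]
  have hRN : R ≤ NL.comap f := fun a ha => by
    show f a ∈ NL
    rw [show f a = 1 from (hfk.symm ▸ ha : a ∈ f.ker)]
    exact one_mem _
  refine ⟨zb, R, hR, hset, NL.comap f, ML.comap f, hNn.comap f, hMn.comap f, hRN, Subgroup.comap_mono hNM, ?_,
    ⟨K, inferInstance, inferInstance, hK, ?_⟩, ?_⟩
  · have h1 := Subgroup.card_mul_index (NL.comap f)
    have h2 := Subgroup.card_mul_index NL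
    have h3 := Subgroup.card_mul_index R
    rw [Subgroup.index_comap_of_surjective _ hfs] at h1
    have h4 : Nat.card (centK ⧸ kerK) = R.index := Nat.card_congr e''.toEquiv.symm
    rw [hN3, h4] at h2
    rw [← h2] at h3
    have hpos : 0 < NL.index := Nat.pos_of_ne_zero Subgroup.index_ne_zero_of_finite
    refine Nat.eq_of_mul_eq_mul_right hpos (h1.trans ?_)
    rw [← h3]
    ring
  · let g : ↥(ML.comap f) →* Cfsg.PSU 4 K 3 := hL.comp (f.subgroupComap ML)
    have hgs : Function.Surjective g := hLs.comp fun b => by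
      obtain ⟨a, ha⟩ := hfs b
      exact ⟨⟨a, show f a ∈ ML by rw [ha]; exact b.2⟩, Subtype.ext ha⟩
    have hgk : g.ker = (NL.comap f).subgroupOf (ML.comap f) := by
      ext a
      exact hLk _
    exact ⟨(QuotientGroup.quotientMulEquivOfEq hgk.symm).trans (QuotientGroup.quotientKerEquivOfSurjective g hgs)⟩
  · rw [Subgroup.index_comap_of_surjective _ hfs, hM2]

end CfsgLib.MonsterType.Three
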