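import Cfsg.Agent.Lib.MonsterType.Three.Lattice
import Cfsg.Agent.Lib.Schur.GolaySearch
import Cfsg.Agent.Lib.Golay.Orbits

/-! The centraliser of the permutation in the group of the code, the code words it fixes, and a subgroup
of order 27 with centre generated by it. -/

set_option autoImplicit false
set_option maxRecDepth 20000

namespace CfsgLib.MonsterType.Three

open Cfsg CfsgLib.Golay CfsgLib.Schur.GolaySearch

/-! ### The centraliser of the permutation -/

/-- The permutations in the group commuting with the permutation. -/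
def centPerm : Subgroup (Equiv.Perm GolayPt) := M24 ⊓ Subgroup.centralizer {triP}

theorem mem_centPerm {σ : Equiv.Perm GolayPt} : σ ∈ centPerm ↔ σ ∈ M24 ∧ σ * triP = triP * σ :=
  and_congr_right fun _ => Subgroup.mem_centralizer_singleton_iff

/-- The point fixed in the search. -/
def basePt : GolayPt := pt 13

theorem stages_ok : stagesOK triL 0 stages = true := by decide +kernel

/-- Whether a position is fixed. -/
def fixedPos (y : ℕ) : Bool := triL.getD y 0 == y

theorem stages_cands : (stages.all fun s => match s.1.head? with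
    | none => false
    | some c => decide (c < 24) && (List.range 24).all fun y =>
      !((fixedPos y == fixedPos c) && (c != 13 || y == 13)) || s.2.2.contains y) = true := by decide +kernel

theorem stabList_length : (searchImg triL 0 stages (List.replicate 24 0)).length = 60 := by decide +kernel

theorem toList_mem_search {σ : Equiv.Perm GolayPt} (hσ : σ ∈ centPerm) (h13 : σ basePt = basePt) :
    toList σ ∈ searchImg triL 0 stages (List.replicate 24 0) := by
  obtain ⟨hm, hc⟩ := mem_centPerm.mp hσ
  refine mem_searchImg_start hm (mul_inv_eq_iff_eq_mul.mpr hc) toList_triP toList_triP stages_ok fun s hs c hhead => ?_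
  have h := List.all_eq_true.mp stages_cands s hs
  simp only [hhead, Bool.and_eq_true, decide_eq_true_eq, List.all_eq_true, List.mem_range] at h
  obtain ⟨hc24, hy⟩ := h
  obtain ⟨p, rfl⟩ : ∃ p, (idx p).val = c := ⟨pt ⟨c, hc24⟩, by rw [idx_pt]⟩
  rw [toList_getD]
  have hfix : ∀ q, fixedPos (idx q).val = decide (triP q = q) := fun q => by
    rw [fixedPos, ← toList_triP, toList_getD, Bool.beq_eq_decide_eq]
    exact decide_eq_decide.mpr ⟨fun e => idx_injective (Fin.ext e), fun e => by rw [e]⟩
  have hiff : triP (σ p) = σ p ↔ triP p = p := by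
    rw [show triP (σ p) = σ (triP p) from (congrArg (· p) hc).symm]
    exact σ.injective.eq_iff
  have h1 := hy (idx (σ p)).val (idx (σ p)).isLt
  simp only [hfix, Bool.or_eq_true, Bool.not_eq_true', Bool.and_eq_false_iff, bne_iff_ne, beq_eq_false_iff_ne,
    beq_iff_eq, List.contains_iff_mem, ne_eq, decide_eq_decide] at h1
  rcases h1 with (h2 | h2) | h2
  · exact absurd hiff h2
  · exfalso
    simp only [Bool.or_eq_false_iff, bne_eq_false_iff_eq, beq_eq_false_iff_ne, ne_eq] at h2
    refine h2.2 ?_
    have hp : p = basePt := idx_injective (Fin.ext (by rw [h2.1]; rfl))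
    rw [hp, h13]
    rfl
  · exact h2

/-- The order of the centraliser of the permutation in the group of the code is at most 1080. -/
theorem card_centPerm_le : Nat.card centPerm ≤ 1080 := by
  classical
  have h1 : (MulAction.orbit centPerm basePt).ncard ≤ 18 := by
    refine le_trans (Set.ncard_le_ncard (t := {q : GolayPt | triP q ≠ q}) ?_ (Set.toFinite _)) (le_of_eq ?_)
    · rintro _ ⟨⟨σ, hσ⟩, rfl⟩
      show triP (σ basePt) ≠ σ basePt
      rw [show triP (σ basePt) = σ (triP basePt) from (congrArg (· basePt) (mem_centPerm.mp hσ).2).symm, ne_eq,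
        σ.injective.eq_iff]
      decide +kernel
    · rw [Set.ncard_eq_toFinset_card']
      decide +kernel
  have h2 : Nat.card (MulAction.stabilizer centPerm basePt) ≤ 60 := by
    rw [← stabList_length]
    refine le_trans ?_ (List.toFinset_card_le _)
    rw [← Nat.card_eq_finsetCard]
    refine Nat.card_le_card_of_injective
      (fun σ => ⟨toList ((σ : centPerm) : Equiv.Perm GolayPt), List.mem_toFinset.mpr
        (toList_mem_search σ.1.2 σ.2)⟩) fun a b h => ?_
    exact Subtype.ext (Subtype.ext (toList_injective (congrArg Subtype.val h)))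
  have h3 := (MulAction.stabilizer centPerm basePt).card_mul_index
  rw [MulAction.index_stabilizer] at h3
  rw [← h3]
  exact (Nat.mul_le_mul h2 h1).trans (by norm_num)

/-! ### Fixed code words -/

theorem fixK_spec : ((List.range 4096).all fun k => !((List.range 24).all fun i =>
    (codeWord k).testBit (triL.getD i 0) == (codeWord k).testBit i) || fixK.contains k) = true := by
  decide +kernel

theorem fixK_inv : ∀ k ∈ fixK, ∀ p : GolayPt,
    (codeWord k).testBit (idx (triP.symm p)).val = (codeWord k).testBit (idx p).val := by decide +kernel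

theorem fixK_length : fixK.length = 64 := by decide +kernel

theorem fixK_zero : (0 ∈ fixK ∧ 4095 ∈ fixK) := by decide +kernel

/-! ### A subgroup of order 27 -/

theorem sylL_gen : ∀ l ∈ sylL, genOK l = true := by decide +kernel

theorem sylL_one : List.range 24 ∈ sylL := by decide +kernel

theorem sylL_mul : ∀ a ∈ sylL, ∀ b ∈ sylL, comp a b ∈ sylL := by decide +kernel

theorem sylL_cube : ∀ a ∈ sylL, comp a (comp a a) = List.range 24 := by decide +kernel

theorem sylL_center : ∀ a ∈ sylL, (∀ b ∈ sylL, comp a b = comp b a) →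
    a = List.range 24 ∨ a = triL ∨ a = comp triL triL := by decide +kernel

theorem sylL_nodup : sylL.Nodup ∧ sylL.length = 27 ∧ triL ∈ sylL := by decide +kernel

/-- A subgroup of order 27. -/
def sylM : Subgroup M24 where
  carrier := {σ | toList (σ : Equiv.Perm GolayPt) ∈ sylL}
  one_mem' := by
    show toList _ ∈ sylL
    rw [OneMemClass.coe_one, toList_one]
    exact sylL_one
  mul_mem' {a b} ha hb := by
    show toList _ ∈ sylL
    rw [MulMemClass.coe_mul, toList_mul]
    exact sylL_mul _ ha _ hb
  inv_mem' {a} ha := by
    have h : (a : Equiv.Perm GolayPt)⁻¹ = a * a := by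
      refine inv_eq_of_mul_eq_one_right (toList_injective ?_)
      rw [toList_mul, toList_mul, sylL_cube _ ha, toList_one]
    show toList _ ∈ sylL
    rw [InvMemClass.coe_inv, h, toList_mul]
    exact sylL_mul _ ha _ ha

theorem mem_sylM {σ : M24} : σ ∈ sylM ↔ toList (σ : Equiv.Perm GolayPt) ∈ sylL := Iff.rfl

theorem card_sylM : Nat.card sylM = 27 := by
  classical
  rw [← sylL_nodup.2.1, ← List.toFinset_card_of_nodup sylL_nodup.1, ← Nat.card_eq_finsetCard]
  refine Nat.card_congr (Equiv.ofBijective
    (fun σ => ⟨toList ((σ : M24) : Equiv.Perm GolayPt), List.mem_toFinset.mpr σ.2⟩) ⟨?_, ?_⟩)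
  · intro a b h
    exact Subtype.ext (Subtype.ext (toList_injective (congrArg Subtype.val h)))
  · rintro ⟨l, hl⟩
    rw [List.mem_toFinset] at hl
    obtain ⟨τ, hτ, rfl⟩ := exists_perm (sylL_gen l hl)
    exact ⟨⟨⟨τ, hτ⟩, hl⟩, rfl⟩

theorem tri_mem_sylM : tri ∈ sylM := by
  rw [mem_sylM, show (tri : Equiv.Perm GolayPt) = triP from rfl, toList_triP]
  exact sylL_nodup.2.2

theorem center_sylM {σ : M24} (hσ : σ ∈ sylM) (h : ∀ τ ∈ sylM, σ * τ = τ * σ) :
    σ ∈ Subgroup.zpowers tri := by
  have hc : ∀ b ∈ sylL, comp (toList (σ : Equiv.Perm GolayPt)) b = comp b (toList (σ : Equiv.Perm GolayPt)) := by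
    intro b hb
    obtain ⟨τ, hτ, rfl⟩ := exists_perm (sylL_gen b hb)
    rw [← toList_mul, ← toList_mul]
    exact congrArg toList (congrArg Subtype.val (h ⟨τ, hτ⟩ hb))
  rcases sylL_center _ hσ hc with e | e | e
  · rw [show σ = 1 from Subtype.ext (toList_injective (e.trans toList_one.symm))]
    exact one_mem _
  · rw [show σ = tri from Subtype.ext (toList_injective (e.trans toList_triP.symm))]
    exact Subgroup.mem_zpowers _
  · rw [show σ = tri * tri from Subtype.ext (toList_injective (e.trans (by
      rw [MulMemClass.coe_mul, toList_mul, show (tri : Equiv.Perm GolayPt) = triP from rfl, toList_triP])))]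
    exact mul_mem (Subgroup.mem_zpowers _) (Subgroup.mem_zpowers _)

end CfsgLib.MonsterType.Three
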