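import Cfsg.Agent.Lib.MonsterType.Three.PsuTab
import Cfsg.Agent.Lib.Sporadic.ConwayPsu43.Iso

/-! The centraliser modulo its kernel: a normal subgroup of index 2 with a map onto `PSU₄(3)`, read off from
the blocks of a partition of the classes with squared length 48. -/

set_option autoImplicit false
set_option maxRecDepth 20000
set_option linter.unusedSectionVars false

namespace CfsgLib.MonsterType.Three

open Matrix
open Cfsg CfsgLib.Golay CfsgLib.Golay.LeechOrbit CfsgLib.Sporadic CfsgLib.ClassicalGroups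

/-! ### The commutation with the scalar -/

/-- The elements commuting with the scalar on coordinates. -/
def commT : Subgroup centK where
  carrier := {x | ∀ c, act x (act (gEl 4) c) = act (gEl 4) (act x c)}
  one_mem' c := by rw [act_one, act_one]
  mul_mem' {a b} ha hb c := by rw [act_mul, hb, ha, act_mul]
  inv_mem' {a} ha c := by
    conv_lhs => rw [show c = act a (act a⁻¹ c) by rw [← act_mul, mul_inv_cancel, act_one]]
    rw [← ha, ← act_mul a⁻¹ a, inv_mul_cancel, act_one]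

theorem actKer_le_commT : actKer ≤ commT := fun x hx c => by rw [hx, hx]

theorem gEl_commT (k : Fin 4) : gEl (k.castLE (by norm_num)) ∈ commT := fun c => by
  rw [← decC_codeC c]
  have h := comm_img k (codeC_lt c)
  rw [commTest, beq_iff_eq] at h
  rw [act_gEl _ (codeC_lt c), act_gEl _ (img_lt _ _ (codeC_lt c)), act_gEl _ (codeC_lt c),
    act_gEl _ (img_lt _ _ (codeC_lt c)), h]

theorem gEl_five_not_commT : gEl 5 ∉ commT := by
  intro h
  obtain ⟨j, hj, hne⟩ := List.any_eq_true.mp not_comm_img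
  rw [List.mem_range] at hj
  have hlt : 2 ^ j < 4096 := lt_of_lt_of_le (Nat.pow_lt_pow_right (by norm_num) hj) (by norm_num)
  have h2 := h (decC (2 ^ j))
  rw [act_gEl _ hlt, act_gEl _ (img_lt _ _ hlt), act_gEl _ hlt, act_gEl _ (img_lt _ _ hlt)] at h2
  have h3 := congrArg codeC h2
  rw [codeC_decC (img_lt _ _ (img_lt _ _ hlt)), codeC_decC (img_lt _ _ (img_lt _ _ hlt))] at h3
  simp [h3] at hne

theorem gEl_four_not_mem : gEl 4 ∉ actKer ∧ gEl 4 ^ 2 ∉ actKer := by
  obtain ⟨h1, h2⟩ := move_img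
  constructor <;> intro h
  · obtain ⟨j, hj, hne⟩ := List.any_eq_true.mp h1
    rw [List.mem_range] at hj
    have hlt : 2 ^ j < 4096 := lt_of_lt_of_le (Nat.pow_lt_pow_right (by norm_num) hj) (by norm_num)
    have h3 := congrArg codeC (h (decC (2 ^ j)))
    rw [act_gEl _ hlt, codeC_decC (img_lt _ _ hlt), codeC_decC hlt] at h3
    simp [h3] at hne
  · obtain ⟨j, hj, hne⟩ := List.any_eq_true.mp h2
    rw [List.mem_range] at hj
    have hlt : 2 ^ j < 4096 := lt_of_lt_of_le (Nat.pow_lt_pow_right (by norm_num) hj) (by norm_num)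
    have h3 := congrArg codeC (h (decC (2 ^ j)))
    rw [pow_two, act_mul, act_gEl _ hlt, act_gEl _ (img_lt _ _ hlt),
      codeC_decC (img_lt _ _ (img_lt _ _ hlt)), codeC_decC hlt] at h3
    simp [h3] at hne

section Model

variable {F : Type*} [Field F] [Fintype F] (hF : Fintype.card F = 3 ^ 2) {w : F} (hw : w ^ 2 = -1)

/-- An element of the centraliser permutes the blocks as a unitary class permutes the lines. -/
def Rel (w : F) (x : centK) (q : Cfsg.PSU 4 F 3) : Prop :=
  ∃ M : Cfsg.SU 4 F 3, QuotientGroup.mk M = q ∧ ∀ i < 112, ∃ j < 112,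
    (∀ c < 4096, blk c = i + 1 → blk (codeC (act x (decC c))) = j + 1) ∧
    ∀ y ∈ ConwayPsu43.line w i, M.1.1 *ᵥ y ∈ ConwayPsu43.line w j

theorem rel_one : Rel (F := F) w 1 1 :=
  ⟨1, rfl, fun i hi => ⟨i, hi, fun c hc h => by rw [act_one, codeC_decC hc]; exact h,
    fun y hy => by rwa [SU_one_mulVec]⟩⟩

theorem rel_mul {x x' : centK} {q q' : Cfsg.PSU 4 F 3} (h : Rel w x q) (h' : Rel w x' q') :
    Rel w (x * x') (q * q') := by
  obtain ⟨M, rfl, hM⟩ := h
  obtain ⟨M', rfl, hM'⟩ := h'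
  refine ⟨M * M', rfl, fun i hi => ?_⟩
  obtain ⟨j, hj, hc, hl⟩ := hM' i hi
  obtain ⟨l, hl', hc', hl''⟩ := hM j hj
  refine ⟨l, hl', fun c hc4 h => ?_, fun y hy => ?_⟩
  · have := hc' _ (codeC_lt _) (hc c hc4 h)
    rwa [decC_codeC, ← act_mul] at this
  · have := hl'' _ (hl y hy)
    rwa [Matrix.mulVec_mulVec] at this

theorem rel_scalar : Rel (F := F) w (gEl 4) 1 := by
  refine ⟨1, rfl, fun i hi => ⟨i, hi, fun c hc h => ?_, fun y hy => by rwa [SU_one_mulVec]⟩⟩
  have h1 := of_allFrom_zero fixes_blk hc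
  simp only [h, Bool.or_eq_true, beq_iff_eq, Nat.succ_ne_zero, false_or] at h1
  rw [act_gEl _ hc, codeC_decC (img_lt _ _ hc), h1]

theorem rel_kerK {x : centK} (hx : x ∈ actKer) : Rel (F := F) w x 1 :=
  ⟨1, rfl, fun i hi => ⟨i, hi, fun c hc h => by rw [hx, codeC_decC hc]; exact h,
    fun y hy => by rwa [SU_one_mulVec]⟩⟩

include hF hw

theorem rel_gen (k : Fin 4) {A : Cfsg.SU 4 F 3}
    (hA : A.1.1 = Cfsg.unitaryTransvection 4 3 (ConwayPsu43.vec w (ConwayPsu43.gVecs.getD k 0))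
      (ConwayPsu43.el w (ConwayPsu43.gPar.getD k 0))) :
    Rel w (gEl (k.castLE (by norm_num))) (QuotientGroup.mk A) := by
  refine ⟨A, rfl, fun i hi => ?_⟩
  have hr := of_allFrom_zero blkRep_ok hi
  simp only [Bool.and_eq_true, beq_iff_eq, Nat.blt_eq] at hr
  have hmove : ∀ c < 4096, blk c = i + 1 → ConwayPsu43.succT.get (112 * k.val + i) < 112 ∧
      blk (img (k.castLE (by norm_num)) c) = ConwayPsu43.succT.get (112 * k.val + i) + 1 := fun c hc h => by
    have h1 := moves_blk k hc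
    simp only [moveTest, forceN_eq, h, Nat.add_sub_cancel, Bool.or_eq_true, beq_iff_eq, Nat.succ_ne_zero,
      false_or, Bool.and_eq_true, Nat.blt_eq] at h1
    exact h1
  refine ⟨_, (hmove _ hr.2 hr.1).1, fun c hc h => ?_, ?_⟩
  · rw [act_gEl _ hc, codeC_decC (img_lt _ _ hc)]
    exact (hmove c hc h).2
  · have h := of_allFrom_zero (moves_line k) hi
    simp only [lineTest, forceN_eq, Bool.and_eq_true] at h
    intro y hy
    have hy' : y ∈ (ConwayPsu43.line w (ConwayPsu43.succT.get (112 * k.val + i))).comap A.1.1.mulVecLin := by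
      refine Submodule.span_le.2 ?_ hy
      rintro z (rfl | rfl) <;>
        simp only [SetLike.mem_coe, Submodule.mem_comap, Matrix.mulVecLin_apply, hA,
          unitaryTransvection_mulVec, ← ConwayPsu43.vecF_tvC hF hw]
      exacts [ConwayPsu43.mem_line hF hw h.1, ConwayPsu43.mem_line hF hw h.2]
    exact hy'

theorem not_rel_one {A : Cfsg.SU 4 F 3}
    (hA : A.1.1 = Cfsg.unitaryTransvection 4 3 (ConwayPsu43.vec w (ConwayPsu43.gVecs.getD 0 0))
      (ConwayPsu43.el w (ConwayPsu43.gPar.getD 0 0))) :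
    ¬ Rel w (1 : centK) (QuotientGroup.mk A : Cfsg.PSU 4 F 3) := by
  rintro ⟨M, hMA, hM⟩
  obtain ⟨j, hj, hblk, hj'⟩ := hM 0 (by norm_num)
  have hr := of_allFrom_zero blkRep_ok (show 0 < 112 by norm_num)
  simp only [Bool.and_eq_true, beq_iff_eq, Nat.blt_eq] at hr
  have hj0 := hblk _ hr.2 hr.1
  rw [act_one, codeC_decC hr.2, hr.1] at hj0
  obtain rfl : j = 0 := by omega
  obtain ⟨a, happ⟩ := ConwayPsu43.center_scalar hF hw (QuotientGroup.eq.1 hMA)
  have hf := ConwayPsu43.first_ok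
  simp only [Bool.and_eq_true, Bool.not_eq_true', beq_iff_eq, beq_eq_false_iff_ne] at hf
  have hperp : ∀ y ∈ ConwayPsu43.line w 0,
      Cfsg.hermForm 4 F 3 y (ConwayPsu43.vec w (ConwayPsu43.base1 0)) = 0 := by
    intro y hy
    induction hy using Submodule.span_induction with
    | mem z hz' =>
      rcases hz' with rfl | rfl <;> rw [ConwayPsu43.herm_vec hF hw]
      · rw [hf.1.1]; simp [ConwayPsu43.el]
      · rw [hf.1.2]; simp [ConwayPsu43.el]
    | zero => exact hermForm_zero_left _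
    | add p r _ _ hp hr => rw [hermForm_add_left, hp, hr, add_zero]
    | smul c p _ hp => rw [hermForm_smul_left, hp, mul_zero]
  have hmem : A.1.1 *ᵥ ConwayPsu43.vec w (ConwayPsu43.base1 0) ∈ ConwayPsu43.line w 0 := by
    rw [show A = M * (M⁻¹ * A) from (mul_inv_cancel_left M A).symm, SU_mul_mulVec, happ]
    exact hj' _ (Submodule.smul_mem _ _ (Submodule.subset_span (by simp)))
  have h1 := hperp _ hmem
  rw [hA, unitaryTransvection_mulVec, ← ConwayPsu43.vecF_tvC hF hw,
    show ConwayPsu43.vec w (ConwayPsu43.base1 0) = ConwayPsu43.vecF w (ConwayPsu43.coord (ConwayPsu43.base1 0))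
      from rfl, ConwayPsu43.herm_vecF hF hw] at h1
  exact hf.2 (ConwayPsu43.el_eq_zero hF hw (ConwayPsu43.hermC_lt _ _) h1)

/-- A subgroup of index 2 mapping onto `PSU₄(3)` with kernel of order 18. -/
theorem exists_layer : ∃ (MG : Subgroup centK) (h : MG →* Cfsg.PSU 4 F 3), Function.Surjective h ∧
    MG.index = 2 ∧ MG ≤ commT ∧ Nat.card h.ker = 18 ∧ (∃ ht : gEl 4 ∈ MG, h ⟨gEl 4, ht⟩ = 1) ∧
    ∀ x ∈ kerK, ∃ hx : x ∈ MG, h ⟨x, hx⟩ = 1 := by
  classical
  have := CfsgLib.Golay.co0_finite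
  have hfinQ : Finite (Cfsg.PSU 4 F 3) :=
    Nat.finite_of_card_ne_zero (by rw [ConwayPsu43.card_psu hF hw]; norm_num)
  have hsimple := psu_isSimpleGroup (n := 4) hF (by norm_num) (by norm_num)
  choose t ht using ConwayPsu43.exists_gen hF hw
  let S : Set (centK × Cfsg.PSU 4 F 3) :=
    (Set.range fun k : Fin 4 => (gEl (k.castLE (by norm_num)), (QuotientGroup.mk (t k) : Cfsg.PSU 4 F 3))) ∪
      ((fun x => (x, (1 : Cfsg.PSU 4 F 3))) '' (insert (gEl 4) (kerK : Set centK)))
  let P := Subgroup.closure S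
  have hS : ∀ p ∈ S, Rel w p.1 p.2 ∧ p.1 ∈ commT := by
    rintro p (⟨k, rfl⟩ | ⟨x, hx, rfl⟩)
    · exact ⟨rel_gen hF hw k (ht k).1, gEl_commT k⟩
    · rcases hx with rfl | hx
      · exact ⟨rel_scalar, fun c => rfl⟩
      · exact ⟨rel_kerK (kerK_le_actKer hx), actKer_le_commT (kerK_le_actKer hx)⟩
  have hR : ∀ p ∈ P, Rel w p.1 p.2 ∧ p.1 ∈ commT := by
    intro p hp
    rw [← Subgroup.mem_toSubmonoid, show P.toSubmonoid = Submonoid.closure S from
      Subgroup.closure_toSubmonoid_of_finite] at hp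
    induction hp using Submonoid.closure_induction with
    | mem p hp => exact hS p hp
    | one => exact ⟨rel_one, one_mem _⟩
    | mul a b _ _ ha hb => exact ⟨rel_mul ha.1 hb.1, mul_mem ha.2 hb.2⟩
  let f : P →* centK := (MonoidHom.fst _ _).comp P.subtype
  let p₂ : P →* Cfsg.PSU 4 F 3 := (MonoidHom.snd _ _).comp P.subtype
  have hsurj : Function.Surjective p₂ := by
    rw [← MonoidHom.range_eq_top, eq_top_iff, ← ConwayPsu43.closure_gens hF hw t ht, Subgroup.closure_le]
    rintro _ ⟨k, rfl⟩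
    exact ⟨⟨_, Subgroup.subset_closure (Or.inl ⟨k, rfl⟩)⟩, rfl⟩
  have hnorm : (f.ker.map p₂).Normal := (inferInstance : f.ker.Normal).map p₂ hsurj
  have hbot : f.ker.map p₂ = ⊥ := by
    rcases IsSimpleGroup.eq_bot_or_eq_top_of_normal _ hnorm with h | h
    · exact h
    · obtain ⟨⟨⟨g, q'⟩, hmem⟩, hker, hpq⟩ :=
        (h ▸ Subgroup.mem_top _ : (QuotientGroup.mk (t 0) : Cfsg.PSU 4 F 3) ∈ f.ker.map p₂)
      have e1 : g = 1 := hker
      have e2 : q' = QuotientGroup.mk (t 0) := hpq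
      subst e1 e2
      exact absurd (hR _ hmem).1 (not_rel_one hF hw (ht 0).1)
  have hinj : Function.Injective f := by
    refine (injective_iff_map_eq_one f).2 fun p hp => ?_
    have h2 : p₂ p ∈ f.ker.map p₂ := ⟨p, hp, rfl⟩
    rw [hbot, Subgroup.mem_bot] at h2
    exact Subtype.ext (Prod.ext hp h2)
  let MG := f.range
  let e : P ≃* MG := MonoidHom.ofInjective hinj
  let h : MG →* Cfsg.PSU 4 F 3 := p₂.comp e.symm.toMonoidHom
  have hfeq : ∀ (p : P) (hp : f p ∈ MG), h ⟨f p, hp⟩ = p₂ p := fun p hp => by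
    show p₂ (e.symm ⟨f p, hp⟩) = p₂ p
    rw [show (⟨f p, hp⟩ : MG) = e p from Subtype.ext rfl, e.symm_apply_apply]
  have hone : ∀ x ∈ insert (gEl 4) (kerK : Set centK), ∃ hx : x ∈ MG, h ⟨x, hx⟩ = 1 := fun x hx => by
    let p : P := ⟨(x, 1), Subgroup.subset_closure (Or.inr ⟨x, hx, rfl⟩)⟩
    exact ⟨⟨p, rfl⟩, hfeq p ⟨p, rfl⟩⟩
  have hhs : Function.Surjective h := fun q => by
    obtain ⟨p, rfl⟩ := hsurj q
    exact ⟨e p, by show p₂ (e.symm (e p)) = _; rw [e.symm_apply_apply]⟩
  have hcT : MG ≤ commT := by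
    rintro _ ⟨p, rfl⟩
    exact (hR _ p.2).2
  -- counting
  have hne : MG ≠ ⊤ := fun e' => gEl_five_not_commT (hcT (e' ▸ Subgroup.mem_top _))
  have hidx : 2 ≤ MG.index := by
    rcases Nat.lt_or_ge MG.index 2 with h0 | h0
    · exfalso
      rcases Nat.le_one_iff_eq_zero_or_eq_one.mp (Nat.lt_succ_iff.mp h0) with h1 | h1
      · exact Subgroup.index_ne_zero_of_finite h1
      · exact hne (Subgroup.index_eq_one.mp h1)
    · exact h0
  have h18 : 18 ≤ Nat.card h.ker := by
    let g4 : h.ker := ⟨⟨gEl 4, (hone _ (Set.mem_insert _ _)).1⟩, (hone _ (Set.mem_insert _ _)).2⟩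
    let K' : Subgroup h.ker := (kerK.comap MG.subtype).comap h.ker.subtype
    have hK : Nat.card K' = 6 := by
      rw [← card_kerK]
      refine Nat.card_congr (Equiv.ofBijective
        (fun x => (⟨((x.1 : MG) : centK), x.2⟩ : kerK)) ⟨fun a b hab => ?_, fun y => ?_⟩)
      · exact Subtype.ext (Subtype.ext (Subtype.ext (congrArg (fun t : kerK => (t : centK)) hab)))
      · exact ⟨⟨⟨⟨y, (hone _ (Set.mem_insert_of_mem _ y.2)).1⟩, (hone _ (Set.mem_insert_of_mem _ y.2)).2⟩, y.2⟩, rfl⟩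
    have hmem : ∀ n : ℕ, g4 ^ n ∈ K' → gEl 4 ^ n ∈ actKer := fun n hn => by
      have : ((g4 ^ n : h.ker) : MG).1 ∈ kerK := hn
      exact kerK_le_actKer (by simpa [g4] using this)
    have hidx3 : 3 ≤ K'.index := by
      by_contra hlt
      push Not at hlt
      have hz : K'.index ≠ 0 := Subgroup.index_ne_zero_of_finite
      rcases (show K'.index = 1 ∨ K'.index = 2 by omega) with h1 | h1
      · have h2 : g4 ^ 1 ∈ K' := by
          rw [Subgroup.index_eq_one.mp h1]
          exact Subgroup.mem_top _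
        exact gEl_four_not_mem.1 (by simpa using hmem 1 h2)
      · exact gEl_four_not_mem.2 (hmem 2 (Subgroup.sq_mem_of_index_two h1 g4))
    rw [← K'.card_mul_index, hK]
    omega
  have hMG : Nat.card MG = Nat.card h.ker * 3265920 := by
    have h1 := h.ker.card_mul_index
    rw [Subgroup.index_ker, MonoidHom.range_eq_top.mpr hhs, Subgroup.card_top, ConwayPsu43.card_psu hF hw] at h1
    exact h1.symm
  have hle := card_centK_le
  rw [← MG.card_mul_index, hMG] at hle
  have e18 : Nat.card h.ker = 18 ∧ MG.index = 2 := by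
    have a1 : Nat.card h.ker * 3265920 * MG.index ≥ 18 * 3265920 * 2 :=
      Nat.mul_le_mul (Nat.mul_le_mul_right _ h18) hidx
    have e0 : Nat.card h.ker * MG.index = 36 := by nlinarith
    constructor <;> nlinarith
  exact ⟨MG, h, hhs, e18.2, hcT, e18.1, hone _ (Set.mem_insert _ _),
    fun x hx => hone x (Set.mem_insert_of_mem _ hx)⟩

end Model

end CfsgLib.MonsterType.Three
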