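import Cfsg.Agent.Lib.MonsterType.Three.Centralizer
import Cfsg.Agent.Lib.Sporadic.ConwayPsu43.Cert

/-! Checks on the blocks of classes and on the lines. -/

set_option autoImplicit false
set_option maxRecDepth 20000

namespace CfsgLib.MonsterType.Three

open Cfsg CfsgLib.Golay CfsgLib.Golay.LeechOrbit CfsgLib.Sporadic

/-- The block of a code, plus one. -/
noncomputable def blk (c : ℕ) : ℕ := blkT.get c

/-- A code in a block. -/
def blkRep (i : ℕ) : ℕ := blkRepL.getD i 0

theorem blkRep_ok : allFrom 0 112 (fun i => blk (blkRep i) == i + 1 && Nat.blt (blkRep i) 4096) = true := by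
  decide +kernel

/-- The move test at a code. -/
noncomputable def moveTest (k : Fin 4) (c : ℕ) : Bool :=
  forceN (blk c) fun b => b == 0 || (forceN (ConwayPsu43.succT.get (112 * k.val + (b - 1))) fun j =>
    Nat.blt j 112 && blk (img (k.castLE (by norm_num)) c) == j + 1)

theorem movesBlk0_0 : allFrom 0 1024 (moveTest 0) = true := by decide +kernel

theorem movesBlk0_1 : allFrom 1024 1024 (moveTest 0) = true := by decide +kernel

theorem movesBlk0_2 : allFrom 2048 1024 (moveTest 0) = true := by decide +kernel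

theorem movesBlk0_3 : allFrom 3072 1024 (moveTest 0) = true := by decide +kernel

theorem movesBlk1_0 : allFrom 0 1024 (moveTest 1) = true := by decide +kernel

theorem movesBlk1_1 : allFrom 1024 1024 (moveTest 1) = true := by decide +kernel

theorem movesBlk1_2 : allFrom 2048 1024 (moveTest 1) = true := by decide +kernel

theorem movesBlk1_3 : allFrom 3072 1024 (moveTest 1) = true := by decide +kernel

theorem movesBlk2_0 : allFrom 0 1024 (moveTest 2) = true := by decide +kernel

theorem movesBlk2_1 : allFrom 1024 1024 (moveTest 2) = true := by decide +kernel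

theorem movesBlk2_2 : allFrom 2048 1024 (moveTest 2) = true := by decide +kernel

theorem movesBlk2_3 : allFrom 3072 1024 (moveTest 2) = true := by decide +kernel

theorem movesBlk3_0 : allFrom 0 1024 (moveTest 3) = true := by decide +kernel

theorem movesBlk3_1 : allFrom 1024 1024 (moveTest 3) = true := by decide +kernel

theorem movesBlk3_2 : allFrom 2048 1024 (moveTest 3) = true := by decide +kernel

theorem movesBlk3_3 : allFrom 3072 1024 (moveTest 3) = true := by decide +kernel

theorem movesBlk0 {c : ℕ} (h : c < 4096) : (moveTest 0) c = true := by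
  rcases (show c < 1024 ∨ (1024 ≤ c ∧ c < 2048) ∨ (2048 ≤ c ∧ c < 3072) ∨ (3072 ≤ c ∧ c < 4096) by omega) with
    h' | ⟨a, b⟩ | ⟨a, b⟩ | ⟨a, b⟩
  exacts [allFrom_eq_true.mp movesBlk0_0 c (Nat.zero_le _) h', allFrom_eq_true.mp movesBlk0_1 c a b,
    allFrom_eq_true.mp movesBlk0_2 c a b, allFrom_eq_true.mp movesBlk0_3 c a b]

theorem movesBlk1 {c : ℕ} (h : c < 4096) : (moveTest 1) c = true := by
  rcases (show c < 1024 ∨ (1024 ≤ c ∧ c < 2048) ∨ (2048 ≤ c ∧ c < 3072) ∨ (3072 ≤ c ∧ c < 4096) by omega) with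
    h' | ⟨a, b⟩ | ⟨a, b⟩ | ⟨a, b⟩
  exacts [allFrom_eq_true.mp movesBlk1_0 c (Nat.zero_le _) h', allFrom_eq_true.mp movesBlk1_1 c a b,
    allFrom_eq_true.mp movesBlk1_2 c a b, allFrom_eq_true.mp movesBlk1_3 c a b]

theorem movesBlk2 {c : ℕ} (h : c < 4096) : (moveTest 2) c = true := by
  rcases (show c < 1024 ∨ (1024 ≤ c ∧ c < 2048) ∨ (2048 ≤ c ∧ c < 3072) ∨ (3072 ≤ c ∧ c < 4096) by omega) with
    h' | ⟨a, b⟩ | ⟨a, b⟩ | ⟨a, b⟩
  exacts [allFrom_eq_true.mp movesBlk2_0 c (Nat.zero_le _) h', allFrom_eq_true.mp movesBlk2_1 c a b,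
    allFrom_eq_true.mp movesBlk2_2 c a b, allFrom_eq_true.mp movesBlk2_3 c a b]

theorem movesBlk3 {c : ℕ} (h : c < 4096) : (moveTest 3) c = true := by
  rcases (show c < 1024 ∨ (1024 ≤ c ∧ c < 2048) ∨ (2048 ≤ c ∧ c < 3072) ∨ (3072 ≤ c ∧ c < 4096) by omega) with
    h' | ⟨a, b⟩ | ⟨a, b⟩ | ⟨a, b⟩
  exacts [allFrom_eq_true.mp movesBlk3_0 c (Nat.zero_le _) h', allFrom_eq_true.mp movesBlk3_1 c a b,
    allFrom_eq_true.mp movesBlk3_2 c a b, allFrom_eq_true.mp movesBlk3_3 c a b]

theorem moves_blk : ∀ k : Fin 4, ∀ {c : ℕ}, c < 4096 → moveTest k c = true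
  | ⟨0, _⟩, _, h => movesBlk0 h
  | ⟨1, _⟩, _, h => movesBlk1 h
  | ⟨2, _⟩, _, h => movesBlk2 h
  | ⟨3, _⟩, _, h => movesBlk3 h

theorem fixes_blk : allFrom 0 4096 (fun c => blk c == 0 || blk (img 4 c) == blk c) = true := by decide +kernel

/-- The line test at an index. -/
noncomputable def lineTest (k : Fin 4) (i : ℕ) : Bool :=
  forceN i fun i => forceN (ConwayPsu43.succT.get (112 * k.val + i)) fun j =>
  forceN (ConwayPsu43.base1 j) fun a => forceN (ConwayPsu43.base2 j) fun b =>
  forceN (ConwayPsu43.gVecs.getD k.val 0) fun v => forceN (ConwayPsu43.gPar.getD k.val 0) fun c =>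
    ConwayPsu43.inSpan a b (ConwayPsu43.tvC v c (ConwayPsu43.base1 i)) &&
      ConwayPsu43.inSpan a b (ConwayPsu43.tvC v c (ConwayPsu43.base2 i))

theorem moves_line : ∀ k : Fin 4, allFrom 0 112 (lineTest k) = true := by decide +kernel

/-- The commutation test at a code. -/
noncomputable def commTest (k : Fin 4) (c : ℕ) : Bool :=
  img (k.castLE (by norm_num)) (img 4 c) == img 4 (img (k.castLE (by norm_num)) c)

theorem commImg0_0 : allFrom 0 1024 (commTest 0) = true := by decide +kernel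

theorem commImg0_1 : allFrom 1024 1024 (commTest 0) = true := by decide +kernel

theorem commImg0_2 : allFrom 2048 1024 (commTest 0) = true := by decide +kernel

theorem commImg0_3 : allFrom 3072 1024 (commTest 0) = true := by decide +kernel

theorem commImg1_0 : allFrom 0 1024 (commTest 1) = true := by decide +kernel

theorem commImg1_1 : allFrom 1024 1024 (commTest 1) = true := by decide +kernel

theorem commImg1_2 : allFrom 2048 1024 (commTest 1) = true := by decide +kernel

theorem commImg1_3 : allFrom 3072 1024 (commTest 1) = true := by decide +kernel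

theorem commImg2_0 : allFrom 0 1024 (commTest 2) = true := by decide +kernel

theorem commImg2_1 : allFrom 1024 1024 (commTest 2) = true := by decide +kernel

theorem commImg2_2 : allFrom 2048 1024 (commTest 2) = true := by decide +kernel

theorem commImg2_3 : allFrom 3072 1024 (commTest 2) = true := by decide +kernel

theorem commImg3_0 : allFrom 0 1024 (commTest 3) = true := by decide +kernel

theorem commImg3_1 : allFrom 1024 1024 (commTest 3) = true := by decide +kernel

theorem commImg3_2 : allFrom 2048 1024 (commTest 3) = true := by decide +kernel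

theorem commImg3_3 : allFrom 3072 1024 (commTest 3) = true := by decide +kernel

theorem commImg0 {c : ℕ} (h : c < 4096) : (commTest 0) c = true := by
  rcases (show c < 1024 ∨ (1024 ≤ c ∧ c < 2048) ∨ (2048 ≤ c ∧ c < 3072) ∨ (3072 ≤ c ∧ c < 4096) by omega) with
    h' | ⟨a, b⟩ | ⟨a, b⟩ | ⟨a, b⟩
  exacts [allFrom_eq_true.mp commImg0_0 c (Nat.zero_le _) h', allFrom_eq_true.mp commImg0_1 c a b,
    allFrom_eq_true.mp commImg0_2 c a b, allFrom_eq_true.mp commImg0_3 c a b]

theorem commImg1 {c : ℕ} (h : c < 4096) : (commTest 1) c = true := by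
  rcases (show c < 1024 ∨ (1024 ≤ c ∧ c < 2048) ∨ (2048 ≤ c ∧ c < 3072) ∨ (3072 ≤ c ∧ c < 4096) by omega) with
    h' | ⟨a, b⟩ | ⟨a, b⟩ | ⟨a, b⟩
  exacts [allFrom_eq_true.mp commImg1_0 c (Nat.zero_le _) h', allFrom_eq_true.mp commImg1_1 c a b,
    allFrom_eq_true.mp commImg1_2 c a b, allFrom_eq_true.mp commImg1_3 c a b]

theorem commImg2 {c : ℕ} (h : c < 4096) : (commTest 2) c = true := by
  rcases (show c < 1024 ∨ (1024 ≤ c ∧ c < 2048) ∨ (2048 ≤ c ∧ c < 3072) ∨ (3072 ≤ c ∧ c < 4096) by omega) with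
    h' | ⟨a, b⟩ | ⟨a, b⟩ | ⟨a, b⟩
  exacts [allFrom_eq_true.mp commImg2_0 c (Nat.zero_le _) h', allFrom_eq_true.mp commImg2_1 c a b,
    allFrom_eq_true.mp commImg2_2 c a b, allFrom_eq_true.mp commImg2_3 c a b]

theorem commImg3 {c : ℕ} (h : c < 4096) : (commTest 3) c = true := by
  rcases (show c < 1024 ∨ (1024 ≤ c ∧ c < 2048) ∨ (2048 ≤ c ∧ c < 3072) ∨ (3072 ≤ c ∧ c < 4096) by omega) with
    h' | ⟨a, b⟩ | ⟨a, b⟩ | ⟨a, b⟩
  exacts [allFrom_eq_true.mp commImg3_0 c (Nat.zero_le _) h', allFrom_eq_true.mp commImg3_1 c a b,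
    allFrom_eq_true.mp commImg3_2 c a b, allFrom_eq_true.mp commImg3_3 c a b]

theorem comm_img : ∀ k : Fin 4, ∀ {c : ℕ}, c < 4096 → commTest k c = true
  | ⟨0, _⟩, _, h => commImg0 h
  | ⟨1, _⟩, _, h => commImg1 h
  | ⟨2, _⟩, _, h => commImg2 h
  | ⟨3, _⟩, _, h => commImg3 h

theorem not_comm_img : (List.range 12).any (fun j => !(img 5 (img 4 (2 ^ j)) == img 4 (img 5 (2 ^ j)))) = true := by
  decide +kernel

theorem move_img : (List.range 12).any (fun j => !(img 4 (2 ^ j) == 2 ^ j)) = true ∧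
    (List.range 12).any (fun j => !(img 4 (img 4 (2 ^ j)) == 2 ^ j)) = true := by
  decide +kernel

end CfsgLib.MonsterType.Three
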