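import Cfsg.Agent.Lib.MonsterType.Three.Psu
import Mathlib.FieldTheory.Finite.GaloisField

/-! The centraliser modulo `⟨-σ⟩`: a group `3.PSU₄(3).2` acting faithfully, with trivial 2-core. -/

set_option autoImplicit false
set_option maxHeartbeats 1600000

namespace CfsgLib.MonsterType.Three

open Cfsg CfsgLib.Golay CfsgLib.LeechEight CfsgLib.Sporadic CfsgLib.ClassicalGroups

/-- A square root of `-1` in a field with nine elements. -/
theorem exists_sq_neg_one {F : Type*} [Field F] [Fintype F] (hF : Fintype.card F = 3 ^ 2) :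
    ∃ w : F, w ^ 2 = -1 := by
  obtain ⟨w, hw⟩ := FiniteField.isSquare_neg_one_iff.mpr (show Fintype.card F % 4 ≠ 3 by rw [hF]; norm_num)
  exact ⟨w, by rw [pow_two]; exact hw.symm⟩

theorem actKer_le_stK : actKer ≤ stK := by
  intro x hx
  refine fixed_ext (fixed_smul_cent x.2 fixed_latE) fixed_latE ?_
  rw [kap_smul x fixed_latE, hx]

/-- In a group of order 18 over a normal subgroup of order 6, cubes lie in the subgroup. -/
theorem cube_mem {Γ : Type*} [Group Γ] [Finite Γ] {K M : Subgroup Γ} [K.Normal] {X : Type*} [Group X]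
    {h : M →* X} (hKM : K ≤ M) (hKh : ∀ x : M, (x : Γ) ∈ K → h x = 1) (h18 : Nat.card h.ker = 3 * Nat.card K)
    {y : Γ} (hy : y ∈ M) (h1 : h ⟨y, hy⟩ = 1) : y ^ 3 ∈ K := by
  let K' : Subgroup h.ker := (K.comap M.subtype).comap h.ker.subtype
  have hK'n : K'.Normal := ((inferInstance : K.Normal).comap _).comap _
  have hc : Nat.card K' = Nat.card K := by
    refine Nat.card_congr (Equiv.ofBijective
      (fun a => (⟨((a.1 : M) : Γ), a.2⟩ : K)) ⟨fun a b hab => ?_, fun b => ?_⟩)
    · exact Subtype.ext (Subtype.ext (Subtype.ext (congrArg (fun t : K => (t : Γ)) hab)))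
    · exact ⟨⟨⟨⟨b, hKM b.2⟩, hKh _ b.2⟩, b.2⟩, rfl⟩
  have hidx : K'.index = 3 := by
    have h2 := K'.card_mul_index
    rw [hc, h18, Nat.mul_comm 3] at h2
    exact Nat.eq_of_mul_eq_mul_left Nat.card_pos h2
  have hmem := Subgroup.pow_index_mem K' (⟨⟨y, hy⟩, h1⟩ : h.ker)
  rw [hidx] at hmem
  exact hmem

theorem exists_quot {F : Type*} [Field F] [Fintype F] (hF : Fintype.card F = 3 ^ 2) :
    (∀ x ∈ actKer, x ∈ kerK) ∧ pCore 2 (centK ⧸ kerK) = ⊥ ∧
      ∃ (NL ML : Subgroup (centK ⧸ kerK)) (_ : NL.Normal) (_ : ML.Normal) (h : ML →* Cfsg.PSU 4 F 3),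
        NL ≤ ML ∧ Nat.card NL = 3 ∧ ML.index = 2 ∧ Function.Surjective h ∧
        ∀ x : ML, h x = 1 ↔ (x : centK ⧸ kerK) ∈ NL := by
  classical
  have : Fact (Nat.Prime 2) := ⟨Nat.prime_two⟩
  have := CfsgLib.Golay.co0_finite
  obtain ⟨w, hw⟩ := exists_sq_neg_one hF
  have hsimple := psu_isSimpleGroup (n := 4) hF (by norm_num) (by norm_num)
  have hfinQ : Finite (Cfsg.PSU 4 F 3) :=
    Nat.finite_of_card_ne_zero (by rw [ConwayPsu43.card_psu hF hw]; norm_num)
  obtain ⟨MG, h, hhs, hidx, hcT, h18, ⟨ht, ht1⟩, hK⟩ := exists_layer hF hw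
  have hMGn : MG.Normal := Subgroup.normal_of_index_eq_two hidx
  have hKM : kerK ≤ MG := fun x hx => (hK x hx).1
  have hKh : ∀ x : MG, (x : centK) ∈ kerK → h x = 1 := fun x hx => by
    obtain ⟨hx', h1⟩ := hK x hx
    exact h1
  have hout : ∀ {x : centK}, x ∈ commT → x ∈ MG := fun {x} hx => by
    by_contra hxM
    refine gEl_five_not_commT ?_
    have ho : gEl 5 ∉ MG := fun h5 => gEl_five_not_commT (hcT h5)
    have h2 : x⁻¹ * gEl 5 ∈ MG := by
      rw [Subgroup.mul_mem_iff_of_index_two hidx, inv_mem_iff]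
      exact iff_of_false hxM ho
    simpa using mul_mem hx (hcT h2)
  have hmul : ∀ {x y : centK}, y⁻¹ * x ∈ kerK → ∀ c, act x c = act y c := fun {x y} hk c => by
    rw [show x = y * (y⁻¹ * x) by group, act_mul, kerK_le_actKer hk]
  -- the kernel of the action
  have hact : ∀ x ∈ actKer, x ∈ kerK := by
    intro x hx
    have hxM : x ∈ MG := hout (actKer_le_commT hx)
    set A : Subgroup MG := actKer.comap MG.subtype with hA
    have hAn : A.Normal := actKer_normal.comap _
    have hmap : A.map h = ⊥ := by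
      refine (IsSimpleGroup.eq_bot_or_eq_top_of_normal _ (hAn.map h hhs)).resolve_right fun htop => ?_
      have h1 : Nat.card (A.map h) ≤ Nat.card A :=
        Nat.card_le_card_of_surjective _ (h.subgroupMap_surjective A)
      have h2 : Nat.card A ≤ 69120 :=
        (Nat.card_le_card_of_injective (fun a : A => (⟨((a : MG) : centK), actKer_le_stK a.2⟩ : stK))
          fun a b e => Subtype.ext (Subtype.ext (congrArg (fun t : stK => (t : centK)) e))).trans card_stK_le
      rw [htop, Subgroup.card_top, ConwayPsu43.card_psu hF hw] at h1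
      omega
    have hker : A ≤ h.ker := fun a ha => by
      have : h a ∈ A.map h := ⟨a, ha, rfl⟩
      rw [hmap, Subgroup.mem_bot] at this
      exact this
    set K' : Subgroup MG := kerK.comap MG.subtype with hK'
    have hKA : K' ≤ A := fun a ha => kerK_le_actKer ha
    have hK6 : Nat.card K' = 6 := by
      rw [← card_kerK]
      exact Nat.card_congr (Subgroup.subgroupOfEquivOfLe hKM).toEquiv
    have hd1 := Subgroup.card_dvd_of_le hKA
    have hd2 := Subgroup.card_dvd_of_le hker
    rw [hK6] at hd1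
    rw [h18] at hd2
    have h18' : Nat.card A = 6 ∨ Nat.card A = 18 := by
      obtain ⟨m, hm⟩ := hd1
      have : m ∣ 3 := by
        rw [hm] at hd2
        exact Nat.dvd_of_mul_dvd_mul_left (by norm_num : 0 < 6) hd2
      rcases (Nat.dvd_prime Nat.prime_three).mp this with rfl | rfl <;> omega
    rcases h18' with h6 | h18'
    · have e1 : K' = A := Subgroup.eq_of_le_of_card_ge hKA (by rw [h6, hK6])
      have : (⟨x, hxM⟩ : MG) ∈ K' := e1 ▸ hx
      exact this
    · have e1 : A = h.ker := Subgroup.eq_of_le_of_card_ge hker (by rw [h18', h18])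
      exact absurd (show (⟨gEl 4, ht⟩ : MG) ∈ A by rw [e1]; exact ht1) gEl_four_not_mem.1
  refine ⟨hact, ?_, ?_⟩
  · -- the core
    rw [eq_bot_iff]
    intro p hp
    obtain ⟨x, rfl⟩ := QuotientGroup.mk_surjective p
    set P := (pCore 2 (centK ⧸ kerK)).comap (QuotientGroup.mk' kerK) with hP
    have hPn : P.Normal := (CfsgLib.LargeExtra.pCore_normal' 2 _).comap _
    have hPp : ∀ y ∈ P, ∃ k, y ^ 2 ^ k ∈ kerK := fun y hy => by
      obtain ⟨k, hk⟩ := CfsgLib.LargeExtra.pCore_isPGroup' 2 (centK ⧸ kerK) ⟨_, hy⟩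
      refine ⟨k, (QuotientGroup.eq_one_iff _).mp ?_⟩
      rw [QuotientGroup.mk_pow]
      exact congrArg Subtype.val hk
    set P' : Subgroup MG := P.comap MG.subtype with hP'
    have hP'n : P'.Normal := hPn.comap _
    have hmap : P'.map h = ⊥ := by
      refine (IsSimpleGroup.eq_bot_or_eq_top_of_normal _ (hP'n.map h hhs)).resolve_right fun htop => ?_
      have h2 : IsPGroup 2 (P'.map h) := by
        rintro ⟨_, y, hy, rfl⟩
        obtain ⟨k, hk⟩ := hPp _ hy
        exact ⟨k, Subtype.ext (by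
          rw [SubmonoidClass.coe_pow, OneMemClass.coe_one, ← map_pow]
          exact hKh _ (by rw [SubmonoidClass.coe_pow]; exact hk))⟩
      obtain ⟨k, hk⟩ := IsPGroup.iff_card.mp h2
      rw [htop, Subgroup.card_top, ConwayPsu43.card_psu hF hw] at hk
      have h3 : 3 ∣ 2 ^ k := hk ▸ (by norm_num)
      have := Nat.Prime.dvd_of_dvd_pow Nat.prime_three h3
      norm_num at this
    have hin : ∀ y ∈ P, y ∈ MG → y ∈ kerK := by
      intro y hy hyM
      have h1 : h ⟨y, hyM⟩ = 1 := by
        have : h ⟨y, hyM⟩ ∈ P'.map h := ⟨_, hy, rfl⟩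
        rwa [hmap, Subgroup.mem_bot] at this
      obtain ⟨k, hk⟩ := hPp y hy
      set q : centK ⧸ kerK := QuotientGroup.mk y with hq
      have hq2 : q ^ 2 ^ k = 1 := by rw [hq, ← QuotientGroup.mk_pow]; exact (QuotientGroup.eq_one_iff _).mpr hk
      have hq18 : q ^ 18 = 1 := by
        have h18m : (⟨⟨y, hyM⟩, h1⟩ : h.ker) ^ 18 = 1 := by rw [← h18]; exact pow_card_eq_one'
        rw [hq, ← QuotientGroup.mk_pow, (QuotientGroup.eq_one_iff _)]
        have := congrArg (fun t : h.ker => ((t : MG) : centK)) h18m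
        simp only [SubmonoidClass.coe_pow, OneMemClass.coe_one] at this
        rw [this]
        exact one_mem _
      have hq3 : q ^ 3 = 1 := by
        rw [hq, ← QuotientGroup.mk_pow, QuotientGroup.eq_one_iff]
        exact cube_mem hKM hKh (by rw [h18, card_kerK]) hyM h1
      have hcop : Nat.Coprime (2 ^ k) 3 := Nat.Coprime.pow_left k (by norm_num)
      have : orderOf q ∣ 1 := by
        rw [← hcop]
        exact Nat.dvd_gcd (orderOf_dvd_of_pow_eq_one hq2) (orderOf_dvd_of_pow_eq_one hq3)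
      rw [← QuotientGroup.eq_one_iff, ← hq]
      exact orderOf_eq_one_iff.mp (Nat.dvd_one.mp this)
    rw [Subgroup.mem_bot, QuotientGroup.eq_one_iff]
    have hxP : x ∈ P := hp
    refine hin x hxP (hout fun c => ?_)
    have hcomm : x * gEl 4 * x⁻¹ * (gEl 4)⁻¹ ∈ kerK := by
      refine hin _ ?_ ?_
      · have := mul_mem hxP (hPn.conj_mem _ (inv_mem hxP) (gEl 4))
        simpa [mul_assoc] using this
      · exact mul_mem (hMGn.conj_mem _ ht x) (inv_mem ht)
    rw [← act_mul, ← act_mul]
    refine hmul ?_ c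
    have hc' := kerK_normal.conj_mem _ hcomm (gEl 4 * x)⁻¹
    simpa [mul_assoc] using hc'
  · -- the chain
    set π := QuotientGroup.mk' kerK with hπ
    set MN : Subgroup centK := h.ker.map MG.subtype with hMN
    have hmemMN : ∀ x, x ∈ MN ↔ ∃ hx : x ∈ MG, h ⟨x, hx⟩ = 1 := fun x => by
      constructor
      · rintro ⟨a, ha, rfl⟩; exact ⟨a.2, ha⟩
      · rintro ⟨hx, h1⟩; exact ⟨⟨x, hx⟩, h1, rfl⟩
    have hKMN : kerK ≤ MN := fun x hx => (hmemMN x).mpr (hK x hx)
    have hNn : MN.Normal := by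
      refine ⟨fun a ha g => ?_⟩
      obtain ⟨hx, h1⟩ := (hmemMN a).mp ha
      set C : Subgroup MG := h.ker.comap (MulAut.conjNormal g⁻¹ : MG ≃* MG).toMonoidHom with hC
      have hCn : C.Normal := (inferInstance : h.ker.Normal).comap _
      have hcard : Nat.card C ≤ 18 := by
        rw [← h18]
        refine Nat.card_le_card_of_injective (fun a : C => (⟨_, a.2⟩ : h.ker)) fun a b e => ?_
        exact Subtype.ext ((MulAut.conjNormal g⁻¹ : MG ≃* MG).injective (congrArg Subtype.val e))
      have hbot : C.map h = ⊥ := by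
        refine (IsSimpleGroup.eq_bot_or_eq_top_of_normal _ (hCn.map h hhs)).resolve_right fun htop => ?_
        have h2 : Nat.card (C.map h) ≤ Nat.card C :=
          Nat.card_le_card_of_surjective _ (h.subgroupMap_surjective C)
        rw [htop, Subgroup.card_top, ConwayPsu43.card_psu hF hw] at h2
        omega
      refine (hmemMN _).mpr ⟨hMGn.conj_mem _ hx g, ?_⟩
      have hmem : (⟨g * a * g⁻¹, hMGn.conj_mem _ hx g⟩ : MG) ∈ C := by
        show h _ = 1
        refine (congrArg h (Subtype.ext ?_)).trans h1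
        show g⁻¹ * (g * a * g⁻¹) * g⁻¹⁻¹ = a
        group
      have := Subgroup.mem_map_of_mem h hmem
      rwa [hbot, Subgroup.mem_bot] at this
    let πM : MG →* MG.map π := π.subgroupMap MG
    have hker : πM.ker ≤ h.ker := fun a ha => by
      refine hKh a ?_
      rw [← QuotientGroup.eq_one_iff]
      exact congrArg Subtype.val (show πM a = 1 from ha)
    let hL : MG.map π →* Cfsg.PSU 4 F 3 := πM.liftOfSurjective (π.subgroupMap_surjective MG) ⟨h, hker⟩
    have hLeq : ∀ a, hL (πM a) = h a := fun a => πM.liftOfRightInverse_comp_apply _ _ _ a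
    refine ⟨MN.map π, MG.map π, hNn.map π (QuotientGroup.mk'_surjective _),
      hMGn.map π (QuotientGroup.mk'_surjective _), hL, ?_, ?_, ?_, ?_, ?_⟩
    · exact Subgroup.map_mono (Subgroup.map_subtype_le _)
    · have h1 := Subgroup.card_mul_index (MN.map π)
      have h2 := Subgroup.card_mul_index MN
      have h3 := Subgroup.card_mul_index kerK
      have hi : (MN.map π).index = MN.index :=
        Subgroup.index_map_eq _ (QuotientGroup.mk'_surjective _) ((QuotientGroup.ker_mk' kerK).trans_le hKMN)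
      have hc : Nat.card MN = 18 := by
        rw [← h18]; exact Nat.card_congr (h.ker.equivMapOfInjective _ MG.subtype_injective).toEquiv.symm
      have hq : Nat.card (centK ⧸ kerK) = kerK.index := rfl
      rw [hi, hq] at h1
      rw [hc] at h2
      rw [card_kerK] at h3
      have hpos : 0 < MN.index := Nat.pos_of_ne_zero Subgroup.index_ne_zero_of_finite
      have h4 : (6 * Nat.card ↥(MN.map π)) * MN.index = 18 * MN.index := by rw [mul_assoc, h1, h3, h2]
      have := Nat.eq_of_mul_eq_mul_right hpos h4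
      omega
    · rw [Subgroup.index_map_eq _ (QuotientGroup.mk'_surjective _) ((QuotientGroup.ker_mk' kerK).trans_le hKM)]
      exact hidx
    · intro q
      obtain ⟨a, rfl⟩ := hhs q
      exact ⟨πM a, hLeq a⟩
    · intro x
      obtain ⟨a, rfl⟩ := π.subgroupMap_surjective MG x
      show hL (πM a) = 1 ↔ _
      rw [hLeq]
      constructor
      · exact fun h1 => ⟨a, (hmemMN _).mpr ⟨a.2, h1⟩, rfl⟩
      · rintro ⟨b, hb, hbe⟩
        obtain ⟨hbM, hb1⟩ := (hmemMN b).mp hb
        have hk : (⟨b, hbM⟩ : MG)⁻¹ * a ∈ h.ker := hKh _ (by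
          show b⁻¹ * (a : centK) ∈ kerK
          exact QuotientGroup.eq.mp hbe)
        simpa [MonoidHom.mem_ker, hb1] using hk

end CfsgLib.MonsterType.Three
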